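import Cfsg.Agent.SC6.B2

/-! The extraspecial group of order 32 over a self-centralising eight-group, with an
automorphism of order three fixing only the centre. -/

set_option autoImplicit false
set_option linter.unusedSectionVars false

namespace Cfsg.Agent.CV.V8x

open Cfsg Cfsg.Agent.H49 Cfsg.Agent.NO6 Cfsg.Agent.SC6 Subgroup

universe u

variable {G : Type u} [Group G] [Finite G] {v x a b g r q t : G} {V Q K R A : Subgroup G}

theorem zconj (hg : g ∈ 𝒞[v]) (ha : a ∈ zpowers v) : g * a * g⁻¹ ∈ zpowers v :=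
  conj_mem_of_norm (cent_zpowers v ▸ cent_le_norm (zpowers v)) hg ha

/-- the elements of `C(v)` centralising `R` modulo `v` -/
def zc (v : G) (R : Subgroup G) : Subgroup G where
  carrier := {a | a ∈ 𝒞[v] ∧ ∀ r ∈ R, r * a * r⁻¹ * a⁻¹ ∈ zpowers v}
  one_mem' := ⟨one_mem _, fun r _ => by simp⟩
  mul_mem' := fun {a b} ha hb => ⟨mul_mem ha.1 hb.1, fun r hr => by
    have := mul_mem (ha.2 r hr) (zconj ha.1 (hb.2 r hr))
    convert this using 1
    group⟩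
  inv_mem' := fun {a} ha => ⟨inv_mem ha.1, fun r hr => by
    have := zconj (inv_mem ha.1) (inv_mem (ha.2 r hr))
    convert this using 1
    group⟩

theorem zc_le : zc v R ≤ 𝒞[v] := fun _ h => h.1

theorem zc_symm (hR : R ≤ 𝒞[v]) (h : A ≤ zc v R) : R ≤ zc v A := fun r hr =>
  ⟨hR hr, fun a ha => by
    have := inv_mem ((h ha).2 r hr)
    convert this using 1
    group⟩

theorem zc_anti (h : A ≤ R) : zc v R ≤ zc v A := fun _ ha => ⟨ha.1, fun r hr => ha.2 r (h hr)⟩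

theorem norm_zc (h1 : g ∈ 𝒞[v]) (h2 : g ∈ 𝒩(R)) : g ∈ 𝒩(zc v R) :=
  mem_norm_of_cj_le fun _ hc' => by
    obtain ⟨c, hc, rfl⟩ := mem_cj'.1 hc'
    refine ⟨mul_mem (mul_mem h1 hc.1) (inv_mem h1), fun r hr => ?_⟩
    have := zconj h1 (hc.2 _ (conj_mem_of_norm' le_rfl h2 hr))
    convert this using 1
    group

theorem v_mem_zc (hR : R ≤ 𝒞[v]) : v ∈ zc v R :=
  ⟨self_mem_cent1 v, fun r hr => by rw [conj_eq_iff.2 (hR hr)]; simp⟩

theorem norm2 (h1 : g ∈ 𝒩(A)) (h2 : g ∈ 𝒩(K)) : g ∈ 𝒩(A ⊓ K) :=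
  norm_inf (A := zpowers g) (zpowers_le.2 h1) (zpowers_le.2 h2) (mem_zpowers g)

theorem three (h : AF v x Q) (hK : K ≤ Q) (hv : v ∈ K) (hn : x ∈ 𝒩(K)) (c : Nat.card K ≤ 64) :
    K ≤ zpowers v ∨ Nat.card K = 8 ∨ Nat.card K = 32 := by
  have e := (h.of_le hK hv hn).mod
  obtain ⟨n, hn⟩ := IsPGroup.iff_card.1 (h.two.to_le hK)
  have : n < 7 := (Nat.pow_lt_pow_iff_right (by norm_num : 1 < 2)).1 (by omega)
  have k : Nat.card K = 2 → K ≤ zpowers v := fun k =>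
    (eq_of_le_of_card_eq (zpowers_le.2 hv) (by rw [k, Nat.card_zpowers, h.oz])).ge
  interval_cases n <;> first | omega | exact Or.inl (k hn)

/-- a proper subgroup of a group of order eight over `⟨v⟩` -/
theorem four (hv : orderOf v = 2) (c : Nat.card A = 8) (hK : K ≤ A) (h0 : ¬ A ≤ K) (h : v ∈ K)
    (ha : a ∈ K) (hb : b ∈ K) (a0 : a ∉ zpowers v) (b0 : b ∉ zpowers v) : a * b ∈ zpowers v := by
  have e1 := card_mul_relIndex (zpowers_le.2 h)
  have e2 := card_mul_relIndex hK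
  have e3 : K.relIndex A ≠ 1 := fun k => h0 (relIndex_eq_one.1 k)
  have e4 : (zpowers v).relIndex K ≠ 1 := fun k => a0 (relIndex_eq_one.1 k ha)
  have e5 := relIndex_pos (zpowers v) K
  have e6 := relIndex_pos K A
  rw [Nat.card_zpowers, hv] at e1
  rw [← e1, c] at e2
  have e7 : (zpowers v).relIndex K = 2 := by
    generalize (zpowers v).relIndex K = m at *
    generalize K.relIndex A = n at *
    have : m ≤ 2 := by nlinarith [show 2 ≤ n by omega]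
    omega
  exact mul_mem_of_two e7 ha hb a0 b0

/-- The standing data. -/
structure D (v x : G) (V Q : Subgroup G) : Prop where
  af : AF v x Q
  le : V ≤ Q
  mem : v ∈ V
  c8 : Nat.card V = 8
  sq : ∀ a ∈ V, a * a = 1
  ab : V ≤ 𝒞(V)
  cent : 𝒞(V) ≤ V
  xn : x ∈ 𝒩(V)
  qn : Q ≤ 𝒩(V)
  c32 : Nat.card Q = 32

namespace D

variable (d : D v x V Q)
include d

theorem xv : x ∈ 𝒞[v] := mem_cent1.2 d.af.zx.symm

theorem tri (hK : K ≤ Q) (hv : v ∈ K) (hn : x ∈ 𝒩(K)) :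
    K ≤ zpowers v ∨ Nat.card K = 8 ∨ Nat.card K = 32 :=
  three d.af hK hv hn (by have := card_le_of_le hK; rw [d.c32] at this; omega)

theorem eq8 (c : Nat.card A = 8) (hA : A ≤ Q) (hK : K ≤ A) (hv : v ∈ K) (hn : x ∈ 𝒩(K))
    (h0 : ¬ K ≤ zpowers v) : K = A := by
  have := card_le_of_le hK
  exact eq_of_le_of_card_eq hK (by have := (d.tri (hK.trans hA) hv hn).resolve_left h0; omega)

theorem v0 : ¬ V ≤ zpowers v := fun k => by
  have := card_le_of_le k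
  rw [Nat.card_zpowers, d.af.oz, d.c8] at this
  omega

theorem q0 : ¬ Q ≤ V := fun k => by
  have := card_le_of_le k
  rw [d.c32, d.c8] at this
  omega

theorem V_le : V ≤ zc v Q := by
  obtain ⟨a, ha, a0, -, h⟩ := exists_A d.af.oz d.af.two d.af.cen d.le d.qn d.v0
  have := d.eq8 d.c8 d.le (inf_le_left : V ⊓ zc v Q ≤ V) ⟨d.mem, v_mem_zc d.af.cen⟩
    (norm2 d.xn (norm_zc d.xv d.af.norm)) fun k => a0 (k ⟨ha, d.af.cen (d.le ha), h⟩)
  exact this.ge.trans inf_le_right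

theorem idx : V.relIndex Q = 4 := by
  have := card_mul_relIndex d.le
  rw [d.c8, d.c32] at this
  omega

theorem Q_le : Q ≤ zc v Q := fun g hg => ⟨d.af.cen hg, fun a ha =>
  d.af.comm_of_four d.le d.mem d.idx (by
    rintro _ ⟨b, hb, rfl⟩ _ ⟨r, hr, rfl⟩
    exact coset_comm_iff.2 ((d.V_le hb).2 r hr)) hg ha⟩

theorem center : Q ⊓ 𝒞(Q) ≤ zpowers v := by
  by_contra k
  have h1 : Q ⊓ 𝒞(Q) ≤ V := inf_le_right.trans ((cent_anti d.le).trans d.cent)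
  have := d.eq8 d.c8 d.le h1 ⟨d.af.mem, le_cent1_iff.1 d.af.cen⟩
    (norm2 d.af.norm (norm_cent le_rfl d.af.norm)) k
  exact d.q0 ((cent_symm (this.ge.trans inf_le_right)).trans d.cent)

theorem sqz (hg : g ∈ Q) : g * g ∈ zpowers v := d.center ⟨mul_mem hg hg, fun a ha => by
  rw [← mul_inv_eq_iff_eq_mul, show a * (g * g) * a⁻¹ = a * g * a⁻¹ * (a * g * a⁻¹) by group]
  rcases cj_cases d.af.oz ((d.Q_le hg).2 a ha) with e | e <;> rw [e]
  calc _ = v * (g * v) * g := by group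
    _ = (v * v) * (g * g) := by rw [mem_cent1.1 (d.af.cen hg)]; group
    _ = _ := by rw [d.af.zz, one_mul]⟩

theorem es : IsExtraspecial 2 Q :=
  H57.isExtraspecial_of_hom Q.subtype (subtype_injective Q)
    (range_subtype Q) (e := 5) d.c32 d.af.mem (ne_of d.af.oz)
    (fun g hg => ⟨fun k => (mem_zp d.af.oz).1 (d.center ⟨hg, k⟩), by
      rintro (rfl | rfl) a ha
      exacts [by simp, mem_cent1.1 (d.af.cen ha)]⟩)
    (fun g hg => (mem_zp d.af.oz).1 (by rw [pow_two]; exact d.sqz hg)) (by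
      by_contra! k
      exact d.q0 fun a ha => d.cent fun b hb => k b (d.le hb) a ha)

theorem norm_of_zc (hg : g ∈ zc v V) : g ∈ 𝒩(V) := mem_norm_of_cj_le fun _ hc' => by
  obtain ⟨c, hc, rfl⟩ := mem_cj'.1 hc'
  have := mul_mem (inv_mem (zpowers_le.2 d.mem (hg.2 c hc))) hc
  convert this using 1
  group

theorem gen (ha : a ∈ V) (a0 : a ∉ zpowers v) (h1 : v ∈ K) (h2 : a ∈ K)
    (h3 : x * a * x⁻¹ ∈ K) : V ≤ K := by
  have hb := conj_mem_of_norm le_rfl d.xn ha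
  have m1 : v ∈ closure {v, a, x * a * x⁻¹} := subset_closure (by simp)
  have m2 : a ∈ closure {v, a, x * a * x⁻¹} := subset_closure (by simp)
  have m3 : x * a * x⁻¹ ∈ closure {v, a, x * a * x⁻¹} := subset_closure (by simp)
  have := d.eq8 (K := closure {v, a, x * a * x⁻¹}) d.c8 d.le
    ((closure_le _).2 (by rintro _ (rfl | rfl | rfl); exacts [d.mem, ha, hb])) m1
    (mem_norm_of_cj_le (cj_le_iff.2 ((closure_le _).2 fun c hc => by
      have k : x * c * x⁻¹ ∈ closure {v, a, x * a * x⁻¹} := by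
        rcases hc with rfl | rfl | rfl
        · rwa [conj_eq_iff.2 d.xv]
        · exact m3
        · have := mul_mem (inv_mem (mul_mem m2 m3)) (zpowers_le.2 m1 (d.af.prod (d.le ha)))
          rw [inv_mul_cancel_left] at this
          rwa [show x * (x * a * x⁻¹) * x⁻¹ = x * x * a * (x * x)⁻¹ by group, d.af.xx, inv_inv]
      simpa [mul_assoc] using conj_mem_cj (g := x⁻¹).2 k))) fun k => a0 (k m2)
  exact this.ge.trans ((closure_le _).2 (by rintro _ (rfl | rfl | rfl) <;> assumption))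

section ov

variable (two : IsPGroup 2 R) (hR : Q ≤ R) (hn : R ≤ 𝒩(Q)) (hc : R ≤ 𝒞[v]) (hx : x ∈ 𝒩(R))
  (hV : R ⊓ 𝒩(V) ≤ Q) (h0 : ¬ R ≤ Q)
include two hR hn hc hx hV h0

theorem L8 : Nat.card ↥(Q ⊓ zc v R) = 8 := by
  obtain ⟨a, ha, a0, -, h⟩ := exists_A d.af.oz two hc hR hn fun k => d.v0 (d.le.trans k)
  rcases d.tri (inf_le_left : Q ⊓ zc v R ≤ Q) ⟨d.af.mem, v_mem_zc hc⟩
    (norm2 d.af.norm (norm_zc d.xv hx)) with k | k | k
  · exact (a0 (k ⟨ha, d.af.cen ha, h⟩)).elim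
  · exact k
  · have := (eq_of_le_of_card_eq (inf_le_left : Q ⊓ zc v R ≤ Q) (k.trans d.c32.symm)).ge.trans
      inf_le_right
    exact (h0 fun r hr => hV ⟨hr, d.norm_of_zc (zc_symm hc (d.le.trans this) hr)⟩).elim

theorem comm_mem (hr : r ∈ R) (ha : a ∈ Q) : r * a * r⁻¹ * a⁻¹ ∈ Q ⊓ 𝒞(Q ⊓ zc v R) := by
  refine ⟨Q.mul_mem (conj_mem_of_norm hn hr ha) (Q.inv_mem ha), fun l hl => ?_⟩
  have h1 : a * (r⁻¹ * l * r) * a⁻¹ * (r⁻¹ * l * r)⁻¹ = a * l * a⁻¹ * l⁻¹ := by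
    rcases cj_cases d.af.oz (hl.2.2 r⁻¹ (inv_mem hr)) with e | e <;> rw [inv_inv] at e <;> rw [e]
    have c := mem_cent1.1 (d.af.cen ha)
    have c' := mem_cent1.1 (zpowers_le.2 (self_mem_cent1 v) ((d.Q_le hl.1).2 a ha))
    calc _ = (a * v) * l * a⁻¹ * l⁻¹ * v⁻¹ := by group
      _ = v * (a * l * a⁻¹ * l⁻¹) * v⁻¹ := by rw [c]; group
      _ = _ := by rw [← c']; group
  have h2 := conj_eq_iff.2 (mem_cent1_comm.1 (zpowers_le.2 (mem_cent1_comm.1 (hc hr))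
    ((d.Q_le hl.1).2 a ha)))
  have h3 : r * a * r⁻¹ * l * (r * a * r⁻¹)⁻¹ = a * l * a⁻¹ := by
    calc _ = r * (a * (r⁻¹ * l * r) * a⁻¹ * (r⁻¹ * l * r)⁻¹) * r⁻¹ * l := by group
      _ = _ := by rw [h1, h2]; group
  have h4 := conj_eq_iff.2 (mem_cent1_comm.1 (zpowers_le.2
    (mem_cent1_comm.1 (d.af.cen (conj_mem_of_norm hn hr ha))) ((d.Q_le hl.1).2 a⁻¹ (inv_mem ha))))
  have h5 := conj_eq_iff.2 (mem_cent1_comm.1 (zpowers_le.2
    (mem_cent1_comm.1 (d.af.cen ha)) ((d.Q_le hl.1).2 a⁻¹ (inv_mem ha))))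
  generalize r * a * r⁻¹ = b at h3 h4 ⊢
  symm
  rw [← mul_inv_eq_iff_eq_mul]
  calc _ = b * (a⁻¹ * l * a⁻¹⁻¹ * l⁻¹) * b⁻¹ * (b * l * b⁻¹) := by group
    _ = a * (a⁻¹ * l * a⁻¹⁻¹ * l⁻¹) * a⁻¹ * (a * l * a⁻¹) := by rw [h4, h5, h3]
    _ = _ := by group

theorem Lc : Q ⊓ 𝒞(Q ⊓ zc v R) = Q ⊓ zc v R := by
  have c8 := d.L8 two hR hn hc hx hV h0
  have xL := norm2 d.af.norm (norm_zc d.xv hx)
  have vL : v ∈ Q ⊓ zc v R := ⟨d.af.mem, v_mem_zc hc⟩
  have vL' : v ∈ Q ⊓ 𝒞(Q ⊓ zc v R) := ⟨d.af.mem, le_cent1_iff.1 (inf_le_left.trans d.af.cen)⟩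
  have xL' := norm2 d.af.norm (norm_cent le_rfl xL)
  have n0 : ¬ Q ⊓ 𝒞(Q ⊓ zc v R) ≤ zpowers v := fun k => h0 fun r hr =>
    hV ⟨hr, d.norm_of_zc (zc_symm hc (fun a ha => ⟨d.af.cen (d.le ha), fun r hr =>
      k (d.comm_mem two hR hn hc hx hV h0 hr (d.le ha))⟩) hr)⟩
  have c8' : Nat.card ↥(Q ⊓ 𝒞(Q ⊓ zc v R)) = 8 := by
    refine ((d.tri inf_le_left vL' xL').resolve_left n0).resolve_right fun k => ?_
    have := cent_symm ((eq_of_le_of_card_eq inf_le_left (k.trans d.c32.symm)).ge.trans inf_le_right)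
    have := card_le_of_le ((le_inf inf_le_left this).trans d.center)
    rw [c8, Nat.card_zpowers, d.af.oz] at this
    omega
  obtain ⟨a, ha, a0, -, h⟩ := exists_A d.af.oz two hc (inf_le_left.trans hR)
    (norm_inf hn (norm_cent (norm_inf hn fun r hr => norm_zc (hc hr) (le_normalizer hr)))) n0
  have := d.eq8 c8 inf_le_left (inf_le_right : Q ⊓ 𝒞(Q ⊓ zc v R) ⊓ (Q ⊓ zc v R) ≤ _) ⟨vL', vL⟩
    (norm2 xL' xL) fun k => a0 (k ⟨ha, ha.1, d.af.cen ha.1, h⟩)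
  exact (eq_of_le_of_card_eq (this.ge.trans inf_le_left) (c8.trans c8'.symm)).symm

theorem Lsq (ha : a ∈ Q ⊓ zc v R) : a * a = 1 := by
  have e := d.Lc two hR hn hc hx hV h0
  have xL := norm2 d.af.norm (norm_zc d.xv hx)
  have hb := conj_mem_of_norm le_rfl xL ha
  have hc' := conj_mem_of_norm' le_rfl xL ha
  have k1 := (e.ge hb).2 a ha
  have k2 := (e.ge hc').2 _ (mul_mem ha hb)
  have k3 : ∀ c ∈ zpowers v, c * c = 1 := fun c hc => by
    rcases (mem_zp d.af.oz).1 hc with rfl | rfl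
    exacts [one_mul _, d.af.zz]
  have k4 := k3 _ (d.af.prod ha.1)
  have k5 := conj_eq_iff.2 (mem_cent1_comm.1 (zpowers_le.2 (mem_cent1_comm.1 d.xv) (d.sqz ha.1)))
  have k6 : x⁻¹ * (a * a) * x = a * a := by
    conv_lhs => rw [← k5]
    group
  have k7 : x * a * x⁻¹ * (x * a * x⁻¹) = a * a := by rw [← k5]; group
  have k8 : x⁻¹ * a * x * (x⁻¹ * a * x) = a * a := by rw [← k6]; group
  have k9 := k3 _ (d.sqz ha.1)
  generalize x * a * x⁻¹ = b at *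
  generalize x⁻¹ * a * x = c at *
  calc a * a = a * a * (b * b) * (c * c) := by rw [k7, k8, k9, one_mul]
    _ = a * (a * b) * b * c * c := by group
    _ = a * (b * a) * b * c * c := by rw [k1]
    _ = a * b * (a * b * c) * c := by group
    _ = 1 := by rw [k2, ← k4]; group

theorem two_idx : Q.relIndex R = 2 := by
  have e := d.Lc two hR hn hc hx hV h0
  have c8 := d.L8 two hR hn hc hx hV h0
  have xL := norm2 d.af.norm (norm_zc d.xv hx)
  have vL : v ∈ Q ⊓ zc v R := ⟨d.af.mem, v_mem_zc hc⟩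
  have LV : V ⊓ (Q ⊓ zc v R) ≤ zpowers v := by
    by_contra k
    have k1 := d.eq8 d.c8 d.le inf_le_left ⟨d.mem, vL⟩ (norm2 d.xn xL) k
    exact h0 fun r hr => hV ⟨hr, d.norm_of_zc
      (zc_symm hc (k1.ge.trans (inf_le_right.trans inf_le_right)) hr)⟩
  have dm : ∀ r ∈ R, ∀ a ∈ V, r * a * r⁻¹ * a⁻¹ ∈ (Q ⊓ zc v R) ⊓ 𝒞[a] := fun r hr a ha => by
    have k := e.le (d.comm_mem two hR hn hc hx hV h0 hr (d.le ha))
    refine ⟨k, mem_cent1.2 ?_⟩
    have k1 := d.Lsq two hR hn hc hx hV h0 k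
    have k2 := conj_sq (d.sq a ha) r
    have k3 := d.sq a ha
    generalize r * a * r⁻¹ = b at *
    rw [inv_eq_of_sq k3] at k1 ⊢
    have : b * a = a * b := by
      rw [← inv_eq_of_sq k1, mul_inv_rev, inv_eq_of_sq k2, inv_eq_of_sq k3]
    rw [← mul_assoc, ← this]
  obtain ⟨a, ha, a0⟩ := SetLike.not_le_iff_exists.1 d.v0
  have key : ∀ r ∈ R, r * a * r⁻¹ * a⁻¹ ∈ zpowers v → r ∈ Q := fun r hr k => by
    refine hV ⟨hr, mem_norm_of_cj_le (cj_le_iff.2 (d.gen ha a0 ?_ ?_ ?_))⟩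
    · have := conj_mem_cj (g := r⁻¹).2 d.mem
      rwa [conj_eq_iff.2 (inv_mem (hc hr))] at this
    · simpa [mul_assoc] using conj_mem_cj (g := r⁻¹).2 (mul_mem (zpowers_le.2 d.mem k) ha)
    · have hb := conj_mem_of_norm le_rfl d.xn ha
      have k1 := dm r hr _ hb
      have k2 : r * (x * a * x⁻¹) * r⁻¹ ∈ 𝒞[a] := by
        have k3 := conj_mem_cj (g := r).2 (cent_le_cent1 ha (d.ab hb))
        rw [cj_cent1] at k3
        have k4 := zpowers_le.2 (mem_cent1_comm.1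
          (d.af.cen (conj_mem_of_norm hn hr (d.le hb)))) k
        exact mem_cent1_comm.1 (by
          simpa [mul_assoc] using Subgroup.mul_mem _ (Subgroup.inv_mem _ k4) (mem_cent1_comm.1 k3))
      have k5 := d.cent (le_cent1_iff.1 (d.gen (K := 𝒞[_]) ha a0 (mem_cent1_comm.1 k1.1.2.1)
        (mem_cent1_comm.1 (mul_mem k2 (inv_mem (cent_le_cent1 ha (d.ab hb)))))
        (mem_cent1_comm.1 k1.2)))
      simpa [mul_assoc] using conj_mem_cj (g := r⁻¹).2 (mul_mem k5 hb)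
  obtain ⟨r, hr, r0⟩ := SetLike.not_le_iff_exists.1 h0
  refine relIndex_eq_two_of hr r0 fun q hq => or_iff_not_imp_left.2 fun q0 => ?_
  refine key _ (mul_mem (inv_mem hr) hq) ?_
  have := four d.af.oz c8 (inf_le_left : (Q ⊓ zc v R) ⊓ 𝒞[a] ≤ _)
    (fun k => a0 (LV ⟨ha, e.le ⟨d.le ha, le_cent1_iff.1 (k.trans inf_le_right)⟩⟩))
    ⟨vL, mem_cent1_comm.1 (d.af.cen (d.le ha))⟩ (dm q hq a ha) (inv_mem (dm r hr a ha))
    (fun k => q0 (key q hq k)) fun k => r0 (key r hr (inv_mem_iff.1 k))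
  have := zconj (inv_mem (hc hr)) this
  convert this using 1
  group

theorem norm_le (g1 : g ∈ 𝒩(R)) (g2 : g ∈ 𝒞[v]) : g ∈ 𝒩(Q) := by
  by_contra k
  have h2 := d.two_idx two hR hn hc hx hV h0
  have l1 : cj g Q ≤ R := cj_le_of_mem_norm hR g1
  obtain ⟨u, hu, u0⟩ := SetLike.not_le_iff_exists.1 fun e => k (mem_norm_of_cj_le e)
  have l2 : cj g Q ≤ zc v (cj g Q) := fun a ha' => ⟨hc (l1 ha'), fun b hb' => by
    obtain ⟨a, ha, rfl⟩ := mem_cj'.1 ha'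
    obtain ⟨b, hb, rfl⟩ := mem_cj'.1 hb'
    have := zconj g2 ((d.Q_le ha).2 b hb)
    convert this using 1
    group⟩
  have l3 : R ≤ zc v (Q ⊓ cj g Q) := fun r hr => by
    by_cases k : r ∈ Q
    · exact zc_anti inf_le_left (d.Q_le k)
    · simpa using Subgroup.mul_mem _ (zc_anti (inf_le_right : Q ⊓ cj g Q ≤ _) (l2 hu))
        (zc_anti inf_le_left (d.Q_le (inv_mul_mem_of_two h2 (l1 hu) hr u0 k)))
  have e1 := card_le_of_le (le_inf inf_le_left (zc_symm (inf_le_left.trans d.af.cen) l3))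
  have e2 := card_mul_le hR l1
  have e3 := card_mul_relIndex hR
  rw [d.L8 two hR hn hc hx hV h0] at e1
  rw [card_cj, ← e3, h2, d.c32] at e2
  omega

end ov

theorem cos (hq : q ∈ Q) (q0 : q ∉ V) (ht : t ∈ Q) (t0 : t ∉ V) :
    ∃ t', IsConj t t' ∧ q⁻¹ * t' ∈ V := by
  have qq : q * q ∈ V := zpowers_le.2 d.mem (d.sqz hq)
  have h2 := relIndex_sup_zpowers (d.qn hq) qq q0
  have hK : V ⊔ zpowers q ≤ Q := sup_le d.le (zpowers_le.2 hq)
  have h3 : (V ⊔ zpowers q).relIndex Q = 2 := by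
    have := relIndex_mul_relIndex _ _ _ (le_sup_left : V ≤ V ⊔ zpowers q) hK
    rw [h2, d.idx] at this
    omega
  have m := fun e => mem_sup_zpowers (d.qn hq) qq (e := e)
  have hb := d.af.conj_mem hq
  have b0 : x * q * x⁻¹ ∉ V ⊔ zpowers q := fun k => by
    have e1 := (d.af.of_le hK (mem_sup_left d.mem) (mem_norm_of_cj_le (by
      rw [cj_sup, cj_eq_of_mem_norm d.xn, cj_zpowers]
      exact sup_le le_sup_left (zpowers_le.2 k)))).mod
    rw [← card_mul_relIndex (le_sup_left : V ≤ V ⊔ zpowers q), h2, d.c8] at e1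
    omega
  by_cases k : t ∈ V ⊔ zpowers q
  · exact ⟨t, IsConj.refl t, ((m t).1 k).resolve_left t0⟩
  rcases (m _).1 (inv_mul_mem_of_two h3 hb ht b0 k) with e | e
  · refine ⟨x⁻¹ * t * x, isConj_iff.2 ⟨x⁻¹, by group⟩, ?_⟩
    have := conj_mem_of_norm' le_rfl d.xn e
    convert this using 1
    group
  · refine ⟨x * t * x⁻¹, isConj_iff.2 ⟨x, rfl⟩, ?_⟩
    have := conj_mem_of_norm le_rfl d.xn (mul_mem (mul_mem (mul_mem
      (inv_mem (zpowers_le.2 d.mem (d.af.prod hq)))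
      (conj_mem_of_norm d.qn hq (zpowers_le.2 d.mem (d.sqz hb)))) qq) e)
    convert this using 1
    group

theorem invol {t₁ t₂ : G} (hq : q ∈ Q) (q0 : q ∉ V) (qq : q * q = 1) (h1 : q⁻¹ * t₁ ∈ V)
    (h2 : q⁻¹ * t₂ ∈ V) (s1 : t₁ * t₁ = 1) (s2 : t₂ * t₂ = 1) (n1 : ¬ IsConj q t₁)
    (n2 : ¬ IsConj q t₂) : IsConj t₁ t₂ := by
  have U0 : ¬ V ≤ V ⊓ 𝒞[q] := fun k => q0 (d.cent (le_cent1_iff.1 (k.trans inf_le_right)))
  obtain ⟨a, ha, a0⟩ := SetLike.not_le_iff_exists.1 U0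
  have e : a * q * a⁻¹ = v * q := (cj_cases d.af.oz ((d.Q_le hq).2 a (d.le ha))).resolve_left
    fun k => a0 ⟨ha, conj_eq_iff.1 k⟩
  have k1 : ∀ t t', q⁻¹ * t ∈ V → t⁻¹ * t' ∈ zpowers v → IsConj t t' := fun t t' h k => by
    rcases (mem_zp d.af.oz).1 k with k | k
    · rw [inv_mul_eq_one.1 k]
    · refine isConj_iff.2 ⟨a, ?_⟩
      have c1 := d.ab h a ha
      have c2 := mem_cent1.1 (mul_mem (d.af.cen hq) (d.af.cen (d.le h)))
      rw [mul_inv_cancel_left] at c2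
      calc _ = a * q * a⁻¹ * (a * (q⁻¹ * t)) * a⁻¹ := by group
        _ = v * t := by rw [e, c1]; group
        _ = t' := by rw [← c2, ← k]; group
  have k2 : ∀ t, q⁻¹ * t ∈ V → t * t = 1 → q⁻¹ * t ∈ V ⊓ 𝒞[q] := fun t h s => ⟨h, mem_cent1.2 (by
    have c := d.sq _ h
    rw [inv_eq_of_sq qq] at c ⊢
    calc q * t * q = q * t * (q * t) * t := by rw [mul_assoc _ _ t, mul_assoc q t t, s, mul_one]
      _ = _ := by rw [c, ← mul_assoc, qq])⟩
  refine k1 _ _ h1 ?_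
  have := four d.af.oz d.c8 inf_le_left U0 ⟨d.mem, mem_cent1_comm.1 (d.af.cen hq)⟩
    (inv_mem (k2 _ h1 s1)) (k2 _ h2 s2)
    (fun k => n1 (k1 _ _ (by simp) (inv_mem_iff.1 k))) fun k => n2 (k1 _ _ (by simp) k)
  convert this using 1
  group

end D

end Cfsg.Agent.CV.V8x
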