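import Cfsg.Prelude.Def_RootSubgroups
import Cfsg.Agent.H22.GWGen
import Cfsg.Agent.H80.Rank2
import Cfsg.Agent.H69.UniqueP
import Cfsg.Agent.H66.SL2Sylow2
import Cfsg.Agent.H5.Lift
import Cfsg.Agent.H21.Basic
import Cfsg.Agent.G2Q.SLb
import Cfsg.Agent.S0205

/-! Groups with a unique involution, cyclic Sylow `3`- and `5`-subgroups and no Frobenius section with
complement of order `3` contain `SL₂(p)`, `p ≥ 7`, unless the soluble radical has index at most `120`. -/

set_option autoImplicit false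

namespace Cfsg.Agent.H12

open Subgroup Function
open scoped commutatorElement

namespace FX

/-- No elementary abelian subgroup of order `r ^ 2`. -/
def El (r : ℕ) (H : Type*) [Group H] : Prop :=
  ∀ a b : H, Commute a b → a ^ r = 1 → b ^ r = 1 → b ≠ 1 → a ∈ zpowers b

/-- At most one involution. -/
def Inv (H : Type*) [Group H] : Prop := ∀ z y : H, z * z = 1 → z ≠ 1 → y * y = 1 → y ≠ 1 → z = y

/-- The Frobenius condition. -/
def Fr (H : Type*) [Group H] : Prop :=
  ∀ x g u v : H, x ^ 3 = 1 → x ≠ 1 → u * (g * x * g⁻¹) = x → v * x = x * u → Commute u v → u ≠ v → u * v ≠ 1 → False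

variable {G T : Type*} [Group G] [Group T]

theorem El.inj {r : ℕ} (h : El r G) (f : T →* G) (hf : Injective f) : El r T := by
  intro a b hc ha hb b1
  obtain ⟨n, hn⟩ := h (f a) (f b) (hc.map f) (by rw [← map_pow, ha, map_one]) (by rw [← map_pow, hb, map_one])
    (by rwa [Ne, map_eq_one_iff f hf])
  exact ⟨n, hf (by rw [map_zpow]; exact hn)⟩

theorem Inv.inj (h : Inv G) (f : T →* G) (hf : Injective f) : Inv T := fun z y z2 z1 y2 y1 =>
  hf (h _ _ (by rw [← map_mul, z2, map_one]) (by rwa [Ne, map_eq_one_iff f hf]) (by rw [← map_mul, y2, map_one])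
    (by rwa [Ne, map_eq_one_iff f hf]))

theorem Fr.inj (h : Fr G) (f : T →* G) (hf : Injective f) : Fr T := fun x g u v x3 x1 e1 e2 c ne n1 =>
  h (f x) (f g) (f u) (f v) (by rw [← map_pow, x3, map_one]) (by rwa [Ne, map_eq_one_iff f hf])
    (by rw [← map_inv, ← map_mul, ← map_mul, ← map_mul, e1]) (by rw [← map_mul, ← map_mul, e2]) (c.map f)
    (hf.ne ne) (by rwa [← map_mul, Ne, map_eq_one_iff f hf])

theorem El.cyc [Finite G] {r : ℕ} [hr : Fact r.Prime] (h : El r G) (r2 : r ≠ 2) {P : Subgroup G}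
    (hP : IsPGroup r P) : IsCyclic P := by
  have h' := h.inj P.subtype Subtype.val_injective
  refine H80.isCyclic_of_unique r2 hP fun x y hx hy => ?_
  have x1 : x ≠ 1 := fun e => by rw [e, orderOf_one] at hx; exact hr.out.ne_one hx.symm
  have : Nontrivial P := ⟨x, 1, x1⟩
  have := hP.center_nontrivial
  obtain ⟨z, hz⟩ := exists_prime_orderOf_dvd_card' (G := center P) r (by
    obtain ⟨n, hn, e⟩ := (IsPGroup.nontrivial_iff_card (hP.to_subgroup (center P))).1 this
    rw [e]; exact dvd_pow_self r hn.ne')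
  rw [← orderOf_coe] at hz
  have z1 : (z : P) ≠ 1 := fun e => by rw [e, orderOf_one] at hz; exact hr.out.ne_one hz.symm
  have zr : (z : P) ^ r = 1 := by rw [← hz, pow_orderOf_eq_one]
  have m1 := h' z x (mem_center_iff.1 z.2 x).symm zr (by rw [← hx, pow_orderOf_eq_one]) x1
  have m2 := h' y z (mem_center_iff.1 z.2 y) (by rw [← hy, pow_orderOf_eq_one]) zr z1
  exact zpowers_le.2 m1 m2

theorem El.surj [Finite G] {r : ℕ} [hr : Fact r.Prime] (h : El r G) (r2 : r ≠ 2) (f : G →* T)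
    (hf : Surjective f) : El r T := by
  have : Finite T := .of_surjective f hf
  intro a b hc ha hb b1
  have pa : ∀ a : T, a ^ r = 1 → IsPGroup r (zpowers a) := fun a ha => by
    rintro ⟨_, n, rfl⟩
    exact ⟨1, Subtype.ext (by
      change (a ^ n) ^ r ^ 1 = 1
      rw [pow_one, ← zpow_natCast, ← zpow_mul, mul_comm, zpow_mul, zpow_natCast, ha, one_zpow])⟩
  have hK : IsPGroup r (zpowers a ⊔ zpowers b : Subgroup T) := by
    refine (pa a ha).to_sup_of_normal_left' (pa b hb) (zpowers_le.2 (mem_normalizer_fintype ?_))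
    rintro _ ⟨n, rfl⟩
    exact ⟨n, by simp only; rw [← (hc.zpow_left n).eq, mul_inv_cancel_right]⟩
  obtain ⟨Q, hQ⟩ := hK.exists_le_sylow
  obtain ⟨P, rfl⟩ := Sylow.mapSurjective_surjective hf r Q
  have := h.cyc r2 P.isPGroup'
  rw [Sylow.coe_mapSurjective] at hQ
  have : IsCyclic ((P : Subgroup G).map f) := isCyclic_of_surjective _ (f.subgroupMap_surjective P)
  have ob : orderOf b = r := orderOf_eq_prime hb b1
  obtain ⟨n, hn⟩ := H69.mem_zpowers_of_isCyclic (x := (⟨b, hQ (mem_sup_right (mem_zpowers b))⟩ : (P : Subgroup G).map f))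
    (y := ⟨a, hQ (mem_sup_left (mem_zpowers a))⟩) (Subtype.ext (by
      rw [← orderOf_coe, coe_pow]; simpa [ob] using ha))
  exact ⟨n, congrArg Subtype.val hn⟩

theorem Inv.surj [Finite G] (h : Inv G) (f : G →* T) (hf : Surjective f) (hk : Odd (Nat.card f.ker)) : Inv T := by
  have lift : ∀ z : T, z * z = 1 → ∃ g, g * g = 1 ∧ f g = z := by
    intro z z2
    obtain ⟨g, rfl⟩ := hf z
    have m : g * g ∈ f.ker := by rw [MonoidHom.mem_ker, map_mul, z2]
    obtain ⟨k, hk⟩ := hk
    refine ⟨g ^ (2 * k + 1), ?_, ?_⟩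
    · rw [← (Commute.refl g).mul_pow, ← hk]
      exact orderOf_dvd_iff_pow_eq_one.1 (orderOf_dvd_natCard _ m)
    · rw [map_pow, pow_succ, pow_mul, pow_two, z2, one_pow, one_mul]
  intro z y z2 z1 y2 y1
  obtain ⟨a, a2, rfl⟩ := lift z z2
  obtain ⟨b, b2, rfl⟩ := lift y y2
  rw [h a b a2 (fun e => z1 (by rw [e, map_one])) b2 (fun e => y1 (by rw [e, map_one]))]

theorem Inv.central (h : Inv G) {z : G} (z2 : z * z = 1) (g : G) : g * z = z * g := by
  by_cases z1 : z = 1
  · simp [z1]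
  have := h (g * z * g⁻¹) z (by rw [conj_mul, z2]; simp) (by simpa using z1) z2 z1
  exact mul_inv_eq_iff_eq_mul.1 this

theorem comm_of_sq {a b : G} (hb : Odd (orderOf b)) (h : b * b * a = a * (b * b)) : b * a = a * b :=
  mem_centralizer_singleton_iff.1 (H8.mem_of_sq_mem_of_odd hb
    (by rw [pow_two]; exact mem_centralizer_singleton_iff.2 h))

/-- The configuration `SL₂(3)`, with relations as actions by conjugation. -/
structure Tet (I J X : G ≃* G) (x : G) : Prop where
  ii : ∀ g, I (I g) = g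
  jj : ∀ g, J (J g) = g
  ij : ∀ g, I (J g) = J (I g)
  xi : ∀ g, J (X g) = X (I g)
  xj : ∀ g, I (J (X g)) = X (J g)
  xx : ∀ g, X g = x * g * x⁻¹
  x3 : x ^ 3 = 1
  x1 : x ≠ 1

variable {I J X : G ≃* G} {x : G}

theorem Tet.xk (h : Tet I J X x) (g : G) : I (X g) = X (I (J g)) := by
  rw [← h.xi, ← h.xj, ← h.ij, h.jj]

theorem Tet.xxx (h : Tet I J X x) (g : G) : X (X (X g)) = g := by
  rw [h.xx, h.xx, h.xx]
  calc _ = x * (x * x) * g * (x * (x * x))⁻¹ := by simp only [mul_assoc, _root_.mul_inv_rev]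
    _ = g := by rw [← pow_three, h.x3]; simp

/-- The final contradiction. -/
theorem Tet.false (h : Tet I J X x) (fr : Fr G) {M : Subgroup G} (ho : ∀ g ∈ M, Odd (orderOf g))
    (hx : ∀ g ∈ M, X g ∈ M) (hc : ∀ g ∈ ⁅M, M⁆, I g = g) {a : G} (ha : a ∈ M) (a1 : a ≠ 1)
    (ia : I a = a) (ja : J a = a⁻¹) : False := by
  have hb := hx a ha
  have hc' := hx _ hb
  have jb : J (X a) = X a := by rw [h.xi, ia]
  have ib : I (X a) = (X a)⁻¹ := by rw [h.xk, ja, map_inv, ia, map_inv]
  have jc : J (X (X a)) = (X (X a))⁻¹ := by rw [h.xi, ib, map_inv]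
  have ic : I (X (X a)) = (X (X a))⁻¹ := by rw [h.xk, jb, ib, map_inv]
  have c1 : Commute (X a) a := by
    have e := hc _ (commutator_mem_commutator ha hb)
    rw [map_commutatorElement, ia, ib, commutatorElement_def, commutatorElement_def] at e
    refine comm_of_sq (ho _ hb) ?_
    generalize X a = b at *
    calc b * b * a = a * (b * a⁻¹ * (a * b⁻¹ * a⁻¹ * b⁻¹⁻¹) * b) * a := by group
      _ = _ := by rw [e]; group
  have c2 : Commute (X (X a)) (X a) := c1.map X
  have c3 : Commute a (X (X a)) := by simpa only [h.xxx] using c2.map X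
  refine fr x a (X a * a⁻¹) (X (X a) * (X a)⁻¹) h.x3 h.x1 (by rw [h.xx]; group)
    (by rw [h.xx (X a), h.xx a]; group) ?_ ?_ ?_
  all_goals
    have b1 : X a ≠ 1 := by simpa using a1
    generalize X (X a) = c at *
    generalize X a = b at *
  · exact ((c2.symm.mul_right (Commute.refl b).inv_right).mul_left
      (c3.inv_left.mul_right c1.symm.inv_inv))
  · intro e
    have e1 : b * b = c * a := by
      calc b * b = b * a⁻¹ * (a * b) := by group
        _ = _ := by rw [e, ← c1.eq]; group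
    have e2 := congrArg J e1
    rw [map_mul, map_mul, jb, jc, ja] at e2
    have e3 : b * b * (b * b) = 1 := by
      conv_lhs => enter [1]; rw [e1]
      rw [e2, ← _root_.mul_inv_rev, c3.eq, mul_inv_cancel]
    exact b1 (H8.eq_one_of_sq_of_odd (ho b hb) (H8.eq_one_of_sq_of_odd (ho _ (mul_mem hb hb)) e3))
  · intro e
    have e1 : c = a := by
      have : a⁻¹ * c = 1 := by
        calc _ = b⁻¹ * (b * a⁻¹ * (c * b⁻¹)) * b := by group
          _ = 1 := by rw [e]; group
      exact (inv_mul_eq_one.1 this).symm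
    rw [e1, ia] at ic
    exact a1 (H8.eq_one_of_sq_of_odd (ho a ha) (by nth_rw 1 [ic]; rw [inv_mul_cancel]))

/-- The quaternion group centralises every invariant subgroup of odd order. -/
theorem Tet.cent [Finite G] (h : Tet I J X x) (fr : Fr G) (n : ℕ) : ∀ M : Subgroup G, Nat.card M ≤ n →
    Odd (Nat.card M) → (∀ g ∈ M, I g ∈ M) → (∀ g ∈ M, J g ∈ M) → (∀ g ∈ M, X g ∈ M) → ∀ g ∈ M, I g = g := by
  induction n with
  | zero => intro M hM; have := Nat.card_pos (α := M); omega
  | succ n ih =>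
    intro M hM ho hi hj hx g hg
    by_contra hne
    have hM1 : M ≠ ⊥ := by rintro rfl; rw [mem_bot.1 hg] at hne; simp at hne
    have := S0205.result ho
    have hlt : ⁅M, M⁆ < M := by
      have := (nontrivial_iff_ne_bot M).2 hM1
      rw [← M.range_subtype, MonoidHom.range_eq_map, ← map_commutator, map_subtype_lt_map_subtype]
      exact Group.IsSolvable.commutator_lt_top_of_nontrivial M
    have cm : ∀ Y : G ≃* G, (∀ g ∈ M, Y g ∈ M) → ∀ g ∈ ⁅M, M⁆, Y g ∈ ⁅M, M⁆ := by
      intro Y hy g hg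
      have : ⁅M, M⁆ ≤ (⁅M, M⁆ : Subgroup G).comap Y.toMonoidHom := by
        refine commutator_le.2 fun a ha b hb => ?_
        rw [mem_comap, map_commutatorElement]
        exact commutator_mem_commutator (hy a ha) (hy b hb)
      exact this hg
    have hc := ih ⁅M, M⁆ (by have := H21.card_lt_of_lt hlt; omega) (ho.of_dvd_nat (card_dvd_of_le hlt.le))
      (cm I hi) (cm J hj) (cm X hx)
    have od : ∀ g ∈ M, Odd (orderOf g) := fun g hg => ho.of_dvd_nat (orderOf_dvd_natCard _ hg)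
    have hcj : ∀ g ∈ ⁅M, M⁆, J g = g := fun g hg => by
      have := h.xi (X (X g))
      rwa [hc _ (cm X hx _ (cm X hx g hg)), h.xxx] at this
    obtain ⟨a, ha, a1, ia⟩ : ∃ a ∈ M, a ≠ 1 ∧ I a = a⁻¹ := by
      refine ⟨g⁻¹ * I g, mul_mem (inv_mem hg) (hi g hg), fun e => hne (inv_mul_eq_one.1 e).symm, ?_⟩
      rw [map_mul, h.ii, map_inv]; group
    have hb := hj a ha
    have ib : I (J a) = (J a)⁻¹ := by rw [h.ij, ia, map_inv]
    have ab : Commute a (J a) := by
      have m := commutator_mem_commutator ha hb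
      have e := hcj _ m
      rw [map_commutatorElement, h.jj, ← commutatorElement_inv] at e
      refine commutatorElement_eq_one_iff_commute.1 (H8.eq_one_of_sq_of_odd (od _ (hlt.le m)) ?_)
      nth_rw 1 [← e]; rw [inv_mul_cancel]
    by_cases e : a * J a = 1
    · have ja : J a = a⁻¹ := eq_inv_of_mul_eq_one_right e
      refine h.false fr od hx hc (hx a ha) (by simpa using a1) ?_ ?_
      · rw [h.xk, ja, map_inv, ia, inv_inv]
      · rw [h.xi, ia, map_inv]
    · have i1 : I (a * J a) = (a * J a)⁻¹ := by rw [map_mul, ia, ib, ab.eq, _root_.mul_inv_rev]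
      have j1 : J (a * J a) = a * J a := by rw [map_mul, h.jj, ab.eq]
      have hab := mul_mem ha hb
      generalize a * J a = c at *
      have k1 := h.xi (X (X c))
      have k2 := h.xj (X (X c))
      rw [h.xxx, j1] at k1 k2
      rw [i1] at k2
      refine h.false fr od hx hc (hx _ (hx c hab)) (by simpa using e) (X.injective ?_) (X.injective ?_)
      · rw [← k1, h.xxx]
      · rw [← k2, map_inv, h.xxx]

theorem not_three [Finite G] (hP : Group.IsPerfect G) (el : El 3 G) (ξ : G →* T) (hs : Surjective ξ)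
    (hmin : ∀ K : Subgroup G, K.map ξ = ⊤ → K = ⊤) : ¬ 3 ∣ Nat.card ξ.ker := by
  intro h3
  have : Fact (Nat.Prime 3) := ⟨Nat.prime_three⟩
  obtain ⟨y, hy⟩ := exists_prime_orderOf_dvd_card' (G := ξ.ker) 3 h3
  obtain ⟨M, hM⟩ := (IsPGroup.of_card (p := 3) (n := 1) (G := zpowers y)
    (by rw [Nat.card_zpowers, hy, pow_one])).exists_le_sylow
  have hN : normalizer (((M : Subgroup ξ.ker).map ξ.ker.subtype : Subgroup G) : Set G) = ⊤ := by
    refine hmin _ ?_
    have := congrArg (Subgroup.map ξ) (Sylow.normalizer_sup_eq_top M)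
    rwa [Subgroup.map_sup, (Subgroup.map_eq_bot_iff _).2 le_rfl, sup_bot_eq, map_top_of_surjective _ hs] at this
  obtain ⟨P, hPM⟩ := (M.isPGroup'.map ξ.ker.subtype).exists_le_sylow
  have hyM : (y : G) ∈ (M : Subgroup ξ.ker).map ξ.ker.subtype := mem_map_of_mem _ (hM (mem_zpowers y))
  have hc := el.cyc (by norm_num) P.isPGroup'
  have cP : ∀ a ∈ (P : Subgroup G), ∀ b ∈ (P : Subgroup G), a * b = b * a := fun a ha b hb =>
    congrArg Subtype.val (hc.isMulCommutative.is_comm.comm (⟨a, ha⟩ : (P : Subgroup G)) ⟨b, hb⟩)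
  rw [← orderOf_coe] at hy
  have y3 : (y : G) ^ 3 = 1 := by rw [← hy, pow_orderOf_eq_one]
  have y1 : (y : G) ≠ 1 := fun e => by rw [e, orderOf_one] at hy; omega
  have sq : ∀ g : G, g * g ∈ centralizer ({(y : G)} : Set G) := fun g => by
    have m : g * y * g⁻¹ ∈ (M : Subgroup ξ.ker).map ξ.ker.subtype :=
      (mem_normalizer_iff.1 (hN ▸ mem_top g) _).1 hyM
    exact mem_centralizer_singleton_iff.2 (H22.sq_comm_of_conj_mem y3
      (el _ _ (cP _ (hPM m) _ (hPM hyM)) (by rw [conj_pow, y3]; simp) y3 y1))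
  have hle : commutator G ≤ centralizer ({(y : G)} : Set G) := by
    refine commutator_le.2 fun a _ b _ => ?_
    rw [show ⁅a, b⁆ = a * a * (a⁻¹ * b * (a⁻¹ * b)) * (b⁻¹ * b⁻¹) by rw [commutatorElement_def]; group]
    exact mul_mem (mul_mem (sq _) (sq _)) (sq _)
  have hz : (y : G) ∈ center G := mem_center_iff.2 fun g =>
    mem_centralizer_singleton_iff.1 (hle Group.IsPerfect.mem_commutator)
  have := H3.center_inf_commutator_inf_sylow_le P ⟨⟨hz, Group.IsPerfect.mem_commutator⟩, hPM hyM⟩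
  refine y1 (mem_bot.1 ((commutator_le.2 fun a ha b hb => ?_ : _ ≤ (⊥ : Subgroup G)) this))
  exact mem_bot.2 (commutatorElement_eq_one_iff_mul_comm.2 (cP a ha b hb))

open G2Q H90 in
/-- The binary tetrahedral group in `SL₂(F)`. -/
theorem exists_tet {F : Type*} [Field F] [Finite F] (h2 : (2 : F) ≠ 0) : ∃ (B : Subgroup (G2Q.SL2 F)) (i j x : B) (n : ℕ),
    Nat.card B ∣ 2 ^ n * 3 ∧ i.1 * i.1 = -1 ∧ (i * i) * (i * i) = 1 ∧ j * j = i * i ∧ j * i = i * j * (i * i) ∧
      x * i = j * x ∧ x * j = i * j * x ∧ x ^ 3 = 1 ∧ x ≠ 1 := by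
  have hi : (ww : G2Q.SL2 F) * ww = -1 := ww_sq
  obtain ⟨j, hj⟩ := exists_anti h2 (g := Matrix.SpecialLinearGroup.toGL (ww : G2Q.SL2 F)) (sq_neg_iff.1 hi)
  have jj := anti_sq h2 hj
  rw [gc_toGL] at hj
  generalize (ww : G2Q.SL2 F) = i at hi hj
  have ji : j * i = -(i * j) := by
    rw [mul_inv_eq_iff_eq_mul] at hj; rw [hj, neg_mul, neg_neg]
  obtain ⟨w, w1, w2, w3⟩ := H66.exists_omega h2 hi jj ji
  have p4 : ∀ a : G2Q.SL2 F, a * a = -1 → IsPGroup 2 (zpowers a) := fun a ha => by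
    rintro ⟨_, n, rfl⟩
    exact ⟨2, Subtype.ext (by
      change (a ^ n) ^ 2 ^ 2 = 1
      rw [← zpow_natCast, ← zpow_mul, mul_comm, zpow_mul, zpow_natCast, show 2 ^ 2 = 2 * 2 from rfl, pow_mul, pow_two a,
        ha, neg_one_sq, one_zpow])⟩
  have i1 : i⁻¹ = -i := inv_eq_of_mul_eq_one_right (by rw [mul_neg, hi, neg_neg])
  have hQ : IsPGroup 2 (zpowers i ⊔ zpowers j : Subgroup (G2Q.SL2 F)) := by
    refine (p4 i hi).to_sup_of_normal_left' (p4 j jj) (zpowers_le.2 (mem_normalizer_fintype ?_))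
    rintro _ ⟨n, rfl⟩
    refine ⟨-n, ?_⟩
    simp only
    rw [← conj_zpow, ji, neg_mul, mul_inv_cancel_right, ← i1, inv_zpow, zpow_neg]
  have x3 : (-w) ^ 3 = 1 := by rw [neg_pow, w3]; norm_num
  have xi : -w * i = j * -w := by rw [neg_mul, mul_neg, w1]
  have xj : -w * j = i * j * -w := by rw [neg_mul, mul_neg, w2]
  generalize -w = x at x3 xi xj
  have mi : i ∈ (zpowers i ⊔ zpowers j : Subgroup (G2Q.SL2 F)) := mem_sup_left (mem_zpowers i)
  have mj : j ∈ (zpowers i ⊔ zpowers j : Subgroup (G2Q.SL2 F)) := mem_sup_right (mem_zpowers j)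
  have hn : zpowers x ≤ normalizer ((zpowers i ⊔ zpowers j : Subgroup (G2Q.SL2 F)) : Set (G2Q.SL2 F)) := by
    refine zpowers_le.2 (mem_normalizer_fintype fun g hg => ?_)
    have : (zpowers i ⊔ zpowers j : Subgroup (G2Q.SL2 F)) ≤
        (zpowers i ⊔ zpowers j : Subgroup (G2Q.SL2 F)).comap (MulAut.conj x).toMonoidHom := by
      refine sup_le (zpowers_le.2 ?_) (zpowers_le.2 ?_)
      · change x * i * x⁻¹ ∈ (zpowers i ⊔ zpowers j : Subgroup (G2Q.SL2 F))
        rwa [xi, mul_inv_cancel_right]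
      · change x * j * x⁻¹ ∈ (zpowers i ⊔ zpowers j : Subgroup (G2Q.SL2 F))
        rw [xj, mul_inv_cancel_right]; exact mul_mem mi mj
    exact this hg
  obtain ⟨n, hn'⟩ := hQ.exists_card_eq
  refine ⟨zpowers i ⊔ zpowers j ⊔ zpowers x, ⟨i, mem_sup_left mi⟩, ⟨j, mem_sup_left mj⟩,
    ⟨x, mem_sup_right (mem_zpowers x)⟩, n, ?_, hi, Subtype.ext ?_, Subtype.ext ?_, Subtype.ext ?_, Subtype.ext xi,
    Subtype.ext xj, Subtype.ext x3, fun e => ?_⟩
  · refine (Dvd.intro _ (H21.card_sup_mul_card_inf hn)).trans ?_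
    rw [hn', Nat.card_zpowers]
    exact mul_dvd_mul_left _ (orderOf_dvd_of_pow_eq_one x3)
  · change i * i * (i * i) = 1
    rw [hi]; simp
  · change j * j = i * i
    rw [hi, jj]
  · change j * i = i * j * (i * i)
    rw [hi, ji]; simp
  · have e' : x = 1 := congrArg Subtype.val e
    rw [e', one_mul, mul_one] at xi
    rw [xi, jj, neg_neg] at ji
    exact sl_neg_ne h2 ji

theorem min_inj [Finite G] {F : Type*} [Field F] [Fintype F] (p : ℕ) [Fact p.Prime] [CharP F p]
    (hodd : Odd (Fintype.card F)) (h3 : 3 < Fintype.card F) (h9 : Fintype.card F ≠ 9) (inv : Inv G) (el : El 3 G)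
    (fr : Fr G) (ξ : G →* G2Q.SL2 F) (hs : Surjective ξ) (hk : Odd (Nat.card ξ.ker))
    (hmin : ∀ K : Subgroup G, K.map ξ = ⊤ → K = ⊤) : Injective ξ := by
  have h2 : (2 : F) ≠ 0 := G2Q.two_ne_zero_of_odd (by rwa [Nat.card_eq_fintype_card])
  have hP : Group.IsPerfect G := Group.isPerfect_def.2 (hmin _ (by
    rw [map_commutator_eq, MonoidHom.range_eq_top.2 hs, ← commutator_def]
    exact Group.isPerfect_def.1 (H22.sl2_perfect h3)))
  have n3 := not_three hP el ξ hs hmin
  obtain ⟨B, i, j, x, n, hB, i2, ii, jj, ji, xi, xj, x3, x1⟩ := exists_tet h2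
  obtain ⟨σ, hσ⟩ := H5.exists_lift_of_coprime ξ hs B.subtype (Nat.Coprime.of_dvd_right hB
    (Nat.Coprime.mul_right (Nat.Coprime.pow_right _ (Nat.coprime_two_right.2 hk))
      ((Nat.Prime.coprime_iff_not_dvd Nat.prime_three).2 n3).symm))
  have hσ' : ∀ b, ξ (σ b) = b := fun b => DFunLike.congr_fun hσ b
  have zc : ∀ g, g * σ (i * i) = σ (i * i) * g := inv.central (by rw [← map_mul, ii, map_one])
  have tet : Tet (MulAut.conj (σ i)) (MulAut.conj (σ j)) (MulAut.conj (σ x)) (σ x) := by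
    have cz : ∀ g, MulAut.conj (σ (i * i)) g = g := fun g => by
      rw [MulAut.conj_apply, ← zc, mul_inv_cancel_right]
    refine ⟨fun g => ?_, fun g => ?_, fun g => ?_, fun g => ?_, fun g => ?_, fun g => rfl,
      by rw [← map_pow, x3, map_one], fun e => x1 (Subtype.ext (by rw [← hσ', e, map_one]; rfl))⟩
    · rw [← MulAut.mul_apply, ← map_mul, ← map_mul, cz]
    · rw [← MulAut.mul_apply, ← map_mul, ← map_mul, jj, cz]
    · rw [← MulAut.mul_apply (e₁ := MulAut.conj (σ j)), ← map_mul, ← map_mul, ji, map_mul σ, map_mul, MulAut.mul_apply, cz,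
        map_mul σ, map_mul, MulAut.mul_apply]
    · rw [← MulAut.mul_apply, ← MulAut.mul_apply, ← map_mul, ← map_mul, ← map_mul, ← map_mul, xi]
    · rw [← MulAut.mul_apply, ← MulAut.mul_apply, ← MulAut.mul_apply, ← map_mul, ← map_mul, ← map_mul, ← map_mul,
        ← map_mul, ← map_mul, xj]
  have nk : ∀ y, ∀ g ∈ ξ.ker, MulAut.conj y g ∈ ξ.ker := fun y g hg => ξ.normal_ker.conj_mem g hg y
  have hi : σ i ∈ centralizer (ξ.ker : Set G) := mem_centralizer_iff.2 fun g hg =>
    (mul_inv_eq_iff_eq_mul.1 (tet.cent fr _ _ le_rfl hk (nk _) (nk _) (nk _) g hg)).symm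
  have hC : centralizer (ξ.ker : Set G) = ⊤ := by
    refine hmin _ ?_
    have : ((centralizer (ξ.ker : Set G)).map ξ).Normal := Normal.map inferInstance ξ hs
    refine G2Q.normal_top_of_card h2 (by rw [Nat.card_eq_fintype_card]; omega) _ (x := i.1) ⟨_, hi, hσ' i⟩ ?_ ?_ <;>
      intro e <;> rw [e] at i2 <;> exact G2Q.sl_neg_ne h2 (by simpa using i2.symm)
  have hc : ξ.ker ≤ center G := fun g hg => mem_center_iff.2 fun y =>
    (mem_centralizer_iff.1 (hC ▸ mem_top y) g hg).symm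
  rw [← MonoidHom.ker_eq_bot_iff, ← card_eq_one]
  by_contra h1
  obtain ⟨r, hr, hd⟩ := Nat.exists_prime_and_dvd h1
  have : Fact r.Prime := ⟨hr⟩
  have e : ξ.ker = ξ.ker ⊓ commutator G := by rw [Group.isPerfect_def.1 hP, inf_top_eq]
  have r2 : r ≠ 2 := by rintro rfl; exact (Nat.not_even_iff_odd.2 hk) (even_iff_two_dvd.2 hd)
  rw [e] at hd
  by_cases rp : r = p
  · subst rp
    exact H22.sl2_not_char_dvd (by rintro e; rw [e] at hodd; exact absurd hodd (by decide)) h9 r hs hc hd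
  · exact H22.sl2_not_dvd_of_ne p r2 rp hs hc hd

theorem exists_inj [Finite G] {F : Type*} [Field F] [Fintype F] (p : ℕ) [Fact p.Prime] [CharP F p]
    (hodd : Odd (Fintype.card F)) (h3 : 3 < Fintype.card F) (h9 : Fintype.card F ≠ 9) (inv : Inv G) (el : El 3 G)
    (fr : Fr G) (ξ : G →* G2Q.SL2 F) (hs : Surjective ξ) (hk : Odd (Nat.card ξ.ker)) :
    ∃ f : G2Q.SL2 F →* G, Injective f := by
  obtain ⟨L, hL, hm⟩ := (wellFounded_lt (α := Subgroup G)).has_min {K | K.map ξ = ⊤}
    ⟨⊤, map_top_of_surjective _ hs⟩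
  have hs' : Surjective (ξ.comp L.subtype) := fun y => by
    obtain ⟨g, hg, e⟩ : y ∈ L.map ξ := (show L.map ξ = ⊤ from hL) ▸ mem_top y
    exact ⟨⟨g, hg⟩, e⟩
  have := min_inj p hodd h3 h9 (inv.inj _ L.subtype_injective) (el.inj _ L.subtype_injective)
    (fr.inj _ L.subtype_injective) (ξ.comp L.subtype) hs'
    (hk.of_dvd_nat (by rw [← MonoidHom.comap_ker]; exact card_comap_dvd_of_injective _ _ L.subtype_injective))
    fun K hK => by
      by_contra hne
      refine hm (K.map L.subtype) (by rw [Set.mem_ofPred_eq, map_map, hK]) ?_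
      conv_rhs => rw [← L.range_subtype, MonoidHom.range_eq_map]
      exact map_subtype_lt_map_subtype.2 (lt_top_iff_ne_top.2 hne)
  exact ⟨L.subtype.comp (MulEquiv.ofBijective _ ⟨this, hs'⟩).symm.toMonoidHom,
    L.subtype_injective.comp (MulEquiv.injective _)⟩

open G2Q in
theorem card_aut_le {F : Type*} [Field F] [Fintype F] (hF : Fintype.card F = 5) :
    Nat.card (MulAut (G2Q.SL2 F)) ≤ 120 := by
  classical
  let Φ : GL (Fin 2) F →* MulAut (G2Q.SL2 F) := MonoidHom.mk'
    (fun g => MonoidHom.toMulEquiv (gc g) (gc g⁻¹) (MonoidHom.ext fun x => by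
      rw [MonoidHom.comp_apply, ← gc_mul, inv_mul_cancel, gc_one]; rfl) (MonoidHom.ext fun x => by
      rw [MonoidHom.comp_apply, ← gc_mul, mul_inv_cancel, gc_one]; rfl))
    fun g h => MulEquiv.ext fun x => gc_mul g h x
  have : Fact (Nat.Prime 5) := ⟨by norm_num⟩
  have hs : Surjective Φ := fun α => by
    obtain ⟨g, φ, h⟩ := aut_semi (α := α.toMonoidHom) α.injective
    refine ⟨g, MulEquiv.ext fun x => ?_⟩
    have e : ∀ a : F, φ a = a := fun a => by
      obtain ⟨n, rfl⟩ := (ZMod.ringEquivOfPrime F this.out hF).surjective a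
      obtain ⟨n, rfl⟩ := ZMod.natCast_zmod_surjective n
      simp
    change gc g x = α.toMonoidHom x
    rw [h]
    congr 1
    ext a b
    simp [e]
  have h1 : Nat.card Fˣ ≤ Nat.card Φ.ker := by
    refine Nat.card_le_card_of_injective (fun u => ⟨Matrix.GeneralLinearGroup.scalar (Fin 2) u,
      MulEquiv.ext fun x => gc_eq_iff.2 ?_⟩) fun u v e => ?_
    · exact (Matrix.scalar_commute u.1 (fun _ => Commute.all _ _) x.1).eq
    · have := congrArg (fun g : Φ.ker => g.1.1 0 0) e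
      exact Units.ext (by simpa using this)
  have h2 := Φ.ker.card_mul_index
  rw [index_ker, MonoidHom.range_eq_top.2 hs, card_top, Matrix.card_GL_field, hF, Fin.prod_univ_two] at h2
  rw [Nat.card_units, Nat.card_eq_fintype_card, hF] at h1
  generalize Nat.card Φ.ker = k at h1 h2
  generalize Nat.card (MulAut (G2Q.SL2 F)) = A at h2 ⊢
  norm_num at h1 h2
  nlinarith

/-- The action on a section. -/
theorem exists_act (L : Subgroup G) [hL : L.Normal] (ξ : L →* T) (hs : Surjective ξ)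
    (hk : ∀ g : G, ∀ l ∈ ξ.ker, MulAut.conjNormal g l ∈ ξ.ker) :
    ∃ φ : G →* MulAut T, ∀ g l, φ g (ξ l) = ξ (MulAut.conjNormal g l) := by
  have ex : ∀ g : G, ∃ α : T →* T, ∀ l, α (ξ l) = ξ (MulAut.conjNormal g l) := fun g =>
    ⟨ξ.liftOfSurjective hs ⟨ξ.comp (MulAut.conjNormal g : MulAut L).toMonoidHom, hk g⟩, fun l => by
      simp [MonoidHom.liftOfSurjective]⟩
  choose α hα using ex
  have mul : ∀ g h t, α (g * h) t = α g (α h t) := fun g h t => by
    obtain ⟨l, rfl⟩ := hs t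
    rw [hα, hα, hα, map_mul, MulAut.mul_apply]
  have one : ∀ t, α 1 t = t := fun t => by
    obtain ⟨l, rfl⟩ := hs t
    rw [hα, map_one, MulAut.one_apply]
  exact ⟨MonoidHom.mk' (fun g => MonoidHom.toMulEquiv (α g) (α g⁻¹) (MonoidHom.ext fun x => by
      rw [MonoidHom.comp_apply, ← mul, inv_mul_cancel, one]; rfl) (MonoidHom.ext fun x => by
      rw [MonoidHom.comp_apply, ← mul, mul_inv_cancel, one]; rfl))
    fun g h => MulEquiv.ext fun x => mul g h x, hα⟩

theorem not_el_a7 : ¬ El 3 (alternatingGroup (Fin 7)) := by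
  intro h
  obtain ⟨n, hn⟩ := h ⟨c[0, 1, 2], Equiv.Perm.mem_alternatingGroup.2 (by decide)⟩
    ⟨c[3, 4, 5], Equiv.Perm.mem_alternatingGroup.2 (by decide)⟩ (Subtype.ext (by decide)) (Subtype.ext (by decide))
    (Subtype.ext (by decide)) (fun e => absurd (congrArg Subtype.val e) (by decide))
  have e : (c[3, 4, 5] : Equiv.Perm (Fin 7)) ^ n = c[0, 1, 2] := congrArg Subtype.val hn
  have := Equiv.Perm.zpow_apply_eq_self_of_apply_eq_self (f := (c[3, 4, 5] : Equiv.Perm (Fin 7))) (x := 0) (by decide) n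
  rw [e] at this
  exact absurd this (by decide)

open H90 in
theorem card_of_el {F : Type*} [Field F] [Fintype F] {r : ℕ} [hr : Fact r.Prime] [CharP F r]
    (h : El r (G2Q.SL2 F)) : Fintype.card F = r := by
  have pw : ∀ (n : ℤ) (t : F), xu t ^ n = xu (n * t) := fun n t => by
    have := map_zpow (G2Q.xuHom F) (Multiplicative.ofAdd t) n
    rw [← zsmul_eq_mul]; exact this.symm
  have pr : ∀ t : F, xu t ^ r = 1 := fun t => by
    rw [← zpow_natCast, pw, Int.cast_natCast, CharP.cast_eq_zero, zero_mul, xu_zero]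
  rw [← ZMod.card r]
  refine (Fintype.card_of_bijective (f := ZMod.castHom (dvd_refl r) F) ⟨RingHom.injective _, fun t => ?_⟩).symm
  obtain ⟨n, hn⟩ := h (xu t) (xu 1) (by change _ * _ = _ * _; rw [← xu_add, ← xu_add, add_comm]) (pr t) (pr 1)
    (by rw [Ne, xu_eq_one]; exact one_ne_zero)
  refine ⟨n, ?_⟩
  simp only [pw, mul_one] at hn
  rw [map_intCast, xu_inj hn]

end FX

open FX in
theorem fx_red {H : Type*} [Group H] [Finite H] (hR : 120 < (Cfsg.solvableRadical H).index)
    (inv : ∀ z y : H, z * z = 1 → z ≠ 1 → y * y = 1 → y ≠ 1 → z = y)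
    (el : ∀ r : ℕ, r = 3 ∨ r = 5 → ∀ a b : H, Commute a b → a ^ r = 1 → b ^ r = 1 → b ≠ 1 → a ∈ Subgroup.zpowers b)
    (fr : ∀ x g u v : H, x ^ 3 = 1 → x ≠ 1 → u * (g * x * g⁻¹) = x → v * x = x * u → Commute u v → u ≠ v → u * v ≠ 1 → False) :
    ∃ p : ℕ, p.Prime ∧ 7 ≤ p ∧ ∃ f : Matrix.SpecialLinearGroup (Fin 2) (ZMod p) →* H, Function.Injective f := by
  have rad : ∀ C : Subgroup H, C.Normal → Group.IsSolvable C → 120 < C.index := fun C h1 h2 =>
    hR.trans_le (Nat.le_of_dvd (Nat.pos_of_ne_zero index_ne_zero_of_finite)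
      (index_dvd_of_le (le_sSup (s := {N : Subgroup H | N.Normal ∧ Group.IsSolvable N}) ⟨h1, h2⟩)))
  obtain ⟨L, hLc, hL, hmax, hsol⟩ := H22.exists_residual H
  have hP := H22.isPerfect_of_commutator_eq hL
  have L1 : L ≠ ⊥ := fun e => by
    have := hsol e
    have := rad ⊤ inferInstance inferInstance
    rw [index_top] at this; omega
  have := (nontrivial_iff_ne_bot L).2 L1
  have inv' : FX.Inv L := FX.Inv.inj inv _ L.subtype_injective
  have fr' : Fr L := Fr.inj fr _ L.subtype_injective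
  have el3 : El 3 L := El.inj (el 3 (.inl rfl)) _ L.subtype_injective
  have el5 : El 5 L := El.inj (el 5 (.inr rfl)) _ L.subtype_injective
  have : Fact (Nat.Prime 3) := ⟨Nat.prime_three⟩
  have : Fact (Nat.Prime 5) := ⟨by norm_num⟩
  have hO : Odd (Nat.card (pPrimeCore 2 L)) := H8.odd_card_pPrimeCore
  have hev : Even (Nat.card (L ⧸ pPrimeCore 2 L)) := by
    by_contra h
    have : Odd (Nat.card L) := by
      rw [card_eq_card_quotient_mul_card_subgroup (pPrimeCore 2 L)]
      exact (Nat.not_even_iff_odd.1 h).mul hO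
    exact Group.IsPerfect.not_isSolvable L (S0205.result this)
  have invX : FX.Inv (L ⧸ pPrimeCore 2 L) := inv'.surj (QuotientGroup.mk' _) (QuotientGroup.mk'_surjective _)
    (by rwa [QuotientGroup.ker_mk'])
  obtain ⟨S⟩ : Nonempty (Sylow 2 (L ⧸ pPrimeCore 2 L)) := inferInstance
  rcases H22.perfect_unique_involution inferInstance H22.pPrimeCore_quotient_pPrimeCore hev S fun x y hx hy =>
    invX.inj _ (S : Subgroup _).subtype_injective x y (by rw [← pow_two]; exact orderOf_dvd_iff_pow_eq_one.1 hx.dvd)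
      (H8.ne_one_of_orderOf_two hx) (by rw [← pow_two]; exact orderOf_dvd_iff_pow_eq_one.1 hy.dvd) (H8.ne_one_of_orderOf_two hy) with
    ⟨F, _, _, hodd, h3, ⟨e⟩⟩ | ⟨-, ⟨e⟩, -⟩
  swap
  · exact absurd (el3.surj (by norm_num) (e.toMonoidHom.comp ((QuotientGroup.mk' _).comp (QuotientGroup.mk' _)))
      (e.surjective.comp ((QuotientGroup.mk'_surjective _).comp (QuotientGroup.mk'_surjective _)))) not_el_a7
  let ξ : L →* G2Q.SL2 F := e.toMonoidHom.comp (QuotientGroup.mk' _)
  have hs : Surjective ξ := e.surjective.comp (QuotientGroup.mk'_surjective _)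
  have hk : ξ.ker = pPrimeCore 2 L := by
    rw [← MonoidHom.comap_ker, (MonoidHom.ker_eq_bot_iff _).2 e.injective]
    exact QuotientGroup.ker_mk' _
  obtain ⟨p, hc⟩ := CharP.exists F
  have hp : Fact p.Prime := ⟨CharP.char_is_prime F p⟩
  obtain ⟨n, -, hn⟩ := FiniteField.card F p
  have p2 : p ≠ 2 := by
    rintro rfl
    rw [hn] at hodd
    exact absurd ((Nat.odd_pow_iff n.ne_zero).1 hodd) (by decide)
  have p3 : p ≠ 3 := by
    rintro rfl
    have := card_of_el (el3.surj (by norm_num) ξ hs)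
    omega
  have p5 : p ≠ 5 := by
    rintro rfl
    have h5 := card_of_el (el5.surj (by norm_num) ξ hs)
    obtain ⟨φ, hφ⟩ := exists_act L ξ hs fun g l hl => by
      rw [hk] at hl ⊢
      exact (characteristic_iff_le_comap.1 inferInstance (MulAut.conjNormal g : MulAut L)) hl
    have hsolv : Group.IsSolvable φ.ker := by
      obtain ⟨K, -, hK, -, hKs⟩ := H22.exists_residual φ.ker
      refine hKs ((map_eq_bot_iff_of_injective K φ.ker.subtype_injective).1 ?_)
      have hK' : ⁅K.map φ.ker.subtype, K.map φ.ker.subtype⁆ = K.map φ.ker.subtype := by rw [← map_commutator, hK]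
      have hKL := hmax _ hK'
      have hle : K.map φ.ker.subtype ≤ (pPrimeCore 2 L).map L.subtype := by
        rw [← hK']
        refine commutator_le.2 fun a ha b hb => ⟨⁅(⟨a, hKL ha⟩ : L), ⟨b, hKL hb⟩⁆, ?_, rfl⟩
        rw [← hk]
        have h1 := hφ a ⟨b, hKL hb⟩
        rw [show φ a = 1 from map_subtype_le K ha, MulAut.one_apply] at h1
        change ξ (MulAut.conjNormal a ⟨b, hKL hb⟩ * (⟨b, hKL hb⟩ : L)⁻¹) = 1
        rw [map_mul, ← h1, map_inv, mul_inv_cancel]
      by_contra hne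
      have := (nontrivial_iff_ne_bot _).2 hne
      have := H22.isPerfect_of_commutator_eq hK'
      refine Group.IsPerfect.not_isSolvable (K.map φ.ker.subtype) (S0205.result (Odd.of_dvd_nat ?_ (card_dvd_of_le hle)))
      rwa [card_map_of_injective L.subtype_injective]
    have h1 := rad φ.ker inferInstance hsolv
    rw [index_ker] at h1
    have h2 : Nat.card φ.range ≤ Nat.card (MulAut (G2Q.SL2 F)) := card_le_card_group _
    have := card_aut_le h5
    omega
  have h9 : Fintype.card F ≠ 9 := fun e => by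
    rw [hn] at e
    have : p ∣ 3 ^ 2 := by rw [show 3 ^ 2 = 9 from rfl, ← e]; exact dvd_pow_self p n.ne_zero
    exact p3 ((Nat.prime_dvd_prime_iff_eq hp.out Nat.prime_three).1 (hp.out.dvd_of_dvd_pow this))
  obtain ⟨f, hf⟩ := exists_inj p hodd h3 h9 inv' el3 fr' ξ hs (hk ▸ hO)
  refine ⟨p, hp.out, ?_, L.subtype.comp (f.comp (Matrix.SpecialLinearGroup.map (ZMod.castHom (dvd_refl p) F))),
    L.subtype_injective.comp (hf.comp fun a b e => ?_)⟩
  · by_contra h7
    have := hp.out.two_le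
    have h4 : p ≠ 4 := by rintro rfl; exact absurd hp.out (by decide)
    have h6 : p ≠ 6 := by rintro rfl; exact absurd hp.out (by decide)
    omega
  · ext i j
    exact (ZMod.castHom (dvd_refl p) F).injective (congrArg (fun g : G2Q.SL2 F => g.1 i j) e)

end Cfsg.Agent.H12
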