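import Cfsg.Agent.S3857
import Cfsg.Agent.S0033
import Cfsg.Agent.H49.Core
import Cfsg.Agent.H72.Core
import Cfsg.Agent.H24.FpfBasic

/-! Groups with disconnected prime graph: local subgroups not contained in a normal subgroup whose
index is divisible by a prime outside `π`. -/

set_option autoImplicit false

namespace Cfsg.Agent.H12.GK

open Subgroup H1 H72 S3857
open scoped commutatorElement

variable {G : Type*} [Group G] [Finite G] {π : Set ℕ} {T : Subgroup G} {s : ℕ}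

theorem nil_of_fpf {K : Subgroup G} {n : G} (hn : n ∈ normalizer (K : Set G))
    (hp : (orderOf n).Prime) (h : ∀ k ∈ K, Commute k n → k = 1) : Group.IsNilpotent K := by
  rcases eq_or_ne K ⊥ with rfl | hK
  · infer_instance
  let α : MulAut K := K.normalizerMonoidHom ⟨n, hn⟩
  have hf : MonoidHom.FixedPointFree (α : K →* K) := fun x hx => Subtype.ext (h x x.2 (by
    have h1 : n * x * n⁻¹ = x := congrArg Subtype.val hx
    exact (mul_inv_eq_iff_eq_mul.1 h1).symm))
  refine S0033.result α hf _ hp ?_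
  have hd : orderOf α ∣ orderOf n :=
    (orderOf_map_dvd _ _).trans (dvd_of_eq (orderOf_coe (⟨n, hn⟩ : normalizer (K : Set G))).symm)
  refine ((Nat.dvd_prime hp).1 hd).resolve_left fun h1 => hK (eq_bot_iff.2 fun x hx => ?_)
  have h2 : α ⟨x, hx⟩ = ⟨x, hx⟩ := by rw [orderOf_eq_one_iff.1 h1]; rfl
  exact congrArg Subtype.val (hf _ h2)

omit [Finite G] in
theorem comm_mem_cent {U : Subgroup G} (hU : IsCyclic U) {g h : G}
    (hg : g ∈ normalizer (U : Set G)) (hh : h ∈ normalizer (U : Set G)) :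
    ⁅g, h⁆ ∈ centralizer (U : Set G) := by
  have h1 : ⁅(⟨g, hg⟩ : normalizer (U : Set G)), ⟨h, hh⟩⁆ ∈ U.normalizerMonoidHom.ker := by
    rw [MonoidHom.mem_ker, map_commutatorElement, commutatorElement_eq_one_iff_mul_comm]
    apply (IsCyclic.mulAutMulEquiv U).injective
    rw [map_mul, map_mul, mul_comm]
  rw [normalizerMonoidHom_ker] at h1
  exact h1

/-- `L` contains an element of order `s` modulo `T`. -/
def Big (T : Subgroup G) (s : ℕ) (L : Subgroup G) : Prop := ∃ y ∈ L, y ∉ T ∧ y ^ s ∈ T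

omit [Finite G] in
theorem Big.mono {L M : Subgroup G} (h : Big T s L) (hLM : L ≤ M) : Big T s M :=
  let ⟨y, hy, h'⟩ := h; ⟨y, hLM hy, h'⟩

theorem Big.frattini [T.Normal] {L X Q : Subgroup G} (h : Big T s L) (hXL : X ≤ L) (hXT : X ≤ T)
    (hn : L ≤ normalizer (X : Set G)) {p : ℕ} [Fact p.Prime] (hQ : IsSylowIn p Q X) :
    Big T s (L ⊓ normalizer (Q : Set G)) := by
  obtain ⟨y, hy, h1, h2⟩ := h
  obtain ⟨n, hnX, x, hx, rfl⟩ := hQ.frattini hn hy
  refine ⟨x, ⟨(L.mul_mem_cancel_left (hXL hnX)).1 hy, hx⟩, fun h3 => h1 (T.mul_mem (hXT hnX) h3), ?_⟩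
  rw [← QuotientGroup.eq_one_iff] at h2 ⊢
  rwa [QuotientGroup.mk_pow, QuotientGroup.mk_mul, (QuotientGroup.eq_one_iff n).2 (hXT hnX), one_mul,
    ← QuotientGroup.mk_pow] at h2

theorem Big.exists_ord [T.Normal] {L : Subgroup G} (h : Big T s L) (hs : s.Prime) :
    ∃ y ∈ L, orderOf y = s := by
  obtain ⟨y, hy, h1, h2⟩ := h
  have := Fact.mk hs
  have h3 : orderOf (QuotientGroup.mk' T y) = s :=
    orderOf_eq_prime (by rw [← map_pow]; exact (QuotientGroup.eq_one_iff _).2 h2)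
      fun e => h1 ((QuotientGroup.eq_one_iff _).1 e)
  have h4 : s ∣ orderOf y := h3 ▸ orderOf_map_dvd _ _
  exact ⟨y ^ (orderOf y / s), L.pow_mem hy _,
    orderOf_pow_orderOf_div (orderOf_pos y).ne' h4⟩

theorem big_top [T.Normal] (hs : s.Prime) (h : s ∣ T.index) : Big T s ⊤ := by
  have := Fact.mk hs
  obtain ⟨x, hx⟩ := exists_prime_orderOf_dvd_card' (G := G ⧸ T) s h
  obtain ⟨y, rfl⟩ := QuotientGroup.mk_surjective x
  refine ⟨y, trivial, fun e => hs.ne_one ?_, ?_⟩
  · rw [← hx, (QuotientGroup.eq_one_iff _).2 e, orderOf_one]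
  · rw [← QuotientGroup.eq_one_iff, QuotientGroup.mk_pow, ← hx, pow_orderOf_eq_one]

omit [Finite G] in
theorem piNum_prime {p : ℕ} (hp : p.Prime) (h : p ∈ π) : PiNum π p :=
  fun _ hq hd => (Nat.prime_dvd_prime_iff_eq hq hp).1 hd ▸ h

theorem piNum_mem {p : ℕ} (hp : p.Prime) (h : p ∈ π) {P : Subgroup G} (hP : IsPGroup p P) {x : G}
    (hx : x ∈ P) : PiNum π (orderOf x) :=
  (piNum_of_isPGroup hp h hP).of_dvd (P.orderOf_dvd_natCard hx)

/-- no prime of `π` divides the order of the normalizer of a cyclic `π'`-subgroup -/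
theorem not_dvd_norm [T.Normal] (h : Disc π G) (hs : s.Prime) (hsπ : s ∉ π) {L X Q : Subgroup G}
    (hL : Big T s L) (hXL : X ≤ L) (hXT : X ≤ T) (hn : L ≤ normalizer (X : Set G)) {u : ℕ}
    [Fact u.Prime] (hu : u ∉ π) (hQ : IsSylowIn u Q X) (hc : IsCyclic Q) (hQ1 : Q ≠ ⊥) {p : ℕ}
    (hp : p.Prime) (hpπ : p ∈ π) : ¬ p ∣ Nat.card ↥(X ⊓ normalizer (Q : Set G)) := by
  have := Fact.mk hp
  obtain ⟨R, hR⟩ := exists_isSylowIn p (X ⊓ normalizer (Q : Set G))
  rw [← hR.eq_bot_iff, eq_bot_iff]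
  have h1 := (hL.frattini hXL hXT hn hQ).frattini (inf_le_inf_right _ hXL) (inf_le_left.trans hXT)
    (le_normalizer_inf (inf_le_left.trans hn) (inf_le_right.trans le_normalizer)) hR
  obtain ⟨y, ⟨⟨-, hyQ⟩, hyR⟩, hy⟩ := h1.exists_ord hs
  intro r hr
  by_contra hr1
  have h2 : ⁅r, y⁆ ∈ R := by
    rw [commutatorElement_def, mul_assoc, mul_assoc, ← mul_assoc y]
    exact R.mul_mem hr (conj_mem_of_mem_normalizer hyR (R.inv_mem hr))
  have h3 := comm_mem_cent hc (hR.le hr).2 hyQ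
  obtain ⟨⟨q, hq⟩, hq1⟩ := ne_bot_iff_exists_ne_one.1 hQ1
  have h4 : ⁅r, y⁆ = 1 := by
    by_contra h4
    exact hq1 (Subtype.ext (h.eq_one (h3 q hq).symm (piNum_mem hp hpπ hR.isPGroup h2)
      (piNum_mem (π := πᶜ) Fact.out hu hQ.isPGroup hq) h4))
  have h5 := h.eq_one (commutatorElement_eq_one_iff_commute.1 h4) (piNum_mem hp hpπ hR.isPGroup hr)
    (hy ▸ piNum_prime (π := πᶜ) hs hsπ) hr1
  rw [h5, orderOf_one] at hy
  exact hs.ne_one hy.symm

theorem norm_le_cent {X : Type*} [Group X] [Finite X] {u : ℕ} [Fact u.Prime] (P : Sylow u X)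
    (hP : IsCyclic P) (h : (Nat.card (normalizer ((P : Subgroup X) : Set X))).Coprime (u - 1)) :
    normalizer ((P : Subgroup X) : Set X) ≤ centralizer (P : Set X) := by
  have key := card_dvd_of_injective _ (QuotientGroup.kerLift_injective P.normalizerMonoidHom)
  rw [normalizerMonoidHom_ker, ← index, ← relIndex] at key
  refine relIndex_eq_one.mp (Nat.eq_one_of_dvd_coprimes ?_ dvd_rfl key)
  obtain ⟨k, hk⟩ := P.2.exists_card_eq
  rcases eq_zero_or_pos k with h0 | h0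
  · rw [hP.card_mulAut, hk, h0, pow_zero, Nat.totient_one]
    apply Nat.coprime_one_right
  rw [hP.card_mulAut, hk, Nat.totient_prime_pow Fact.out h0]
  refine (Nat.Coprime.pow_right _ ?_).mul_right ?_
  · apply Nat.Coprime.coprime_dvd_left (relIndex_dvd_of_le_left _ P.le_centralizer)
    apply Nat.Coprime.coprime_dvd_left (relIndex_dvd_index_of_le P.le_normalizer)
    rw [Nat.coprime_comm, Nat.Prime.coprime_iff_not_dvd Fact.out]
    exact P.not_dvd_index
  · exact Nat.Coprime.coprime_dvd_left (relIndex_dvd_card ..) h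

/-- the `π`-elements of `X` lie in `O_π(X)` -/
theorem mem_core [T.Normal] (h : Disc π G) (h2 : 2 ∈ π) (hs : s.Prime) (hsπ : s ∉ π)
    {L D : Subgroup G} (hL : Big T s L) (hD : D ≠ ⊥) (hDπ : PiNum π (Nat.card D))
    (hLD : L ≤ normalizer (D : Set G)) (X : Subgroup G) : X ≤ L → X ≤ T →
    L ≤ normalizer (X : Set G) → ∀ x ∈ X, PiNum π (orderOf x) → x ∈ piCoreOf π X := by
  induction X using WellFoundedLT.induction with
  | _ X ih =>
  intro hXL hXT hn x hx hxπ
  by_cases hX : PiNum π (Nat.card X)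
  · rwa [H49.piCoreOf_eq_self hX]
  have hex : ∃ u, u.Prime ∧ u ∣ Nat.card X ∧ u ∉ π := by
    by_contra hc
    exact hX fun p hp hd => by_contra fun h3 => hc ⟨p, hp, hd, h3⟩
  classical
  obtain ⟨hu, hud, huπ⟩ := Nat.find_spec hex
  have hmin := fun m => Nat.find_min hex (m := m)
  set u := Nat.find hex
  have := Fact.mk hu
  obtain ⟨P⟩ : Nonempty (Sylow u X) := inferInstance
  have hQ := isSylowIn_map X P
  set Q := (P : Subgroup X).map X.subtype with hQd
  have hQ1 : Q ≠ ⊥ := fun e => hQ.eq_bot_iff.1 e hud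
  have hc : IsCyclic Q := (H24.fpf_of_ambient hD ((hQ.le.trans hXL).trans hLD) fun a ha ha1 =>
    eq_bot_iff.2 fun d hd => by
      by_contra hd1
      exact ha1 (h.eq_one (mem_centralizer_singleton_iff.1 hd.2)
        (hDπ.of_dvd (D.orderOf_dvd_natCard hd.1)) (piNum_mem (π := πᶜ) hu huπ hQ.isPGroup ha) hd1)).isCyclic_of_odd
    hQ.isPGroup fun e => huπ (e ▸ h2)
  have hcP : IsCyclic P :=
    isCyclic_of_surjective _ ((P : Subgroup X).equivMapOfInjective _ X.subtype_injective).symm.surjective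
  have hNC : normalizer ((P : Subgroup X) : Set X) ≤ centralizer (P : Set X) := by
    refine norm_le_cent P hcP (Nat.coprime_of_dvd fun p hp h3 h4 => ?_)
    have h5 : p < u := lt_of_le_of_lt (Nat.le_of_dvd (Nat.sub_pos_of_lt hu.one_lt) h4)
      (Nat.sub_lt hu.pos one_pos)
    have h6 : p ∈ π := by_contra fun h6 => hmin p h5 ⟨hp, h3.trans (card_subgroup_dvd_card _), h6⟩
    refine not_dvd_norm h hs hsπ hL hXL hXT hn huπ hQ hc hQ1 hp h6 (h3.trans ?_)
    rw [← card_map_of_injective X.subtype_injective]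
    exact card_dvd_of_le (le_inf (map_subtype_le _) (le_normalizer_map _))
  have hK := MonoidHom.ker_transferSylow_isComplement' P hNC
  set K := (MonoidHom.transferSylow P hNC).ker
  have hKu : ¬ u ∣ Nat.card K := MonoidHom.not_dvd_card_ker_transferSylow P hNC
  have hK1 : K.map X.subtype ≤ piCoreOf {u}ᶜ X := H49.le_piCoreOf (map_subtype_le _)
    (le_normalizer_map_subtype K) (by
      rw [H49.IsPi, card_map_of_injective X.subtype_injective]
      exact (H49.isPiNat_compl_singleton hu).2 hKu)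
  have hlt : piCoreOf {u}ᶜ X < X := lt_of_le_of_ne (H49.piCoreOf_le _ _) fun e =>
    (H49.isPiNat_compl_singleton hu).1 (H49.piCoreOf_pi {u}ᶜ X) (by rw [e]; exact hud)
  have hxK : (⟨x, hx⟩ : X) ∈ K := by
    refine H19.le_normal_of_coprime_index (zpowers ⟨x, hx⟩) K ?_ (mem_zpowers _)
    rw [Nat.card_zpowers, ← orderOf_coe, hK.symm.index_eq_card]
    exact hxπ.coprime (piNum_of_isPGroup (π := πᶜ) hu huπ P.isPGroup')
  exact H49.piCoreOf_le_of_normal π hlt.le (H49.le_norm_piCoreOf _ _)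
    (ih _ hlt (hlt.le.trans hXL) (hlt.le.trans hXT) (H49.norm_piCoreOf _ hn) x (hK1 ⟨_, hxK, rfl⟩) hxπ)

/-- The `π`-elements of `T ∩ N(D)` lie in a nilpotent normal subgroup. -/
theorem exists_nil [T.Normal] (h : Disc π G) (h2 : 2 ∈ π) (hs : s.Prime) (hsπ : s ∉ π)
    {D : Subgroup G} (hL : Big T s (normalizer (D : Set G))) (hD : D ≠ ⊥)
    (hDπ : PiNum π (Nat.card D)) : ∃ B : Subgroup G, Group.IsNilpotent B ∧
      normalizer (D : Set G) ≤ normalizer (B : Set G) ∧ B ≤ T ⊓ normalizer (D : Set G) ∧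
      ∀ x ∈ T ⊓ normalizer (D : Set G), PiNum π (orderOf x) → x ∈ B := by
  have hn : normalizer (D : Set G) ≤ normalizer ((T ⊓ normalizer (D : Set G) : Subgroup G) : Set G) :=
    le_normalizer_inf le_normalizer_of_normal le_normalizer
  obtain ⟨y, hy, hys⟩ := hL.exists_ord hs
  refine ⟨_, nil_of_fpf (H49.norm_piCoreOf π hn hy) (hys ▸ hs) fun k hk hc => ?_,
    H49.norm_piCoreOf π hn, H49.piCoreOf_le _ _,
    mem_core h h2 hs hsπ hL hD hDπ le_rfl _ inf_le_right inf_le_left hn⟩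
  by_contra hk1
  have h5 := h.eq_one hc ((H49.piCoreOf_pi π _).elt hk) (hys ▸ piNum_prime (π := πᶜ) hs hsπ) hk1
  rw [h5, orderOf_one] at hys
  exact hs.ne_one hys.symm

end Cfsg.Agent.H12.GK
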