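import Cfsg.Agent.H12.GK1
import Cfsg.Agent.FLAV.T3
import Cfsg.Agent.H71.Invert
import Cfsg.Agent.H72.Fixed
import Cfsg.Agent.S0200

/-! Groups with disconnected prime graph: if a prime outside `π ∋ 2` divides the index of the normal
subgroup `T`, then the involutions of `T` lie in normal `2`-subgroups. -/

set_option autoImplicit false

namespace Cfsg.Agent.H12.GK

open Subgroup H1 H72 S3857

variable {G : Type*} [Group G] [Finite G] {π : Set ℕ} {T : Subgroup G} {s : ℕ}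

theorem pi_of_comm (h : Disc π G) {x y : G} (hxy : Commute y x) (hy : PiNum π (orderOf y))
    (hy1 : y ≠ 1) : PiNum π (orderOf x) := fun q hq hd => by
  by_contra hqπ
  have h1 := orderOf_pow_orderOf_div (orderOf_pos x).ne' hd
  have h2 := h.eq_one (hxy.pow_right _) hy (h1.symm ▸ piNum_prime (π := πᶜ) hq hqπ) hy1
  rw [h2, orderOf_one] at h1
  exact hq.ne_one h1.symm

omit [Finite G] in
theorem pi_inv (h2 : 2 ∈ π) {a : G} (ha : a * a = 1) : PiNum π (orderOf a) :=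
  (piNum_prime Nat.prime_two h2).of_dvd (orderOf_dvd_of_pow_eq_one (by rw [sq, ha]))

omit [Finite G] in
theorem exists_sqrt {x : G} (h : Odd (orderOf x)) : ∃ k : ℕ, x ^ k * x ^ k = x := by
  obtain ⟨k, hk⟩ := h
  refine ⟨k + 1, ?_⟩
  rw [← pow_add, show k + 1 + (k + 1) = orderOf x + 1 by omega, pow_succ, pow_orderOf_eq_one, one_mul]

omit [Finite G] in
theorem mem_of_inv [T.Normal] {a g : G} (ha : a ∈ T) (hg : Odd (orderOf g))
    (h : a * g * a⁻¹ = g⁻¹) : g ∈ T := by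
  obtain ⟨k, hk⟩ := exists_sqrt hg
  have h1 : g * g = g * a⁻¹ * g⁻¹ * a := by
    rw [← h]; group
  rw [← hk, ← (Commute.refl g).mul_pow, h1]
  exact T.pow_mem (T.mul_mem (Normal.conj_mem ‹_› _ (T.inv_mem ha) g) ha) k

omit [Finite G] in
theorem conj_mem_cent {a c x : G} (h : a * c * a⁻¹ = c⁻¹) (hx : x ∈ centralizer ({c} : Set G)) :
    a * x * a⁻¹ ∈ centralizer ({c} : Set G) := by
  rw [mem_centralizer_singleton_iff] at hx ⊢
  have h1 : a * c⁻¹ * a⁻¹ = c := by rw [← conj_inv, h, inv_inv]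
  have h2 : x * c⁻¹ = c⁻¹ * x := (show Commute x c from hx).inv_right
  calc a * x * a⁻¹ * c = a * x * a⁻¹ * (a * c⁻¹ * a⁻¹) := by rw [h1]
    _ = a * (x * c⁻¹) * a⁻¹ := by group
    _ = (a * c⁻¹ * a⁻¹) * (a * x * a⁻¹) := by rw [h2]; group
    _ = c * (a * x * a⁻¹) := by rw [h1]

theorem inv_all (h : Disc π G) (h2 : 2 ∈ π) {a c : G} (ha : a * a = 1) (ha1 : a ≠ 1)
    (hc : PiNum πᶜ (orderOf c)) (hc1 : c ≠ 1) (hac : a * c * a⁻¹ = c⁻¹) :
    ∀ x ∈ centralizer ({c} : Set G), a * x * a⁻¹ = x⁻¹ :=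
  H71.inverts_of_fpf ha (mem_normalizer_of_conj_mem fun _ => conj_mem_cent hac)
    (eq_bot_iff.2 fun _ hx => h.eq_one (mem_centralizer_singleton_iff.1 hx.1).symm (pi_inv h2 ha)
      (pi_of_comm h.compl (mem_centralizer_singleton_iff.1 hx.2).symm hc hc1) ha1)

theorem not_inv_out [T.Normal] (h : Disc π G) (h2 : 2 ∈ π) (hs : s.Prime) (hsπ : s ∉ π)
    (hT : Big T s ⊤) {a g : G} (haT : a ∈ T) (ha : a * a = 1) (ha1 : a ≠ 1) {u : ℕ} (hu : u.Prime)
    (huπ : u ∉ π) (hg : orderOf g = u) (hag : a * g * a⁻¹ = g⁻¹) : False := by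
  have := Fact.mk hu
  have hg1 : g ≠ 1 := fun e => hu.ne_one (by rw [← hg, e, orderOf_one])
  have hodd : ∀ x : G, PiNum πᶜ (orderOf x) → Odd (orderOf x) := fun x hx =>
    Nat.not_even_iff_odd.1 fun e => hx 2 Nat.prime_two e.two_dvd h2
  have hgπ : PiNum πᶜ (orderOf g) := hg ▸ piNum_prime (π := πᶜ) hu huπ
  obtain ⟨P, hP, hgP⟩ := exists_isSylowIn_ge (p := u) (Q := zpowers g)
    (IsPGroup.of_card (n := 1) (by rw [Nat.card_zpowers, hg, pow_one]))
    (zpowers_le.2 (mem_of_inv haT (hodd g hgπ) hag))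
  have hgP := hgP (mem_zpowers g)
  obtain ⟨⟨c, hcP, hcC⟩, hc1⟩ := ne_bot_iff_exists_ne_one.1 (inf_centralizer_ne_bot hP.isPGroup
    hP.isPGroup (fun e => hg1 (by rwa [e] at hgP)) le_normalizer)
  have hc1 : c ≠ 1 := fun e => hc1 (Subtype.ext e)
  have hcπ : PiNum πᶜ (orderOf c) := piNum_mem hu huπ hP.isPGroup hcP
  have hW := inv_all h h2 ha ha1 hcπ hc1 (inv_all h h2 ha ha1 hgπ hg1 hag c
    (mem_centralizer_singleton_iff.2 (hcC g hgP).symm))
  obtain ⟨y, ⟨-, hy⟩, hy1, hy2⟩ := hT.frattini le_top le_rfl le_normalizer_of_normal hP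
  have hw : y * a * y⁻¹ * a⁻¹ ∈ centralizer ({c} : Set G) := mem_centralizer_singleton_iff.2
    (H71.commutator_mem_centralizer_of_inverts
      (fun x hx => hW x (mem_centralizer_singleton_iff.2 (hcC x hx))) hy c hcP).symm
  have hwT : y * a * y⁻¹ * a⁻¹ ∈ T := T.mul_mem (Normal.conj_mem ‹_› _ haT y) (T.inv_mem haT)
  obtain ⟨k, hk⟩ := exists_sqrt (hodd _
    (pi_of_comm h.compl (mem_centralizer_singleton_iff.1 hw).symm hcπ hc1))
  set v := (y * a * y⁻¹ * a⁻¹) ^ k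
  have hv := hW v⁻¹ (inv_mem (pow_mem hw k))
  have hvT : v ∈ T := T.pow_mem hwT k
  have h3 : Big T s (centralizer ({a} : Set G)) := by
    refine ⟨v⁻¹ * y, mem_centralizer_singleton_iff.2 ?_,
      fun e => hy1 ((T.mul_mem_cancel_left (T.inv_mem hvT)).1 e), ?_⟩
    · rw [inv_inv] at hv
      calc v⁻¹ * y * a = v⁻¹ * (y * a * y⁻¹ * a⁻¹) * a * y := by group
        _ = (a * v⁻¹ * a⁻¹) * a * y := by rw [← hk, hv]; group
        _ = a * (v⁻¹ * y) := by group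
    · rw [← QuotientGroup.eq_one_iff] at hy2 ⊢
      rwa [QuotientGroup.mk_pow, QuotientGroup.mk_mul, (QuotientGroup.eq_one_iff _).2 (T.inv_mem hvT),
        one_mul, ← QuotientGroup.mk_pow]
  obtain ⟨z, hz, hzs⟩ := h3.exists_ord hs
  have h5 := h.eq_one (mem_centralizer_singleton_iff.1 hz).symm (pi_inv h2 ha)
    (hzs ▸ piNum_prime (π := πᶜ) hs hsπ) ha1
  rw [h5, orderOf_one] at hzs
  exact hs.ne_one hzs.symm

theorem norm_le_of_nil {p : ℕ} [Fact p.Prime] {P B : Subgroup G} (hB : Group.IsNilpotent B)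
    (hP : IsSylowIn p P B) : normalizer (B : Set G) ≤ normalizer (P : Set G) := fun n hn => by
  obtain ⟨S, rfl⟩ := hP.exists_sylow_map
  have : (S : Subgroup B).Normal := inferInstance
  obtain ⟨b, hb, e⟩ := hP.exists_cj_eq (hP.cj_of_mem_normalizer hn)
  rw [← cj_eq_iff, ← e, cj_eq_iff]
  exact le_normalizer_map_subtype _ hb

omit [Finite G] in
theorem inv_odd_pow {n x : G} (h : n * x * n⁻¹ = x⁻¹) {m : ℕ} (hm : Odd m) :
    n ^ m * x * (n ^ m)⁻¹ = x⁻¹ := by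
  obtain ⟨k, rfl⟩ := hm
  induction k with
  | zero => simpa using h
  | succ k ih =>
    have h1 : n * x⁻¹ * n⁻¹ = x := by rw [← conj_inv, h, inv_inv]
    calc _ = n * (n * (n ^ (2 * k + 1) * x * (n ^ (2 * k + 1))⁻¹) * n⁻¹) * n⁻¹ := by group
      _ = _ := by rw [ih, h1, h]

theorem not_inv_in [T.Normal] (h : Disc π G) (h2 : 2 ∈ π) (hs : s.Prime) (hsπ : s ∉ π)
    (hT : Big T s ⊤) {a g : G} (haT : a ∈ T) {t : ℕ} (ht : t.Prime) (ht2 : t ≠ 2)
    (htπ : t ∈ π) (hg : orderOf g = t) (hag : a * g * a⁻¹ = g⁻¹) : False := by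
  have := Fact.mk ht
  have hg1 : g ≠ 1 := fun e => ht.ne_one (by rw [← hg, e, orderOf_one])
  obtain ⟨P, hP, hgP⟩ := exists_isSylowIn_ge (p := t) (Q := zpowers g)
    (IsPGroup.of_card (n := 1) (by rw [Nat.card_zpowers, hg, pow_one]))
    (zpowers_le.2 (mem_of_inv haT (hg ▸ ht.odd_of_ne_two ht2) hag))
  have hgP := hgP (mem_zpowers g)
  have hP1 : P ≠ ⊥ := fun e => hg1 (by rwa [e] at hgP)
  have hNP : Big T s (normalizer (P : Set G)) :=
    (hT.frattini le_top le_rfl le_normalizer_of_normal hP).mono inf_le_right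
  have loc : ∀ D : Subgroup G, D ≤ P → D ≠ ⊥ → normalizer (P : Set G) ≤ normalizer (D : Set G) →
      ∃ B : Subgroup G, Group.IsNilpotent B ∧ P ≤ B ∧
      normalizer (D : Set G) ≤ normalizer (P : Set G) ∧
      ∀ x ∈ T ⊓ normalizer (D : Set G), PiNum π (orderOf x) → x ∈ B := fun D hD hD1 hn => by
    obtain ⟨B, h3, h4, h5, h6⟩ := exists_nil h h2 hs hsπ (hNP.mono hn) hD1
      (piNum_of_isPGroup ht htπ (hP.isPGroup.to_le hD))
    have h7 : P ≤ B := fun x hx =>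
      h6 x ⟨hP.le hx, hn (le_normalizer hx)⟩ (piNum_mem ht htπ hP.isPGroup hx)
    exact ⟨B, h3, h7, h4.trans (norm_le_of_nil h3 (hP.of_le h7 (h5.trans inf_le_left))), h6⟩
  set Z := P ⊓ centralizer (P : Set G) with hZ
  have hZn : normalizer (P : Set G) ≤ normalizer (Z : Set G) := H61.normalizer_le_normalizer_center P
  have key : ∀ n ∈ T ⊓ normalizer (Z : Set G), ∀ x ∈ P, n * x * n⁻¹ = x⁻¹ → x = 1 := by
    intro n hn x hx e
    obtain ⟨B, h3, h4, -, h6⟩ := loc Z inf_le_left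
      (inf_centralizer_ne_bot hP.isPGroup hP.isPGroup hP1 le_normalizer) hZn
    obtain ⟨k, m, hm, hkm⟩ := Nat.exists_eq_two_pow_mul_odd (orderOf_pos n).ne'
    have h7 : orderOf (n ^ m) ∣ 2 ^ k :=
      orderOf_dvd_of_pow_eq_one (by rw [← pow_mul, mul_comm, ← hkm, pow_orderOf_eq_one])
    have h8 := h6 _ (pow_mem hn m) ((piNum_pow Nat.prime_two h2 k).of_dvd h7)
    obtain ⟨j, hj⟩ := hP.isPGroup ⟨x, hx⟩
    have hj : x ^ t ^ j = 1 := congrArg Subtype.val hj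
    have hco : (2 ^ k).Coprime (t ^ j) :=
      ((Nat.coprime_primes Nat.prime_two ht).2 ht2.symm).pow _ _
    have h9 : n ^ m * x = x * n ^ m := congrArg Subtype.val
      (H19.commute_of_coprime_pow hco (⟨_, h8⟩ : B) ⟨x, h4 hx⟩
        (Subtype.ext (orderOf_dvd_iff_pow_eq_one.1 h7)) (Subtype.ext hj))
    have h10 := inv_odd_pow e hm
    rw [h9, mul_inv_cancel_right, eq_inv_iff_mul_eq_one, ← sq] at h10
    exact orderOf_eq_one_iff.1 (Nat.eq_one_of_dvd_coprimes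
      (((Nat.coprime_primes Nat.prime_two ht).2 ht2.symm).pow_right j)
      (orderOf_dvd_of_pow_eq_one h10) (orderOf_dvd_of_pow_eq_one hj))
  obtain ⟨hJ1, hJ2, hJ3⟩ := H61.isConjugacyFunctor_thompsonSubgroupAOf (p := t) P hP.isPGroup
  obtain ⟨-, -, -, hJ, -⟩ := loc _ hJ1 (hJ2 hP1) fun n hn => by
    rw [← cj_eq_iff] at hn ⊢
    exact (hJ3 n).symm.trans (congrArg _ hn)
  rcases FLAV.wc_or_gTor hP le_rfl (inf_le_right.trans (hJ.trans hZn)) with hw | ⟨g0, hg0, α, hα, hτ⟩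
  · have hZg : Z ≤ T ⊓ centralizer ({g} : Set G) := fun z hz =>
      ⟨hP.le hz.1, mem_centralizer_singleton_iff.2 (hz.2 g hgP).symm⟩
    have hZp : IsPGroup t Z := hP.isPGroup.to_le inf_le_left
    obtain ⟨R, hR, hZR⟩ := exists_isSylowIn_ge hZp hZg
    obtain ⟨c, hc, hcR⟩ := hR.exists_cj_le (IsPGroup_cj a hZp) (by
      rintro _ ⟨z, hz, rfl⟩
      exact ⟨Normal.conj_mem ‹_› _ (hZg hz).1 a, conj_mem_cent hag (hZg hz).2⟩)
    obtain ⟨b, hb, hbR⟩ := hP.exists_cj_le hR.isPGroup (hR.le.trans inf_le_left)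
    have e1 := hw b hb ((cj_mono b hZR).trans hbR)
    have e2 := hw (b * (c * a)) (T.mul_mem hb (T.mul_mem hc.1 haT))
      (by rw [cj_mul, cj_mul]; exact (cj_mono b hcR).trans hbR)
    rw [cj_mul] at e2
    refine hg1 (key (c * a) ⟨T.mul_mem hc.1 haT, cj_eq_iff.1 ((cj_inj b).1 (e2.trans e1.symm))⟩ g hgP ?_)
    have h3 : c * g⁻¹ = g⁻¹ * c :=
      (show Commute c g from mem_centralizer_singleton_iff.1 hc.2).inv_right
    calc c * a * g * (c * a)⁻¹ = c * (a * g * a⁻¹) * c⁻¹ := by group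
      _ = g⁻¹ := by rw [hag, h3, mul_inv_cancel_right]
  · obtain ⟨X, hX, hX1, -, -, hX2⟩ := hτ.exists_trX (hP.isPGroup.to_le inf_le_left) ht2
      fun (x y : Z) => Subtype.ext (mem_centralizer_iff.1 y.2.2 x x.2.1)
    obtain ⟨⟨ψ, hψ⟩, hψ1⟩ := ne_bot_iff_exists_ne_one.1 hX1
    obtain ⟨z, hz⟩ : ∃ z, ψ z * z⁻¹ ≠ 1 := by
      by_contra hc
      exact hψ1 (Subtype.ext (MulEquiv.ext fun z => mul_inv_eq_one.1 (by_contra fun e => hc ⟨z, e⟩)))
    have hz1 := FLAV.mem_cmm hψ z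
    obtain ⟨φ, hφ, e⟩ := hX2 _ _ hz1 (inv_mem hz1) hz (inv_ne_one.2 hz)
    obtain ⟨k, rfl⟩ := mem_powers_iff_mem_zpowers.2 (hX hφ)
    have hn : g0 ∈ normalizer (Z : Set G) :=
      mem_normalizer_of_conj_mem fun x hx => hα ⟨x, hx⟩ ▸ (α ⟨x, hx⟩).2
    have hk : ∀ (k : ℕ) (x : Z), ((α ^ k) x : G) = g0 ^ k * x * (g0 ^ k)⁻¹ := fun k x => by
      induction k with
      | zero => simp
      | succ k ih => rw [pow_succ', MulAut.mul_apply, hα, ih]; group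
    exact hz (Subtype.ext (key (g0 ^ k) (pow_mem (⟨hg0, hn⟩ : g0 ∈ T ⊓ _) k) _ (ψ z * z⁻¹).2.1
      ((hk k _).symm.trans (congrArg Subtype.val e))))

theorem two_core [T.Normal] (h : Disc π G) (h2 : 2 ∈ π) (hs : s.Prime) (hsπ : s ∉ π)
    (hT : s ∣ T.index) {a : G} (haT : a ∈ T) (ha : orderOf a = 2) :
    ∃ N : Subgroup G, N.Normal ∧ IsPGroup 2 N ∧ a ∈ N := by
  by_contra hc
  obtain ⟨x, hx1, hx, e⟩ := S0200.result a ha fun N h3 h4 h5 => hc ⟨N, h3, h4, h5⟩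
  obtain ⟨p, hp, hd⟩ := Nat.exists_prime_and_dvd (mt orderOf_eq_one_iff.1 hx1)
  have h3 := orderOf_pow_orderOf_div (orderOf_pos x).ne' hd
  have h4 : a * x ^ (orderOf x / p) * a⁻¹ = (x ^ (orderOf x / p))⁻¹ := by
    rw [← conj_pow, e, inv_pow]
  by_cases hpπ : p ∈ π
  · exact not_inv_in h h2 hs hsπ (big_top hs hT) haT hp
      (fun e => Nat.not_even_iff_odd.2 hx (even_iff_two_dvd.2 (e ▸ hd))) hpπ h3 h4
  · exact not_inv_out h h2 hs hsπ (big_top hs hT) haT (by rw [← sq, ← ha, pow_orderOf_eq_one])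
      (fun e => by rw [e, orderOf_one] at ha; exact absurd ha (by decide)) hp hpπ h3 h4

end Cfsg.Agent.H12.GK
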