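import Cfsg.Agent.S4200
import Cfsg.Agent.S1012

/-! Class numbers: elementary estimates. -/

set_option autoImplicit false

namespace Cfsg.Agent.H12.KG
open Subgroup H83

variable {G H : Type*} [Group G] [Group H]

theorem cp_equiv (e : G ≃* H) : commProb G = commProb H := by
  rw [commProb_def, commProb_def, Nat.card_congr e.toEquiv]
  congr 2
  exact Nat.card_congr ((e.toEquiv.prodCongr e.toEquiv).subtypeEquiv fun p => by
    simp [← map_mul, commute_iff_eq])

theorem cp_mul [Finite G] : commProb G * Nat.card G = Nat.card (ConjClasses G) := by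
  rw [commProb_def', div_mul_cancel₀ _ (Nat.cast_ne_zero.2 Nat.card_pos.ne')]

theorem cp_le_sub [Finite G] (Y : Subgroup G) : commProb G ≤ commProb Y := by
  have h1 : (Nat.card (ConjClasses G) : ℚ) ≤ Y.index * Nat.card (ConjClasses Y) := by
    exact_mod_cast (S4200.result Y).2.1
  rw [← cp_mul, ← cp_mul, ← Y.card_mul_index, Nat.cast_mul] at h1
  have h2 : (0 : ℚ) < Nat.card Y * Y.index := by
    rw [← Nat.cast_mul, Y.card_mul_index]; exact_mod_cast Nat.card_pos
  exact le_of_mul_le_mul_right (h1.trans_eq (by ring)) h2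

theorem cp_le_inj [Finite H] (f : G →* H) (hf : Function.Injective f) : commProb H ≤ commProb G :=
  (cp_le_sub f.range).trans_eq (cp_equiv (MonoidHom.ofInjective hf)).symm

theorem cp_comm [Finite G] (h : ∀ a b : G, a * b = b * a) : commProb G = 1 :=
  commProb_eq_one_iff.2 ⟨⟨h⟩⟩

/-- classes inside a subgroup of the kernel -/
theorem kl [Finite G] (f : G →* H) (hf : Function.Surjective f) (N : Subgroup G) (hN : N ≤ f.ker) :
    ∃ a, Nat.card (ConjClasses H) + a ≤ Nat.card (ConjClasses G) ∧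
      Nat.card N - 1 ≤ a * (centralizer (N : Set G)).index := by
  classical
  have := Fintype.ofFinite G
  let P : ConjClasses G → Prop := fun C => ∃ x ∈ N, x ≠ 1 ∧ ConjClasses.mk x = C
  refine ⟨Nat.card {C // P C}, ?_, ?_⟩
  · rw [← Nat.card_congr (Equiv.sumCompl P), Nat.card_sum, add_comm]
    refine Nat.add_le_add_left (Nat.card_le_card_of_surjective
      (fun C : {C // ¬ P C} => ConjClasses.map f C.1) fun D => ?_) _
    obtain ⟨h, rfl⟩ := ConjClasses.mk_surjective D
    obtain ⟨g, rfl⟩ := hf h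
    by_cases hg : P (ConjClasses.mk g)
    · obtain ⟨x, hx, -, e⟩ := hg
      refine ⟨⟨ConjClasses.mk 1, fun ⟨y, _, hy, e⟩ =>
        hy (isConj_one_right.1 (ConjClasses.mk_eq_mk_iff_isConj.1 e).symm)⟩, ?_⟩
      have := congrArg (ConjClasses.map f) e
      change ConjClasses.mk (f x) = ConjClasses.mk (f g) at this
      change ConjClasses.mk (f 1) = _
      rw [← this, hN hx, map_one]
    · exact ⟨⟨_, hg⟩, rfl⟩
  · have h1 := card_classes_mul (G := G) P
    have h2 := (centralizer (N : Set G)).card_mul_index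
    refine Nat.le_of_mul_le_mul_right ?_ (Nat.card_pos (α := centralizer (N : Set G)))
    rw [mul_assoc, mul_comm (index _), h2, h1]
    have h3 : ((Finset.univ.filter (· ∈ N)).erase 1).card = Nat.card N - 1 := by
      rw [Finset.card_erase_of_mem (by simp), Nat.card_eq_fintype_card, Fintype.card_subtype]
    rw [← h3, ← smul_eq_mul]
    refine (Finset.card_nsmul_le_sum _ (fun x => Nat.card (centralizer ({x} : Set G))) _ fun x hx => ?_).trans
      (Finset.sum_le_sum_of_subset fun x hx => ?_)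
    · exact card_le_of_le (centralizer_le (by simpa using (Finset.mem_erase.1 hx).2))
    · simp only [Finset.mem_erase, Finset.mem_filter, Finset.mem_univ, true_and] at hx ⊢
      exact ⟨x, hx.2, hx.1, rfl⟩

theorem cent_ge [Finite G] {U : Subgroup G} [U.Normal] (hU : U ≤ center G) {x y : G}
    (h : (x : G ⧸ U) ∈ zpowers (y : G ⧸ U)) :
    Nat.card U * orderOf (y : G ⧸ U) ≤ Nat.card (centralizer ({x} : Set G)) := by
  rw [← Nat.card_zpowers, ← card_comap_mk']
  have h1 : ∀ z : G, (z : G ⧸ U) ∈ zpowers (y : G ⧸ U) → ∃ k : ℤ, ∃ u ∈ U, z = y ^ k * u := by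
    rintro z ⟨k, hk⟩
    exact ⟨k, _, QuotientGroup.eq.1 ((QuotientGroup.mk_zpow U y k).trans hk), by group⟩
  refine card_le_of_le fun z hz => mem_cent.2 ?_
  obtain ⟨k, u, hu, rfl⟩ := h1 x h
  obtain ⟨l, v, hv, rfl⟩ := h1 z hz
  have h2 := mem_center_iff.1 (hU hu)
  have h3 := mem_center_iff.1 (hU hv)
  calc y ^ l * v * (y ^ k * u) = y ^ l * (v * y ^ k) * u := by group
    _ = y ^ k * (y ^ l * v * u) := by rw [← h3]; group
    _ = _ := by rw [h2]; group

/-- commuting probability over a central subgroup -/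
theorem cp_central [Finite G] {U : Subgroup G} [U.Normal] (hU : U ≤ center G) [Fintype (G ⧸ U)]
    (w : G ⧸ U → ℕ) (hw : ∀ q, (q = 1 ∧ w q ≤ U.index) ∨ ∃ y, q ∈ zpowers y ∧ w q ≤ orderOf y) :
    ((∑ q, w q : ℕ) : ℚ) ≤ commProb G * U.index ^ 2 := by
  classical
  have := Fintype.ofFinite G
  have h1 : ∑ x : G, Nat.card U * w x ≤ ∑ x : G, Nat.card (centralizer ({x} : Set G)) :=
    Finset.sum_le_sum fun x _ => by
      obtain ⟨h, h'⟩ | ⟨y, h, h'⟩ := hw x
      · rw [centralizer_eq_top_iff_subset.2 (by simpa using hU ((QuotientGroup.eq_one_iff x).1 h)),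
          card_top, ← U.card_mul_index]
        exact Nat.mul_le_mul_left _ h'
      · obtain ⟨y, rfl⟩ := QuotientGroup.mk_surjective y
        exact (Nat.mul_le_mul_left _ h').trans (cent_ge hU h)
  have h2 : ∑ x : G, w x = Nat.card U * ∑ q, w q := by
    have := Fintype.ofFinite U
    rw [← (groupEquivQuotientProdSubgroup (s := U)).symm.sum_comp, Fintype.sum_prod_type, Finset.mul_sum]
    refine Finset.sum_congr rfl fun q _ => ?_
    rw [Finset.sum_congr rfl (g := fun _ => w q), Finset.sum_const, Finset.card_univ, Nat.card_eq_fintype_card,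
      smul_eq_mul]
    intro u _
    exact congrArg w (congrArg Prod.fst ((groupEquivQuotientProdSubgroup (s := U)).apply_symm_apply (q, u)))
  rw [← Finset.mul_sum, h2, ← card_conjClasses_mul] at h1
  have h3 : ((Nat.card U * (Nat.card U * ∑ q, w q) : ℕ) : ℚ) ≤ commProb G * Nat.card G * Nat.card G := by
    rw [cp_mul]; exact_mod_cast h1
  rw [← U.card_mul_index] at h3
  push_cast at h3 ⊢
  have h4 : (0 : ℚ) < Nat.card U * Nat.card U := by
    have := Nat.card_pos (α := U); positivity
  exact le_of_mul_le_mul_left ((le_of_eq (by ring)).trans (h3.trans_eq (by ring))) h4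

theorem cp_central' [Finite G] {U : Subgroup G} [U.Normal] (hU : U ≤ center G) {B : ℚ}
    (hB : (U.index : ℚ) + 1 ≤ 3 * B) (h1 : 1 ≤ B) : 1 ≤ B * commProb G := by
  classical
  have := Fintype.ofFinite (G ⧸ U)
  have h2 := cp_central hU (fun q => if q = 1 then U.index else 2) fun q => by
    by_cases h : q = 1
    · exact .inl ⟨h, by simp [h]⟩
    · refine .inr ⟨q, mem_zpowers q, ?_⟩
      have := orderOf_pos q
      have := mt orderOf_eq_one_iff.1 h
      simp only [h, if_false]; omega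
  have h3 : 1 ≤ U.index := Nat.pos_of_ne_zero index_ne_zero_of_finite
  rw [← Finset.add_sum_erase _ _ (Finset.mem_univ 1), Finset.sum_congr rfl (g := fun _ => 2)
    (fun q hq => if_neg (Finset.mem_erase.1 hq).1), Finset.sum_const, Finset.card_erase_of_mem (Finset.mem_univ _),
    Finset.card_univ, ← Nat.card_eq_fintype_card, ← index, if_pos rfl, smul_eq_mul] at h2
  push_cast [h3] at h2
  generalize hN : (U.index : ℚ) = N at h2 hB
  have h4 : 1 ≤ N := by rw [← hN]; exact_mod_cast h3
  refine le_of_mul_le_mul_right ?_ (show 0 < N ^ 2 by positivity)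
  nlinarith [mul_le_mul_of_nonneg_left h2 (show 0 ≤ B by linarith), mul_nonneg (sub_nonneg.2 h4) (sub_nonneg.2 hB)]

/-- weights on `S₄` -/
def w4 (σ : Equiv.Perm (Fin 4)) : ℕ :=
  if σ = 1 then 24 else if ∃ τ : Equiv.Perm (Fin 4), (σ = τ ∨ σ = τ * τ) ∧ τ * τ ≠ 1 ∧ τ * τ * τ ≠ 1 then 4
  else if σ * σ ≠ 1 then 3 else 2

theorem sum_w4 : ∑ σ, w4 σ = 96 := by decide +kernel

theorem cp_s4 [Finite G] {U : Subgroup G} [U.Normal] (hU : U ≤ center G) (h : U.index = 24)
    (h6 : ∀ q : G ⧸ U, orderOf q ≠ 6) : 1 ≤ 6 * commProb G := by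
  have := Fintype.ofFinite (G ⧸ U)
  obtain ⟨e⟩ := S1012.result h h6
  have h2 := cp_central hU (fun q => w4 (e q)) fun q => by
    have h0 : ∀ (y : G ⧸ U) k, 0 < k → e y ^ k ≠ 1 → orderOf y ≠ k := fun y k _ h1 h2 =>
      h1 (by rw [← map_pow, ← h2, pow_orderOf_eq_one, map_one])
    unfold w4
    split_ifs with h1 h2 h3
    · exact .inl ⟨by simpa using h1, h.ge⟩
    · obtain ⟨τ, h2, h3, h4⟩ := h2
      obtain ⟨y, rfl⟩ := e.surjective τ
      refine .inr ⟨y, ?_, ?_⟩
      · obtain h | h := h2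
        · rw [e.injective h]; exact mem_zpowers y
        · rw [← map_mul] at h; rw [e.injective h]; exact mul_mem (mem_zpowers y) (mem_zpowers y)
      · have := orderOf_pos y
        have := h0 y 1 one_pos fun e => h3 (by rw [pow_one] at e; rw [e, mul_one])
        have := h0 y 2 two_pos (by rwa [sq])
        have := h0 y 3 three_pos (by rwa [pow_three, ← mul_assoc])
        omega
    · have := orderOf_pos q
      have := h0 q 1 one_pos (by rwa [pow_one])
      have := h0 q 2 two_pos (by rwa [sq])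
      exact .inr ⟨q, mem_zpowers q, by omega⟩
    · have := orderOf_pos q
      have := h0 q 1 one_pos (by rwa [pow_one])
      exact .inr ⟨q, mem_zpowers q, by omega⟩
  rw [show ∑ q, w4 (e q) = 96 from (e.toEquiv.sum_comp w4).trans sum_w4, h] at h2
  norm_num at h2
  linarith

theorem egypt {h x y z : ℕ} (h1 : x ∣ h ∨ x = 0) (h2 : y ∣ h ∨ y = 0) (h3 : z ∣ h ∨ z = 0)
    (e : h = 1 + x + y + z) : h ≤ 42 := by
  have key : ∀ x, x ∣ h ∨ x = 0 →
      x = h ∨ 2 * x = h ∨ 3 * x = h ∨ 4 * x = h ∨ 5 * x = h ∨ 6 * x = h ∨ 7 * x ≤ h := by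
    rintro x (⟨a, h1⟩ | rfl)
    · by_cases h7 : 7 ≤ a
      · have := Nat.mul_le_mul_left x h7; omega
      · push Not at h7; interval_cases a <;> omega
    · omega
  have h1 := key x h1
  have h2 := key y h2
  have h3 := key z h3
  clear key
  obtain h1 | h1 | h1 | h1 | h1 | h1 | h1 := h1 <;>
  obtain h2 | h2 | h2 | h2 | h2 | h2 | h2 := h2 <;>
  obtain h3 | h3 | h3 | h3 | h3 | h3 | h3 := h3 <;> omega

theorem landau4 [Finite G] (h : Nat.card (ConjClasses G) ≤ 4) : Nat.card G ≤ 42 := by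
  classical
  have := Fintype.ofFinite (ConjClasses G)
  have h1 := Group.sum_card_conj_classes_eq_card G
  rw [finsum_eq_sum_of_fintype, ← Finset.add_sum_erase _ _ (Finset.mem_univ (ConjClasses.mk 1)),
    ← Nat.card_coe_set_eq, card_carrier_mk, cs_one] at h1
  have h2 : ∀ C : ConjClasses G, C.carrier.ncard ∣ Nat.card G ∨ C.carrier.ncard = 0 := fun C => by
    obtain ⟨x, rfl⟩ := ConjClasses.mk_surjective C
    rw [← Nat.card_coe_set_eq, card_carrier_mk]
    exact .inl (cs_dvd_card x)
  have h3 : (Finset.univ.erase (ConjClasses.mk (1 : G))).card ≤ 3 := by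
    rw [Finset.card_erase_of_mem (Finset.mem_univ _), Finset.card_univ, ← Nat.card_eq_fintype_card]; omega
  generalize Finset.univ.erase (ConjClasses.mk (1 : G)) = s at h1 h3
  obtain h4 | h4 | h4 | h4 : s.card = 0 ∨ s.card = 1 ∨ s.card = 2 ∨ s.card = 3 := by omega
  · rw [Finset.card_eq_zero.1 h4] at h1
    simp only [Finset.sum_empty] at h1; omega
  · obtain ⟨a, rfl⟩ := Finset.card_eq_one.1 h4
    exact egypt (h2 a) (.inr rfl) (.inr rfl) (by simpa using h1.symm)
  · obtain ⟨a, b, hab, rfl⟩ := Finset.card_eq_two.1 h4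
    rw [Finset.sum_pair hab] at h1
    exact egypt (h2 a) (h2 b) (.inr rfl) (by omega)
  · obtain ⟨a, b, c, hab, hac, hbc, rfl⟩ := Finset.card_eq_three.1 h4
    rw [Finset.sum_insert (by simp [hab, hac]), Finset.sum_pair hbc] at h1
    exact egypt (h2 a) (h2 b) (h2 c) (by omega)

theorem card_le_one [Finite G] (h : Nat.card (ConjClasses G) ≤ 1) : Nat.card G ≤ 1 := by
  have := Finite.card_le_one_iff_subsingleton.1 h
  exact Finite.card_le_one_iff_subsingleton.2 ⟨fun a b => by
    rw [isConj_one_right.1 (ConjClasses.mk_eq_mk_iff_isConj.1 (Subsingleton.elim (ConjClasses.mk 1) (ConjClasses.mk a))),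
      isConj_one_right.1 (ConjClasses.mk_eq_mk_iff_isConj.1 (Subsingleton.elim (ConjClasses.mk 1) (ConjClasses.mk b)))]⟩

end Cfsg.Agent.H12.KG
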