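import Cfsg.Agent.H11.BaseHeis4
import Cfsg.Agent.H33.OutD
import Cfsg.Agent.S4208
import Cfsg.Agent.H2.MinNormal

/-! Orders of solvable permutation groups. -/

set_option autoImplicit false
set_option linter.style.haveILetI false

namespace Cfsg.Agent.H12.KG
universe u
open Subgroup MulAction H33 Pointwise

theorem base3 {A V : Type u} [Group A] [Finite A] [AddCommGroup V] [Finite V] [DistribMulAction A V]
    (hA : Group.IsSolvable A) (h : CR A V) : ∃ t : Fin 3 → V, Reg A t :=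
  base_three H11.heisBase3 _ A V (Nat.lt_succ_self _) hA False.elim h

theorem aut_dvd {X : Type*} [Group X] [Finite X] {p n : ℕ} (hp : p.Prime) (h : Nat.card X = p ^ n) :
    ∃ r ≤ n, Nat.card (MulAut X) ∣ p ^ (r * (n - r)) * ∏ i ∈ Finset.range r, (p ^ r - p ^ i) := by
  have := Fact.mk hp
  obtain ⟨r, hr, e⟩ := (Nat.dvd_prime_pow hp).1 (h ▸ (frattini X).index_dvd_card)
  exact ⟨r, hr, S4208.result h e⟩

theorem pow4_le {m : ℕ} (h : 9 ≤ m) : 3 * (m * m ^ 3) ≤ 3 ^ m := by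
  induction m, h using Nat.le_induction with
  | base => norm_num
  | succ m h ih =>
    rw [pow_succ 3]
    have : (m + 1) ^ 4 ≤ 3 * m ^ 4 := by
      have h1 : (9 * (m + 1)) ^ 4 ≤ (10 * m) ^ 4 := Nat.pow_le_pow_left (by omega) 4
      rw [mul_pow, mul_pow] at h1; omega
    nlinarith

theorem dix_aff {S Ω : Type u} [Group S] [Finite S] [Finite Ω] [MulAction S Ω] [FaithfulSMul S Ω]
    (hS : Group.IsSolvable S) {N : Subgroup S} [hN : N.Normal] (h0 : N ≠ ⊥)
    (h1 : ∀ X : Subgroup S, X.Normal → X ≤ N → X = ⊥ ∨ X = N) (ω : Ω) (ht : ∀ x, x ∈ orbit N ω) :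
    3 * Nat.card S ≤ 3 ^ Nat.card Ω := by
  obtain ⟨hc, p, hp, h2⟩ := H2.minimal_normal_elementary_abelian N inferInstance h0 h1
  have := Fact.mk hp
  have h3 : ∀ s : S, s • ω = ω → (∀ x ∈ N, s * x * s⁻¹ = x) → s = 1 := fun s h h' =>
    eq_of_smul_eq_smul (α := Ω) fun y => by
      obtain ⟨x, rfl⟩ := ht y
      change s • x.1 • ω = (1 : S) • x.1 • ω
      rw [one_smul, ← mul_smul, mul_inv_eq_iff_eq_mul.1 (h' x x.2), mul_smul, h]
  have h4 : Nat.card N = Nat.card Ω := Nat.card_eq_of_bijective (fun x : N => x • ω) ⟨fun x y e => by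
    have := h3 (y⁻¹ * x : N) (by rw [← smul_def, mul_smul, inv_smul_eq_iff]; exact e) fun z hz => by
      rw [H2.mul_comm_of_mem hc (y⁻¹ * x).2 hz, mul_inv_cancel_right]
    exact (inv_mul_eq_one.1 (Subtype.ext this)).symm, ht⟩
  have h5 : Nat.card S = Nat.card Ω * Nat.card (stabilizer S ω) := by
    have : IsPretransitive S Ω := (isPretransitive_iff_base ω).2 fun x => let ⟨y, hy⟩ := ht x; ⟨y, hy⟩
    rw [← index_stabilizer_of_transitive S ω, index_mul_card]
  obtain ⟨n, hn⟩ := (H2.isPGroup_of_forall_pow_eq_one h2).exists_card_eq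
  have h6 : Nat.card (stabilizer S ω) ≤ Nat.card (MulAut N) := Nat.card_le_card_of_injective
    ((MulAut.conjNormal (H := N)).comp (stabilizer S ω).subtype) ((injective_iff_map_eq_one _).2 fun s e =>
      Subtype.ext (h3 s s.2 fun x hx => congrArg Subtype.val (MulEquiv.congr_fun e ⟨x, hx⟩)))
  by_cases h9 : 9 ≤ Nat.card Ω
  · have s : Sec ⊤ ⊥ N := ⟨bot_le, fun k _ x hx => by simpa using hx, fun k _ x hx => hN.conj_mem x hx k,
      fun x hx y hy => by simp [H2.mul_comm_of_mem hc hx hy]⟩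
    letI := s.act
    obtain ⟨t, h7⟩ := base3 hS (s.cr_act (s.cr fun Z _ _ hZ => ⟨N, le_rfl, s.nN, hZ.2, fun X hX hX' _ =>
      (h1 X ⟨fun x hx g => hX' g trivial x hx⟩ hX).imp_left Eq.le⟩))
    have h8 : Nat.card (stabilizer S ω) ≤ Nat.card (Fin 3 → s.M) :=
      Nat.card_le_card_of_injective (fun a => a.1 • t) fun a b e => by
        refine (inv_mul_eq_one.1 (Subtype.ext (h3 _ (b⁻¹ * a).2 fun x hx => ?_))).symm
        have := h7 (b⁻¹ * a : stabilizer S ω) (by rw [coe_mul, mul_smul, coe_inv, inv_smul_eq_iff]; exact e) (s.p ⟨x, hx⟩)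
        exact mul_inv_eq_one.1 (mem_bot.1 (s.act_eq.1 this))
    rw [Nat.card_fun, s.card, relIndex_bot_left, h4, Nat.card_fin] at h8
    exact (Nat.mul_le_mul_left _ (h5 ▸ Nat.mul_le_mul_left _ h8)).trans (pow4_le h9)
  have h7 : Nat.card S ≤ (Nat.card Ω).factorial := Nat.card_perm (α := Ω) ▸
    Nat.card_le_card_of_injective _ (toPerm_injective (α := S) (β := Ω))
  have h8 : ∀ q k c, q.Prime → Nat.card Ω = q ^ k →
      (∀ r ≤ k, q ^ (r * (k - r)) * ∏ i ∈ Finset.range r, (q ^ r - q ^ i) ∈ Finset.Icc 1 c) →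
      Nat.card S ≤ Nat.card Ω * c := fun q k c hq e h => by
    obtain ⟨r, hr, e'⟩ := aut_dvd hq (h4.trans e)
    have := Finset.mem_Icc.1 (h r hr)
    exact h5 ▸ Nat.mul_le_mul_left _ (h6.trans ((Nat.le_of_dvd this.1 e').trans this.2))
  have h10 : 0 < Nat.card Ω := h4 ▸ Nat.card_pos
  have h11 : Nat.card Ω ≠ 6 := fun e => by
    have h : ∀ q : ℕ, q.Prime → q ∣ 6 → q = p := fun q hq h =>
      (Nat.prime_dvd_prime_iff_eq hq hp).1 (hq.dvd_of_dvd_pow (by rwa [← hn, h4, e]))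
    have := h 2 Nat.prime_two (by norm_num)
    have := h 3 Nat.prime_three (by norm_num)
    omega
  have h5' := h8 5 1 4 (by norm_num)
  have h7' := h8 7 1 6 (by norm_num)
  have h8' := h8 2 3 168 (by norm_num)
  generalize Nat.card Ω = m at *
  push Not at h9
  interval_cases m
  · simp [Nat.factorial] at h7; omega
  · simp [Nat.factorial] at h7; omega
  · simp [Nat.factorial] at h7; omega
  · simp [Nat.factorial] at h7; omega
  · have := h5' rfl (by decide); omega
  · exact (h11 rfl).elim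
  · have := h7' rfl (by decide); omega
  · have := h8' rfl (by decide); omega

theorem dix_orb {K Ω : Type*} [Group K] [Finite K] [Finite Ω] [MulAction K Ω]
    (h : ∀ q : orbitRel.Quotient K Ω, 3 * (toPermHom K q.orbit).ker.index ≤ 3 ^ Nat.card q.orbit) :
    3 ^ Nat.card (orbitRel.Quotient K Ω) * (toPermHom K Ω).ker.index ≤ 3 ^ Nat.card Ω := by
  have := Fintype.ofFinite (orbitRel.Quotient K Ω)
  have h1 : ⨅ q : orbitRel.Quotient K Ω, (toPermHom K q.orbit).ker ≤ (toPermHom K Ω).ker := fun k hk =>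
    Equiv.ext fun ω => by
      have := DFunLike.congr_fun (mem_iInf.1 hk (Quotient.mk'' ω)) ⟨ω, mem_orbit_self ω⟩
      exact congrArg Subtype.val this
  rw [Nat.card_congr (selfEquivSigmaOrbits' K Ω), Nat.card_sigma, ← Finset.prod_pow_eq_pow_sum]
  refine le_trans ?_ (Finset.prod_le_prod' fun q _ => h q)
  rw [Finset.prod_mul_distrib, Finset.prod_const, Finset.card_univ, Nat.card_eq_fintype_card]
  exact Nat.mul_le_mul_left _ ((index_antitone h1).trans (index_iInf_le _))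

theorem dixon_aux (m : ℕ) : ∀ (S Ω : Type u) [Group S] [Finite S] [Finite Ω] [Nonempty Ω] [MulAction S Ω],
    Nat.card Ω = m → Group.IsSolvable S → 3 * (toPermHom S Ω).ker.index ≤ 3 ^ m := by
  induction m using Nat.strong_induction_on with
  | _ m ih =>
  suffices ∀ (S Ω : Type u) [Group S] [Finite S] [Finite Ω] [Nonempty Ω] [MulAction S Ω] [FaithfulSMul S Ω],
      Nat.card Ω = m → Group.IsSolvable S → 3 * Nat.card S ≤ 3 ^ m from fun S Ω _ _ _ _ _ h hS => by
    rw [index_ker]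
    exact this _ Ω h (Group.isSolvable_of_surjective (toPermHom S Ω).rangeRestrict_surjective)
  intro S Ω _ _ _ _ _ _ hm hS
  subst hm
  rcases subsingleton_or_nontrivial S with h | h
  · rw [Nat.card_unique, mul_one]
    exact Nat.le_self_pow Nat.card_pos.ne' 3
  obtain ⟨N, hN, hN', h1⟩ := H2.exists_minimal_normal (G := S)
  by_cases ht : ∃ ω : Ω, ∀ x, x ∈ orbit N ω
  · obtain ⟨ω, ht⟩ := ht
    exact dix_aff hS hN' h1 ω ht
  push Not at ht
  let B : SubMulAction S (Set Ω) := ⟨Set.range (orbit N), by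
    rintro s _ ⟨ω, rfl⟩; exact ⟨_, (smul_orbit_eq_orbit_smul N ω s).symm⟩⟩
  let b : Ω → B := fun ω => ⟨_, ω, rfl⟩
  have b1 : ∀ (s : S) ω, s • b ω = b (s • ω) := fun s ω => Subtype.ext (smul_orbit_eq_orbit_smul N ω s)
  have b2 : b.Surjective := by rintro ⟨_, ω, rfl⟩; exact ⟨ω, rfl⟩
  have b3 : ∀ (O : B) ω, ω ∈ O.1 ↔ b ω = O := by
    rintro ⟨_, ω', rfl⟩ ω; exact orbit_eq_iff.symm.trans (Subtype.ext_iff (a1 := b ω) (a2 := b ω')).symm
  have : Nonempty B := ⟨b (Classical.arbitrary Ω)⟩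
  have h2 := ih _ (by
    have := Fintype.ofFinite Ω
    have := Fintype.ofFinite B
    rw [Nat.card_eq_fintype_card, Nat.card_eq_fintype_card]
    refine Fintype.card_lt_of_surjective_not_injective b b2 fun hb => hN' (eq_bot_iff.2 fun x hx => ?_)
    exact eq_of_smul_eq_smul (α := Ω) fun ω => by
      rw [one_smul]; exact hb ((b3 (b ω) _).1 ⟨⟨x, hx⟩, rfl⟩)) S B rfl hS
  set K := (toPermHom S B).ker
  have h3 : ∀ ω ω', ω ∈ orbit K ω' → b ω = b ω' := by
    rintro _ ω ⟨k, rfl⟩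
    exact (b1 k ω).symm.trans (DFunLike.congr_fun k.2 (b ω))
  have h4 := dix_orb (K := K) (Ω := Ω) fun q => by
    have : Nonempty q.orbit := q.nonempty_orbit.to_subtype
    refine ih _ ?_ K q.orbit rfl inferInstance
    obtain ⟨ω, rfl⟩ := Quotient.mk''_surjective q
    obtain ⟨x, hx⟩ := ht ω
    rw [Nat.card_coe_set_eq, ← Set.ncard_univ]
    exact Set.ncard_lt_ncard (Set.ssubset_univ_iff.2 fun e => hx ((b3 (b ω) x).2 (h3 x ω (e.ge trivial))))
  rw [(toPermHom K Ω).ker_eq_bot_iff.2 toPerm_injective, index_bot] at h4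
  have h5 : Nat.card B ≤ Nat.card (orbitRel.Quotient K Ω) := Nat.card_le_card_of_surjective
    (Quotient.lift b fun x y h => h3 x y h) fun O => let ⟨ω, e⟩ := b2 O; ⟨Quotient.mk'' ω, e⟩
  rw [← K.index_mul_card, ← mul_assoc]
  exact (Nat.mul_le_mul_right _ (h2.trans (Nat.pow_le_pow_right (by norm_num) h5))).trans h4

/-- A solvable permutation group of degree `m` has order at most `3 ^ (m - 1)`. -/
theorem dixon {S Ω : Type u} [Group S] [Finite S] [Finite Ω] [Nonempty Ω] [MulAction S Ω]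
    (hS : Group.IsSolvable S) : 3 * (toPermHom S Ω).ker.index ≤ 3 ^ Nat.card Ω :=
  dixon_aux _ S Ω rfl hS

end Cfsg.Agent.H12.KG
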