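import Cfsg.Agent.H12.KgB
import Cfsg.Agent.S0044

/-! Orders of solvable symplectic groups. -/

set_option autoImplicit false
set_option linter.style.haveILetI false

namespace Cfsg.Agent.H12.KG
universe u
open Subgroup MulAction H33

theorem fix_mod {B M : Type*} [Group B] [AddCommGroup M] [Finite M] [DistribMulAction B M] {r : ℕ} (hr : r.Prime)
    {x : B} (hx : x ^ r = 1) (Y : Set M) (hY : ∀ y ∈ Y, x • y ∈ Y) (h : ¬ r ∣ Y.ncard) : ∃ y ∈ Y, x • y = y := by
  have := Fact.mk hr
  let f : Function.End Y := fun y => ⟨x • y.1, hY y y.2⟩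
  have h1 : ∀ n (y : Y), (f ^ n) y = (x ^ n • y.1 : M) := fun n => by
    induction n with
    | zero => intro y; simp; rfl
    | succ n ih => intro y; rw [pow_succ', pow_succ', mul_smul, ← ih]; rfl
  have := Fintype.ofFinite Y
  obtain ⟨y, hy⟩ := Equiv.Perm.exists_fixed_point_of_prime (p := r) (n := 1) (α := Y)
    (by rwa [← Nat.card_eq_fintype_card]) (σ := Equiv.ofBijective f (Finite.injective_iff_bijective.1 fun a b e =>
      Subtype.ext (smul_left_cancel x (congrArg Subtype.val e)))) (Equiv.ext fun y => Subtype.ext (by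
        have := h1 r y
        rw [hx, one_smul] at this
        rw [pow_one, ← Equiv.Perm.iterate_eq_pow]
        exact this))
  exact ⟨y, y.2, congrArg Subtype.val hy⟩

/-- a normal `p`-subgroup acts trivially on a completely reducible module in characteristic `p` -/
theorem cr_triv {B M : Type*} [Group B] [Finite B] [AddCommGroup M] [Finite M] [DistribMulAction B M] (h : CR B M)
    {p k : ℕ} [hp : Fact p.Prime] (hM : Nat.card M = p ^ k) {T : Subgroup B} [hT : T.Normal] (hp : IsPGroup p T) :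
    ∀ t ∈ T, ∀ v : M, t • v = v := by
  obtain ⟨W, h1, h2, h3⟩ := h (FixedPoints.addSubgroup T M) fun a v hv t => by
    have := hv ⟨_, hT.conj_mem t t.2 a⁻¹⟩
    change t.1 • a • v = _
    rw [← inv_smul_eq_iff, ← mul_smul, ← mul_smul]
    simpa using this
  letI := subAct T W fun a _ => h1 a
  obtain ⟨j, -, hj⟩ := (Nat.dvd_prime_pow Fact.out).1 (hM ▸ W.card_addSubgroup_dvd_card)
  obtain rfl : W = ⊥ := by
    by_contra h4
    have h5 : j ≠ 0 := fun e => h4 (AddSubgroup.eq_bot_of_card_eq W (by simpa [e] using hj))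
    obtain ⟨b, hb, hb'⟩ := hp.exists_fixed_point_of_prime_dvd_card_of_fixed_point W (hj ▸ dvd_pow_self p h5)
      (a := 0) fun t => smul_zero t
    exact hb' (Subtype.ext (AddSubgroup.mem_bot.1 (h2 ▸ ⟨fun t => congrArg Subtype.val (hb t), b.2⟩)).symm)
  exact fun t ht v => (show v ∈ FixedPoints.addSubgroup T M by rw [← sup_bot_eq (FixedPoints.addSubgroup T M), h3]; trivial)
    ⟨t, ht⟩

theorem card_dvd_aut {B M : Type*} [Group B] [AddCommGroup M] [DistribMulAction B M] [FaithfulSMul B M] :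
    Nat.card B ∣ Nat.card (MulAut (Multiplicative M)) :=
  card_dvd_of_injective (MonoidHom.mk' (fun g => AddEquiv.toMultiplicative (DistribMulAction.toAddEquiv M g))
    fun a b => MulEquiv.ext fun v => mul_smul a b v.toAdd)
    fun _ _ e => eq_of_smul_eq_smul (α := M) fun v => MulEquiv.congr_fun e (.ofAdd v)

theorem card_le_16 {B M : Type*} [Group B] [Finite B] [AddCommGroup M] [Finite M] [DistribMulAction B M]
    [FaithfulSMul B M] (hB : Group.IsSolvable B) (h : CR B M) (hM : Nat.card M = 16) (h7 : ¬ 7 ∣ Nat.card B) :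
    Nat.card B ≤ 144 := by
  have f2 : Fact (Nat.Prime 2) := ⟨Nat.prime_two⟩
  have f3 : Fact (Nat.Prime 3) := ⟨Nat.prime_three⟩
  have f5 : Fact (Nat.Prime 5) := ⟨Nat.prime_five⟩
  have h1 : Nat.card B ∣ 1024 * 45 := by
    obtain ⟨r, hr, e⟩ := aut_dvd (X := Multiplicative M) (n := 4) Nat.prime_two hM
    have : Nat.card B ∣ 1024 * 45 * 7 := (card_dvd_aut.trans e).trans (by interval_cases r <;> decide)
    exact ((Nat.Prime.coprime_iff_not_dvd (by norm_num)).2 h7).symm.dvd_of_dvd_mul_right this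
  have h2 : pCore 2 B = ⊥ := eq_bot_iff.2 fun t ht => eq_of_smul_eq_smul (α := M) fun v => by
    rw [cr_triv h (k := 4) hM H44.pCore_isPGroup t ht, one_smul]
  have h3 : ∀ (N : Subgroup B) [N.Normal], (centralizer (N : Set B)).index ∣ Nat.card (MulAut N) := fun N _ => by
    rw [show centralizer (N : Set B) = (MulAut.conjNormal (H := N)).ker from Subgroup.ext fun g =>
      ⟨fun h => MulEquiv.ext fun x => Subtype.ext (mul_inv_eq_iff_eq_mul.2 (h x x.2).symm), fun h x hx =>
        (mul_inv_eq_iff_eq_mul.1 (congrArg Subtype.val (MulEquiv.congr_fun h ⟨x, hx⟩))).symm⟩, index_ker]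
    exact card_subgroup_dvd_card _
  have h4 : ∀ (p k : ℕ) [Fact p.Prime], ¬ p ^ (k + 1) ∣ 1024 * 45 → ∃ j ≤ k, Nat.card (pCore p B) = p ^ j :=
    fun p k _ h => by
      obtain ⟨j, hj⟩ := (H44.pCore_isPGroup (G := B) (p := p)).exists_card_eq
      exact ⟨j, by_contra fun h' => h ((pow_dvd_pow p (by omega)).trans
        (hj ▸ (card_subgroup_dvd_card _).trans h1)), hj⟩
  have h5 : ∀ Y : AddSubgroup M, Y ≠ ⊥ → Y ≠ ⊤ → ¬ 5 ∣ Nat.card Y - 1 := fun Y h h' => by
    obtain ⟨j, hj, e⟩ := (Nat.dvd_prime_pow (m := 4) Nat.prime_two).1 (hM ▸ Y.card_addSubgroup_dvd_card)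
    interval_cases j
    · exact (h (AddSubgroup.eq_bot_of_card_eq Y e)).elim
    · simp [e]
    · simp [e]
    · simp [e]
    · exact (h' (AddSubgroup.eq_top_of_card_eq Y (e.trans hM.symm))).elim
  by_cases h6 : pCore 5 B = ⊥
  · have h8 : fittingSubgroup B = pCore 3 B := le_antisymm (by
      rw [H44.fitting_eq_iSup_pCore]
      refine iSup_le fun ⟨p, hp⟩ => ?_
      have hp' := Nat.prime_of_mem_primeFactors hp
      have : p ∣ 2 ^ 10 * (3 ^ 2 * 5) := (Nat.dvd_of_mem_primeFactors hp).trans h1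
      rw [hp'.dvd_mul, hp'.dvd_mul] at this
      obtain h | h | h := this
      · simp [(Nat.prime_dvd_prime_iff_eq hp' Nat.prime_two).1 (hp'.dvd_of_dvd_pow h), h2]
      · simp [(Nat.prime_dvd_prime_iff_eq hp' Nat.prime_three).1 (hp'.dvd_of_dvd_pow h)]
      · simp [(Nat.prime_dvd_prime_iff_eq hp' Nat.prime_five).1 h, h6]) H44.pCore_le_fitting
    have h9 := S0044.result (G := B)
    rw [h8] at h9
    obtain ⟨j, hj, e⟩ := h4 3 2 (by norm_num)
    obtain ⟨r, hr, e'⟩ := aut_dvd Nat.prime_three e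
    have h10 : Nat.card B ∣ 432 := by
      rw [← (centralizer (pCore 3 B : Set B)).card_mul_index]
      refine (mul_dvd_mul (e ▸ card_dvd_of_le h9) ((h3 _).trans e')).trans ?_
      interval_cases j <;> interval_cases r <;> decide
    exact Nat.le_of_dvd (by norm_num) (Nat.dvd_gcd h1 h10)
  obtain ⟨j, hj, e⟩ := h4 5 1 (by norm_num)
  obtain rfl : j = 1 := by
    interval_cases j
    · exact (h6 (eq_bot_of_card_eq _ e)).elim
    · rfl
  obtain ⟨r, hr, e'⟩ := aut_dvd Nat.prime_five e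
  have h8 : (centralizer (pCore 5 B : Set B)).index ∣ 4 := ((h3 _).trans e').trans (by interval_cases r <;> decide)
  obtain ⟨x, hx, hx'⟩ := (bot_or_exists_ne_one _).resolve_left h6
  have hx5 : x ^ 5 = 1 := by
    have := pow_card_eq_one' (x := (⟨x, hx⟩ : pCore 5 B))
    rw [e] at this
    exact congrArg Subtype.val this
  have h9 : ∀ Y : AddSubgroup M, (∀ y ∈ Y, x • y ∈ Y) → ¬ 5 ∣ Nat.card Y - Nat.card (Y ⊓ Fx M x : AddSubgroup M) → False :=
    fun Y hY h => by
      obtain ⟨y, hy, e⟩ := fix_mod Nat.prime_five hx5 ((Y : Set M) \ (Y ⊓ Fx M x : AddSubgroup M)) (fun y hy =>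
        ⟨hY y hy.1, fun h => hy.2 ⟨hy.1, smul_left_cancel x h.2⟩⟩) (by
          rwa [Set.ncard_sdiff (SetLike.coe_subset_coe.2 inf_le_left)])
      exact hy.2 ⟨hy.1, e⟩
  have h10 : ∀ g : B, g ≠ 1 → Fx M g ≠ ⊤ := fun g hg e => hg (eq_of_smul_eq_smul (α := M) fun v => by
    rw [one_smul]; exact mem_Fx.1 (e.ge trivial))
  have h11 : Fx M x = ⊥ := by_contra fun h => h9 ⊤ (fun _ _ => trivial) fun h' => h5 _ h (h10 x hx') (by
    rw [top_inf_eq, AddSubgroup.card_top, hM] at h'
    have := (Fx M x).card_le_card_addGroup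
    have := Nat.card_pos (α := Fx M x)
    omega)
  have h12 : Nat.card (centralizer (pCore 5 B : Set B)) ∣ Nat.card M - 1 :=
    dvd_card_sub_one (0 : M) (fun g => smul_zero g) fun v hv => by
      rw [← index_stabilizer, show stabilizer (centralizer (pCore 5 B : Set B)) v = ⊥ from eq_bot_iff.2 fun g hg => by_contra fun h => h9 (Fx M g.1)
        (fun y hy => by rw [mem_Fx, ← mul_smul, ← g.2 x hx, mul_smul, mem_Fx.1 hy]) (by
          rw [h11, inf_bot_eq, AddSubgroup.card_bot]
          exact h5 _ (fun e => hv (AddSubgroup.mem_bot.1 (e ▸ (mem_Fx.2 hg : v ∈ Fx M g.1))))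
            (h10 _ fun e => h (Subtype.ext e))), index_bot]
  rw [← (centralizer (pCore 5 B : Set B)).card_mul_index]
  exact (Nat.mul_le_mul (Nat.le_of_dvd (by omega) h12) (Nat.le_of_dvd four_pos h8)).trans (by omega)

/-- an invariant symplectic form -/
structure Sp {A M K : Type*} [Group A] [AddCommGroup M] [DistribMulAction A M] [Field K] (C : Subgroup A)
    (b : M → M → Kˣ) : Prop where
  addl : ∀ x y z, b (x + y) z = b x z * b y z
  addr : ∀ x y z, b x (y + z) = b x y * b x z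
  alt : ∀ x, b x x = 1
  nd : ∀ x, (∀ y, b x y = 1) → x = 0
  inv : ∀ c ∈ C, ∀ x y, b (c • x) (c • y) = b x y
  inv1 : ∀ (a : A) x y, b x y = 1 → b (a • x) (a • y) = 1

variable {A M : Type u} {K : Type*} [Group A] [AddCommGroup M] [DistribMulAction A M] [Field K] {C : Subgroup A}
  {b : M → M → Kˣ} (h : Sp C b)

/-- the form as a homomorphism -/
def Sp.φ (x : M) : Multiplicative M →* Kˣ := MonoidHom.mk' (fun y => b x y.toAdd) fun _ _ => h.addr _ _ _

include h
theorem Sp.nsmul (n : ℕ) (x y : M) : b (n • x) y = b x y ^ n :=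
  map_pow (MonoidHom.mk' (fun x : Multiplicative M => b x.toAdd y) fun _ _ => h.addl _ _ _) (.ofAdd x) n

theorem Sp.ord_dvd (x : M) : addOrderOf x ∣ Nat.card (h.φ x).range :=
  addOrderOf_dvd_of_nsmul_eq_zero (h.nd _ fun y => by
    rw [h.nsmul]
    exact congrArg Subtype.val (pow_card_eq_one' (x := (⟨_, .ofAdd y, rfl⟩ : (h.φ x).range))))

variable [Finite M]
theorem Sp.fib (x : M) (c : Kˣ) : Nat.card {y // b x y = c} * addOrderOf x ≤ Nat.card M := by
  have h1 : Nat.card {y // b x y = c} ≤ Nat.card (h.φ x).ker := by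
    obtain h1 | ⟨⟨y₀, rfl⟩⟩ := isEmpty_or_nonempty {y // b x y = c}
    · simp
    refine Nat.card_le_card_of_injective (fun y => ⟨.ofAdd y.1 / .ofAdd y₀, ?_⟩) fun y z e =>
      Subtype.ext (div_left_injective (G := Multiplicative M) (congrArg Subtype.val e))
    rw [MonoidHom.mem_ker, map_div, div_eq_one]; exact y.2
  have : Finite (h.φ x).range := .of_surjective _ (h.φ x).rangeRestrict_surjective
  exact (Nat.mul_le_mul h1 (Nat.le_of_dvd Nat.card_pos (h.ord_dvd x))).trans_eq (by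
    rw [← index_ker, card_mul_index]; rfl)

theorem Sp.count {n : ℕ} {u : M} (hu : u ≠ 0) (t : Fin n → M)
    (ht : ∀ c ∈ C, c • u = u → (∀ i, c • t i = t i) → ∀ x : M, c • x = x) :
    Nat.card (C.map (toPermHom A M)) * addOrderOf u ^ n ≤ (Nat.card M - 1) * Nat.card M ^ n := by
  classical
  have := Fintype.ofFinite M
  have h1 := Nat.card_le_card_of_injective (β := Σ x : {x // addOrderOf x = addOrderOf u}, ∀ i, {y // b x y = b u (t i)})
    (fun σ : C.map (toPermHom A M) => ⟨⟨σ.1 u, by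
      obtain ⟨_, c, -, rfl⟩ := σ
      exact (DistribMulAction.toAddEquiv M c).addOrderOf_eq u⟩, fun i => ⟨σ.1 (t i), by
      obtain ⟨_, c, hc, rfl⟩ := σ
      exact h.inv c hc _ _⟩⟩) (by
      rintro ⟨_, a, ha, rfl⟩ ⟨_, c, hc, rfl⟩ e
      have e1 : a • u = c • u := congrArg (fun s => s.1.1) e
      have e2 : ∀ i, a • t i = c • t i := fun i => congrArg (fun s => (s.2 i).1) e
      exact Subtype.ext (Equiv.ext fun x => inv_smul_eq_iff.1 ((mul_smul c⁻¹ a x).symm.trans (ht _
        (mul_mem (inv_mem hc) ha) ((mul_smul _ _ _).trans (inv_smul_eq_iff.2 e1))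
        (fun i => (mul_smul _ _ _).trans (inv_smul_eq_iff.2 (e2 i))) x))))
  refine (Nat.mul_le_mul_right _ h1).trans ?_
  rw [Nat.card_sigma, Finset.sum_mul]
  refine (Finset.sum_le_card_nsmul _ _ (Nat.card M ^ n) fun x _ => ?_).trans (Nat.mul_le_mul_right _ ?_)
  · rw [Nat.card_pi, ← Fin.prod_const, ← Fin.prod_const, ← Finset.prod_mul_distrib]
    exact Finset.prod_le_prod' fun i _ => (Nat.mul_le_mul_left _ x.2.ge).trans (h.fib _ _)
  · rw [Finset.card_univ, Nat.card_eq_fintype_card]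
    exact Nat.le_sub_one_of_lt (Fintype.card_subtype_lt (x := 0) fun e =>
      hu (AddMonoid.addOrderOf_eq_one_iff.1 (by simpa using e.symm)))

theorem Sp.big [Finite A] (hA : Group.IsSolvable A) (hcr : CR A M) (hM : 2 ≤ Nat.card M) :
    4 * Nat.card (C.map (toPermHom A M)) ≤ Nat.card M ^ 3 := by
  obtain ⟨t, ht⟩ := base3 hA hcr
  by_cases h0 : t = 0
  · rw [(Subgroup.map_eq_bot_iff _).2 fun c _ => Equiv.ext (ht c (by simp [h0])), card_bot]
    exact le_trans (by norm_num) (Nat.pow_le_pow_left hM 3)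
  obtain ⟨i, hi⟩ := Function.ne_iff.1 h0
  have h1 := h.count hi (fun j => t (i.succAbove j)) fun c _ h1 h2 =>
    ht c (funext ((Fin.forall_iff_succAbove i).2 ⟨h1, h2⟩))
  have h2 : 2 ≤ addOrderOf (t i) := by
    have := addOrderOf_pos (t i)
    have := mt AddMonoid.addOrderOf_eq_one_iff.1 hi
    omega
  calc _ ≤ _ * addOrderOf (t i) ^ 2 := by rw [mul_comm]; exact Nat.mul_le_mul_left _ (Nat.pow_le_pow_left h2 2)
    _ ≤ _ := h1
    _ ≤ _ := by rw [pow_succ' _ 2]; exact Nat.mul_le_mul_right _ (Nat.sub_le _ _)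

theorem Sp.sqf {e : ℕ} (hM : Nat.card M = e ^ 2) (he : Squarefree e) (h2 : 2 ≤ e) :
    Nat.card (C.map (toPermHom A M)) ≤ (e ^ 2 - 1) * e := by
  obtain ⟨u, hu⟩ := AddMonoid.exists_addOrderOf_eq_exponent (AddMonoid.ExponentExists.of_finite (G := M))
  have h1 : e ≤ addOrderOf u := Nat.le_of_dvd (addOrderOf_pos u) (by
    rw [← Nat.prod_primeFactors_of_squarefree he, Nat.prod_primeFactors_dvd_iff (addOrderOf_pos u).ne']
    intro r hr
    have := Fact.mk (Nat.prime_of_mem_primeFactors hr)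
    obtain ⟨x, hx⟩ := exists_prime_addOrderOf_dvd_card' (G := M) r
      (hM ▸ (Nat.dvd_of_mem_primeFactors hr).trans (dvd_pow_self e two_ne_zero))
    exact Nat.mem_primeFactors.2 ⟨this.out, hu ▸ hx ▸ AddMonoid.addOrder_dvd_exponent x, (addOrderOf_pos u).ne'⟩)
  have : Finite (h.φ u).range := .of_surjective _ (h.φ u).rangeRestrict_surjective
  obtain ⟨⟨_, v, rfl⟩, hv⟩ := IsCyclic.exists_generator (α := (h.φ u).range)
  have h3 := h.count (u := u) (by rintro rfl; simp at h1; omega) (fun _ : Fin 1 => v.toAdd) fun c _ h3 h4 x => by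
    let X := (Fx M c).toSubgroup
    have : Finite (X.map (h.φ u)) := ((Set.toFinite _).image _).to_subtype
    have h5 : e ≤ Nat.card (X.map (h.φ u)) := h1.trans ((Nat.le_of_dvd Nat.card_pos (h.ord_dvd u)).trans
      (card_le_of_le fun y hy => by
        obtain ⟨k, hk⟩ := hv ⟨y, hy⟩
        exact ⟨v ^ k, zpow_mem (show v ∈ X from h4 0) k, (map_zpow _ _ _).trans (congrArg Subtype.val hk)⟩))
    have h6 : e ≤ Nat.card ((h.φ u).ker ⊓ X : Subgroup _) := h1.trans (by
      rw [← orderOf_ofAdd_eq_addOrderOf, ← Nat.card_zpowers]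
      exact card_le_of_le (zpowers_le.2 ⟨h.alt u, h3⟩))
    have h7 : X = ⊤ := eq_top_of_le_card X (by
      rw [← relIndex_bot_left X, ← relIndex_mul_relIndex ⊥ _ X bot_le (inf_le_right (a := (h.φ u).ker)),
        inf_relIndex_right, relIndex_ker, relIndex_bot_left]
      exact (hM.trans (sq e)).le.trans (Nat.mul_le_mul h6 h5))
    exact h7.ge (mem_top (Multiplicative.ofAdd x))
  rw [hM, pow_one, pow_one, sq, ← mul_assoc] at h3
  exact Nat.le_of_mul_le_mul_right ((Nat.mul_le_mul_left _ h1).trans (sq e ▸ h3)) (by omega)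

theorem Sp.four [Finite A] (hA : Group.IsSolvable A) (hcr : CR A M) (hM : Nat.card M = 16) :
    Nat.card (C.map (toPermHom A M)) ≤ 144 := by
  let ρ := DistribMulAction.toModuleAut ℤ M (S := A)
  have : Finite ρ.range := .of_surjective _ ρ.rangeRestrict_surjective
  have h1 := card_le_16 (B := ρ.range) (M := M) (Group.isSolvable_of_surjective ρ.rangeRestrict_surjective)
    (fun U hU => let ⟨W, h1, h2⟩ := hcr U fun a => hU ⟨_, a, rfl⟩
      ⟨W, by rintro ⟨_, a, rfl⟩; exact h1 a, h2⟩) hM fun h7 => by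
    have := Fact.mk Nat.prime_seven
    obtain ⟨x, hx⟩ := exists_prime_orderOf_dvd_card' 7 h7
    have hx7 := hx ▸ pow_orderOf_eq_one x
    have h2 : ∀ Y : Set M, (∀ y ∈ Y, x • y ∈ Y) → ¬ 7 ∣ Y.ncard → ∃ y ∈ Y, x • y = y := fix_mod Nat.prime_seven hx7
    obtain ⟨u, hu, e⟩ := h2 {0}ᶜ (fun y hy h => hy ((smul_eq_zero_iff_eq x).1 h)) (by
      rw [Set.ncard_compl, hM]; simp)
    have h3 : Nat.card (Fx M x) = 2 := by
      obtain ⟨j, hj, e⟩ := (Nat.dvd_prime_pow (m := 4) Nat.prime_two).1 (hM ▸ (Fx M x).card_addSubgroup_dvd_card)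
      have h4 : 7 ∣ 16 - 2 ^ j := by_contra fun h4 => by
        obtain ⟨y, hy, e⟩ := h2 (Fx M x : Set M)ᶜ (fun y hy h => hy (smul_left_cancel x h)) (by
          rwa [Set.ncard_compl, hM, ← Nat.card_coe_set_eq, SetLike.coe_sort_coe, e])
        exact hy e
      have h5 : j ≠ 4 := fun h5 => by
        have := AddSubgroup.eq_top_of_card_eq _ (e.trans (by rw [h5, hM]; rfl))
        rw [show x = 1 from eq_of_smul_eq_smul (α := M) fun v => (mem_Fx.1 (this.ge trivial)).trans (one_smul _ v).symm,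
          orderOf_one] at hx
        omega
      interval_cases j <;> simp_all
    obtain ⟨_, a, rfl⟩ := x
    obtain ⟨w, -, h4⟩ := (Nat.card_eq_two_iff' 0).1 h3
    have h5 : Nat.card (h.φ u).range ≤ 2 := by
      refine (Set.ncard_le_ncard (t := {1, -1}) ?_).trans ((Set.ncard_insert_le _ _).trans (by simp))
      rintro _ ⟨y, rfl⟩
      have : 2 • u = 0 := congrArg Subtype.val (h3 ▸ card_nsmul_eq_zero' (x := (⟨u, e⟩ : Fx M _)))
      have h6 := h.nsmul 2 u y.toAdd
      rw [this, ← zero_smul ℕ u, h.nsmul, pow_zero, Units.ext_iff] at h6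
      exact (sq_eq_one_iff.1 h6.symm).imp (fun h => Units.ext h) fun h => Units.ext h
    obtain ⟨y, hy, e'⟩ := h2 {y | b u y = 1}ᶜ (fun y hy h' => hy (by
      have := h.inv1 a⁻¹ u (a • y) h'
      rwa [inv_smul_smul, inv_smul_eq_iff.2 (show u = a • u from e.symm)] at this)) (by
      have h6 : Nat.card (h.φ u).ker * _ = 16 := (h.φ u).ker.card_mul_index.trans hM
      rw [index_ker] at h6
      have h7 : Nat.card (h.φ u).range ≠ 1 := fun e => hu (h.nd u fun y =>
        mem_bot.1 (eq_bot_of_card_eq _ e ▸ (⟨.ofAdd y, rfl⟩ : _ ∈ (h.φ u).range)))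
      rw [Set.ncard_compl, hM, show {y | b u y = 1}.ncard = Nat.card (h.φ u).ker from rfl]
      generalize Nat.card (h.φ u).range = k at *
      interval_cases k <;> omega)
    have h6 := (h4 ⟨y, e'⟩ fun e => hy (by
      rw [show y = 0 from congrArg Subtype.val e]; exact map_one (h.φ u))).trans
      (h4 ⟨u, e⟩ fun e => hu (congrArg Subtype.val e)).symm
    exact hy (by rw [show y = u from congrArg Subtype.val h6]; exact h.alt u)
  refine le_trans ?_ h1
  rw [← index_ker, ← relIndex_ker, show ρ.ker = (toPermHom A M).ker from Subgroup.ext fun g =>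
    ⟨fun h => Equiv.ext (LinearEquiv.congr_fun h), fun h => LinearEquiv.ext fun v => Equiv.congr_fun h v⟩,
    ← relIndex_top_right]
  exact relIndex_le_of_le_right le_top index_ne_zero_of_finite

omit h in
theorem two_dvd (hM : Nat.card M = 4) : Nat.card (C.map (toPermHom A M)) ∣ 6 := by
  obtain ⟨r, hr, e⟩ := aut_dvd (X := Multiplicative M) (n := 2) Nat.prime_two hM
  let ρ := DistribMulAction.toModuleAut ℤ M (S := A)
  have h1 : Nat.card ρ.range ∣ 6 := (card_dvd_aut.trans e).trans (by interval_cases r <;> decide)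
  rw [← index_ker, show ρ.ker = (toPermHom A M).ker from Subgroup.ext fun g =>
    ⟨fun h => Equiv.ext (LinearEquiv.congr_fun h), fun h => LinearEquiv.ext fun v => Equiv.congr_fun h v⟩] at h1
  rw [← relIndex_ker]
  exact (relIndex_dvd_index_of_normal _ _).trans h1

end Cfsg.Agent.H12.KG
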