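import Cfsg.Agent.H12.KgC
import Cfsg.Agent.H12.KgA

/-! Commuting probability of quasi-primitive solvable linear groups. -/

set_option autoImplicit false
set_option linter.style.haveILetI false
set_option linter.unusedSectionVars false

namespace Cfsg.Agent.H12.KG
universe u
open Subgroup MulAction H33

attribute [local instance] Sec.act

theorem quasi_prim {A V : Type u} [Group A] [Finite A] [AddCommGroup V] [Finite V] [DistribMulAction A V]
    [FaithfulSMul A V] [Nontrivial V] (hq : Quasi A V) :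
    ∃ (K : Type u) (_ : Field K) (_ : Finite K) (_ : Module K V) (U : Subgroup A) (ι : U →* K), Prim V U ι ∧
      ∃ q a, 1 < q ∧ Nat.card K = q ^ a ∧ (centralizer (U : Set A)).index ≤ a := by
  obtain ⟨U, ⟨h1, h2⟩, h3⟩ := (Set.toFinite {U : Subgroup A | U.Normal ∧ U ≤ centralizer U}).exists_maximal
    ⟨⊥, inferInstance, bot_le⟩
  let ρ := DistribMulAction.toModuleEnd ℤ V (S := A)
  let R := Subring.closure (ρ '' U)
  have h4 : ∀ x, (∀ u ∈ U, ρ u * x = x * ρ u) → ∀ r ∈ R, r * x = x * r := fun x hx r hr =>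
    ((Subring.closure_le (t := Subring.centralizer {x})).2 (by
      rintro _ ⟨u, hu, rfl⟩ _ rfl; exact (hx u hu).symm) hr x rfl).symm
  have h5 : ∀ c ∈ centralizer (U : Set A), ∀ r ∈ R, r * ρ c = ρ c * r := fun c hc =>
    h4 _ fun u hu => by rw [← map_mul, hc u hu, map_mul]
  have h6 : ∀ r ∈ R, ∀ s ∈ R, r * s = s * r := fun r hr s hs => h4 s (fun u hu => (h5 u (h2 hu) s hs).symm) r hr
  let φ := ConjAct.toConjAct.toMonoidHom.comp ρ.toHomUnits
  have h7 : ∀ a u, φ a • ρ u = ρ (a * u * a⁻¹) := fun a u => by rw [map_mul, map_mul]; rfl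
  have h8 : ∀ a, ∀ r ∈ R, φ a • r ∈ R := fun a => (Subring.closure_le (t := R.comap
    (MulSemiringAction.toRingHom _ _ (φ a)))).2 (by
      rintro _ ⟨u, hu, rfl⟩; exact Subring.subset_closure ⟨_, h1.conj_mem u hu a, (h7 a u).symm⟩)
  have h9 := hq R h6 fun a r hr => ⟨_, h8 a r hr, fun v => rfl⟩
  letI : CommRing R := { (inferInstance : Ring R) with mul_comm := fun r s => Subtype.ext (h6 r r.2 s s.2) }
  have : NoZeroDivisors R := ⟨fun {r s} e => or_iff_not_imp_left.2 fun h => Subtype.ext (LinearMap.ext fun v =>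
    h9 r r.2 (fun e => h (Subtype.ext e)) _ (LinearMap.congr_fun (congrArg Subtype.val e) v))⟩
  have : IsDomain R := NoZeroDivisors.to_isDomain R
  have : Finite (Module.End ℤ V) := DFunLike.finite _
  letI := (Finite.isField_of_domain R).toField
  letI : MulSemiringAction A R :=
    { smul a r := ⟨φ a • r.1, h8 a r r.2⟩
      one_smul r := Subtype.ext ((congrArg (· • r.1) φ.map_one).trans (one_smul _ _))
      mul_smul a b r := Subtype.ext ((congrArg (· • r.1) (φ.map_mul a b)).trans (mul_smul _ _ _))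
      smul_zero a := Subtype.ext (smul_zero (φ a))
      smul_add a r s := Subtype.ext (smul_add (φ a) r.1 s.1)
      smul_one a := Subtype.ext (smul_one (φ a))
      smul_mul a r s := Subtype.ext (smul_mul' (φ a) r.1 s.1) }
  let ψ := MulSemiringAction.toRingAut A R
  have : Finite ψ.range := .of_surjective _ ψ.rangeRestrict_surjective
  have := Fintype.ofFinite ψ.range
  have h10 : Nat.card R = Nat.card (FixedPoints.subfield ψ.range R) ^ ψ.ker.index := by
    rw [Module.natCard_eq_pow_finrank (K := FixedPoints.subfield ψ.range R), FixedPoints.finrank_eq_card,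
      ← Nat.card_eq_fintype_card, ← index_ker]
  have h11 : (centralizer (U : Set A)).index ≤ ψ.ker.index := Nat.le_of_dvd (Nat.pos_of_ne_zero index_ne_zero_of_finite)
    (index_dvd_of_le fun a ha u hu => by
      have := (h7 a u).symm.trans (congrArg Subtype.val (RingEquiv.congr_fun ha ⟨ρ u, Subring.subset_closure ⟨u, hu, rfl⟩⟩))
      exact (mul_inv_eq_iff_eq_mul.1 (eq_of_smul_eq_smul (α := V) (LinearMap.congr_fun this))).symm)
  exact ⟨R, inferInstance, inferInstance, inferInstance, U,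
    (ρ.comp U.subtype).codRestrict R fun u => Subring.subset_closure ⟨u, u.2, rfl⟩,
    ⟨h1, h2, fun X h h' h'' => h3 ⟨h, h''⟩ h', fun _ _ => rfl, fun c hc k v => (LinearMap.congr_fun (h5 c hc k k.2) v).symm,
    h10 ▸ (Nat.pow_le_pow_right two_pos h11).trans (Nat.pow_le_pow_left Finite.one_lt_card _)⟩,
    _, _, Finite.one_lt_card, h10, h11⟩

theorem perm4 : ∀ (σ : Equiv.Perm (Fin 4)) a, σ a = a → σ ^ 2 = 1 ∨ (σ ^ 3 = 1 ∧ ∀ b, σ b = b → b = a) := by
  decide +kernel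

theorem perm4' {M : Type*} (h : Nat.card M = 4) (σ : Equiv.Perm M) {a : M} (ha : σ a = a) :
    σ ^ 2 = 1 ∨ (σ ^ 3 = 1 ∧ ∀ b, σ b = b → b = a) := by
  have : Finite M := Nat.finite_of_card_ne_zero (by omega)
  let e := (Finite.equivFinOfCardEq h).permCongrHom
  refine (perm4 (e σ) (Finite.equivFinOfCardEq h a) (by simp [e, ha])).imp (fun h => ?_) fun ⟨h1, h2⟩ => ⟨?_, fun b hb => ?_⟩
  · exact e.injective (by rw [map_pow, h, map_one])
  · exact e.injective (by rw [map_pow, h1, map_one])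
  · exact (Finite.equivFinOfCardEq h).injective (h2 _ (by simp [e, hb]))

theorem pow8_le {e : ℕ} (h : 7 ≤ e) : e ^ 8 + 4 ≤ 12 * 9 ^ (e - 1) := by
  induction e, h using Nat.le_induction with
  | base => norm_num
  | succ e h ih =>
    have h1 : (7 * (e + 1)) ^ 8 ≤ (8 * e) ^ 8 := Nat.pow_le_pow_left (by omega) 8
    obtain ⟨k, rfl⟩ : ∃ k, e = k + 1 := ⟨e - 1, by omega⟩
    rw [mul_pow, mul_pow] at h1
    simp only [Nat.add_sub_cancel] at ih ⊢
    rw [pow_succ 9]
    omega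

variable {A V : Type u} {K : Type*} [Group A] [AddCommGroup V] [DistribMulAction A V] [Field K] [Module K V]
  {U : Subgroup A} {ι : U →* K} (h : Prim V U ι)
include h

theorem exists_E [Finite A] (hA : Group.IsSolvable A) : ∃ E : Subgroup A, ∃ s : Sec ⊤ U E, E.Normal ∧
    E ≤ centralizer U ∧ CR (⊤ : Subgroup A) s.M ∧ centralizer (U : Set A) ⊓ centralizer E ≤ U := by
  have := h.nU
  have hN : ∀ X : Subgroup A, Nz ⊤ X ↔ X.Normal := fun X =>
    ⟨fun h => ⟨fun x hx g => h g trivial x hx⟩, fun h g _ x hx => h.conj_mem x hx g⟩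
  have hq : ∀ x y : A, x * y * x⁻¹ * y⁻¹ ∈ U ↔ Commute (x : A ⧸ U) y := fun x y => by
    rw [← QuotientGroup.eq_one_iff, ← commutatorElement_eq_one_iff_commute]; rfl
  obtain ⟨E, ⟨h1, h2, h3⟩, h4⟩ := (Set.toFinite {E : Subgroup A | Sec ⊤ U E ∧ E ≤ centralizer U ∧
      ∀ Z, Nz ⊤ Z → U ≤ Z → Z < E → ∃ Y ≤ E, Nz ⊤ Y ∧ ¬ Y ≤ Z ∧
      ∀ X ≤ Y, Nz ⊤ X → U ⊓ Y ≤ X → X ≤ U ∨ X = Y}).exists_maximal ⟨U, ⟨le_rfl, (hN U).2 this, (hN U).2 this,
      fun x hx y hy => mul_mem (this.conj_mem y hy x) (inv_mem hy)⟩, h.comm, fun Z _ h h' => (h'.2 h).elim⟩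
  have hE := (hN E).1 h1.nN
  refine ⟨E, h1, hE, h2, h1.cr h3, by_contra fun h5 => ?_⟩
  obtain ⟨Y, ⟨h6, h7, h8⟩, h9⟩ := (Set.toFinite {Y : Subgroup A | Y.Normal ∧ U < Y ∧
    Y ≤ centralizer (U : Set A) ⊓ centralizer E}).exists_minimal ⟨_, inferInstance,
    lt_of_le_of_ne (le_inf h.comm (le_centralizer_iff.1 h2)) fun e => h5 e.ge, le_rfl⟩
  have h10 : ∀ X ≤ Y, X.Normal → U ≤ X → X ≤ U ∨ X = Y := fun X hX hX' hU => or_iff_not_imp_left.2 fun h =>
    le_antisymm hX (h9 ⟨hX', lt_of_le_of_ne hU fun e => h e.ge, hX.trans h8⟩ hX)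
  have h11 : ∀ x ∈ Y, ∀ y ∈ Y, Commute (x : A ⧸ U) y := fun x hx y hy => (hq x y).1 (by
    have := Group.IsSolvable.commutator_lt_of_ne_bot (H := Y.map (QuotientGroup.mk' U)) (by
      simpa [Subgroup.map_eq_bot_iff] using h7.2)
    refine (h10 (⁅Y, Y⁆ ⊔ U) (sup_le (commutator_le_left _ _) h7.le) inferInstance le_sup_right).resolve_right
      (fun e => this.ne ?_) (mem_sup_left (commutator_mem_commutator hx hy))
    rw [← map_commutator]
    conv_rhs => rw [← e, Subgroup.map_sup, QuotientGroup.map_mk'_self, sup_bot_eq])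
  have h12 : ∀ x ∈ E, ∀ y ∈ Y, Commute (x : A ⧸ U) y := fun x hx y hy =>
    (show Commute x y from (h8 hy).2 x hx).map (QuotientGroup.mk' U)
  have h13 := le_sup_right.trans (h4 (y := E ⊔ Y) ⟨⟨h1.le.trans le_sup_left, h1.nL, (hN _).2 inferInstance, ?_⟩,
    sup_le h2 (h8.trans inf_le_left), fun Z hZ hZ' hZ'' => ?_⟩ le_sup_left)
  · exact h7.2 (h.max Y h6 h7.le fun y hy x hx => (h8 hy).2 x (h13 hx))
  · intro x hx y hy
    obtain ⟨a, ha, b, hb, rfl⟩ := mem_sup_of_normal_right.1 hx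
    obtain ⟨c, hc, d, hd, rfl⟩ := mem_sup_of_normal_right.1 hy
    exact (hq _ _).2 ((((hq a c).1 (h1.comm a ha c hc)).mul_right (h12 a ha d hd)).mul_left
      ((h12 c hc b hb).symm.mul_right (h11 b hb d hd)))
  by_cases hY : Y ≤ Z
  · obtain ⟨Y', h14, h15, h16, h17⟩ := h3 (Z ⊓ E) (fun k hk x hx => ⟨hZ k hk x hx.1, h1.nN k hk x hx.2⟩)
      (le_inf hZ' h1.le) (lt_of_le_of_ne inf_le_right fun e => hZ''.2 (sup_le (e.ge.trans inf_le_left) hY))
    exact ⟨Y', h14.trans le_sup_left, h15, fun h => h16 (le_inf h h14), h17⟩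
  · exact ⟨Y, le_sup_right, (hN Y).2 h6, hY, fun X hX hX' h => h10 X hX ((hN X).1 hX') ((le_inf le_rfl h7.le).trans h)⟩


variable [FaithfulSMul A V] [Finite A]

theorem exists_sp {E : Subgroup A} (s : Sec ⊤ U E) (hE : E ≤ centralizer U)
    (hC : centralizer (U : Set A) ⊓ centralizer E ≤ U) : ∃ b : s.M → s.M → Kˣ, Sp (centralizer (U : Set A)) b := by
  let Φ := cm ι hE hE s.comm
  let o := Function.surjInv s.p_surj
  have h1 : ∀ x x' y : E, x.1 * x'.1⁻¹ ∈ U → Φ x y = Φ x' y ∧ Φ y x = Φ y x' := fun x x' y hx => by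
    have h2 := hE y.2 _ hx
    refine ⟨mul_inv_eq_one.1 ?_, mul_inv_eq_one.1 ?_⟩
    · exact (by simp : _ = Φ (x * x'⁻¹) y).trans ((h.cm_eq hE hE s.comm y (x * x'⁻¹)).2 h2.symm)
    · exact (by simp : _ = Φ y (x * x'⁻¹)).trans ((h.cm_eq hE hE s.comm (x * x'⁻¹) y).2 h2)
  have h2 : ∀ x y : E, Φ (o (s.p x)) (o (s.p y)) = Φ x y := fun x y =>
    (h1 _ x _ (s.p_eq.1 (Function.surjInv_eq _ _))).1.trans (h1 _ y _ (s.p_eq.1 (Function.surjInv_eq _ _))).2
  have h3 : ∀ (a : A) (x : E), a • s.p x = s.p (s.cj ⟨a, trivial⟩ x) := fun _ _ => rfl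
  refine ⟨fun v w => Φ (o v) (o w), fun x y z => ?_, fun x y z => ?_, fun x => (h.cm_eq hE hE s.comm _ _).2 rfl,
    fun x hx => ?_, fun c hc x y => ?_, fun a x y hx => ?_⟩
  all_goals obtain ⟨x, rfl⟩ := s.p_surj x
  · obtain ⟨y, rfl⟩ := s.p_surj y
    obtain ⟨z, rfl⟩ := s.p_surj z
    rw [← s.p_mul, h2, h2, h2, map_mul, MonoidHom.mul_apply]
  · obtain ⟨y, rfl⟩ := s.p_surj y
    obtain ⟨z, rfl⟩ := s.p_surj z
    rw [← s.p_mul, h2, h2, h2, map_mul]
  · exact s.p_eq_zero.2 (hC ⟨hE x.2, fun y hy => (h.cm_eq hE hE s.comm ⟨y, hy⟩ x).1 ((h2 _ _).symm.trans (hx _))⟩)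
  · obtain ⟨y, rfl⟩ := s.p_surj y
    rw [h3, h3, h2, h2]
    refine congrArg ι.toHomUnits (Subtype.ext ?_)
    have := hc _ (s.comm y y.2 x x.2)
    change c * y * c⁻¹ * (c * x * c⁻¹) * (c * y * c⁻¹)⁻¹ * (c * x * c⁻¹)⁻¹ = y * x * y.1⁻¹ * x.1⁻¹
    rw [← mul_inv_eq_iff_eq_mul.2 this.symm]; group
  · obtain ⟨y, rfl⟩ := s.p_surj y
    rw [h3, h3, h2]
    rw [h2] at hx
    have := (h.cm_eq hE hE s.comm y x).1 hx
    refine (h.cm_eq hE hE s.comm _ _).2 ?_
    change a * y * a⁻¹ * (a * x * a⁻¹) = a * x * a⁻¹ * (a * y * a⁻¹)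
    calc _ = a * (y * x) * a⁻¹ := by group
      _ = _ := by rw [this]; group

theorem sub_center : U.subgroupOf (centralizer (U : Set A)) ≤ center (centralizer (U : Set A)) := fun u hu =>
  mem_center_iff.2 fun c => Subtype.ext (c.2 u hu).symm

variable [Finite V] [Nontrivial V]

theorem prim_N (hA : Group.IsSolvable A) : ∃ e N, U.relIndex (centralizer (U : Set A)) = N ∧ e ≤ Module.finrank K V ∧
    (e ≤ 1 → N ≤ 1) ∧ (e = 2 → N ≤ 12 ∨ N = 24 ∧ 1 ≤ 6 * commProb (centralizer (U : Set A))) ∧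
    (e = 3 → N ≤ 216) ∧ (e = 4 → N ≤ 2304) ∧ (e = 5 → N ≤ 3000) ∧ (e = 6 → N ≤ 7560) ∧ (2 ≤ e → 4 * N ≤ e ^ 8) := by
  obtain ⟨E, s, hEn, hE, hcr, hC⟩ := exists_E h hA
  have hcr := s.cr_act hcr
  have := h.nU
  obtain ⟨e, he⟩ := h.sq s hE hC
  have hd := h.le_finrank s hE hC
  rw [he, Nat.pow_le_pow_iff_left two_ne_zero] at hd
  obtain ⟨b, hb⟩ := exists_sp h s hE hC
  have hM := s.card.trans he
  let ψ := toPermHom A s.M
  let D := centralizer (U : Set A) ⊓ ψ.ker
  have hD : ∀ g, g ∈ ψ.ker ↔ ∀ x ∈ E, g * x * g⁻¹ * x⁻¹ ∈ U := fun g =>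
    ⟨fun hg x hx => (s.act_eq (x := ⟨x, hx⟩)).1 (DFunLike.congr_fun hg (s.p ⟨x, hx⟩)), fun h => Equiv.ext fun v => by
      obtain ⟨x, rfl⟩ := s.p_surj v
      exact s.act_eq.2 (h x x.2)⟩
  have hED : E ≤ D := le_inf hE fun x hx => (hD x).2 (s.comm x hx)
  have hDE : D ≤ E := by
    have h2 := h.pairing (X := D) inf_le_left hE fun x hx => (hD x).1 hx.2
    rw [rel_cent hE hC inf_le_left] at h2
    have h3 := h2.trans (relIndex_le_of_le_left ((le_centralizer_iff.1 inf_le_left : U ≤ centralizer D))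
      index_ne_zero_of_finite)
    rw [← relIndex_mul_relIndex U E D s.le hED] at h3
    have h4 : 0 < U.relIndex E := Nat.pos_of_ne_zero index_ne_zero_of_finite
    have h5 : 0 < E.relIndex D := Nat.pos_of_ne_zero index_ne_zero_of_finite
    exact relIndex_eq_one.1 (by nlinarith)
  have hN : U.relIndex (centralizer (U : Set A)) = e ^ 2 * Nat.card ((centralizer (U : Set A)).map ψ) := by
    rw [← relIndex_mul_relIndex U E _ s.le hE, he, ← relIndex_ker, ← inf_relIndex_left _ ψ.ker,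
      show centralizer (U : Set A) ⊓ ψ.ker = E from le_antisymm hDE hED]
  have hs : Squarefree e → 2 ≤ e → Nat.card ((centralizer (U : Set A)).map ψ) ≤ _ := hb.sqf hM
  refine ⟨e, _, rfl, hd, fun h1 => ?_, ?_, ?_, ?_, ?_, ?_, fun h1 => ?_⟩
  · have h2 : U.relIndex E = 1 := by
      have : U.relIndex E ≠ 0 := index_ne_zero_of_finite
      interval_cases e <;> omega
    exact (relIndex_eq_one.2 fun x hx => hC ⟨hx, centralizer_le (relIndex_eq_one.1 h2) hx⟩).le
  · rintro rfl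
    have h1 := two_dvd (C := centralizer (U : Set A)) hM
    have h2 : Nat.card ((centralizer (U : Set A)).map ψ) ≤ 3 ∨ Nat.card ((centralizer (U : Set A)).map ψ) = 6 := by
      have := Nat.le_of_dvd (by norm_num) h1
      generalize Nat.card ((centralizer (U : Set A)).map ψ) = l at *
      interval_cases l <;> omega
    refine h2.imp (fun h => by omega) fun h2 => ⟨by omega, cp_s4 (sub_center h) (by rw [h2] at hN; exact hN) fun q hq => ?_⟩
    obtain ⟨x, rfl⟩ := QuotientGroup.mk_surjective q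
    have h3 : ∀ k, x.1 ^ k ∈ U → 6 ∣ k := fun k hk => hq ▸ orderOf_dvd_of_pow_eq_one
      ((QuotientGroup.mk_pow _ x k).symm.trans ((QuotientGroup.eq_one_iff _).2 hk))
    have h4 : ∀ k, ψ x ^ k = 1 → x.1 ^ k ∈ E := fun k hk => hDE ⟨pow_mem x.2 k, (map_pow ψ _ k).trans hk⟩
    obtain h5 | ⟨h5, h6⟩ := perm4' hM (ψ x) (a := 0) (smul_zero x.1)
    · have h6 := pow_card_eq_one' (x := s.π ⟨_, h4 2 h5⟩)
      rw [show Nat.card (Multiplicative s.M) = 4 from hM, ← map_pow] at h6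
      have := h3 (2 * 4) (pow_mul x.1 2 4 ▸ s.p_eq_zero.1 h6)
      omega
    · have := h3 3 (s.p_eq_zero.1 (h6 (s.p ⟨_, h4 3 h5⟩) (s.act_eq.2 (by
        rw [show x.1 * x.1 ^ 3 * x.1⁻¹ * (x.1 ^ 3)⁻¹ = 1 by group]; exact U.one_mem))))
      omega
  · rintro rfl
    have := hs Nat.prime_three.squarefree (by norm_num)
    omega
  · rintro rfl
    have : Nat.card ((centralizer (U : Set A)).map ψ) ≤ _ := hb.four hA hcr hM
    omega
  · rintro rfl
    have := hs Nat.prime_five.squarefree (by norm_num)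
    omega
  · rintro rfl
    have := hs (Nat.squarefree_mul_iff.2 ⟨(by norm_num : Nat.Coprime 2 3), Nat.prime_two.squarefree,
      Nat.prime_three.squarefree⟩) (by norm_num)
    omega
  · have := hb.big hA hcr (hM ▸ h1.trans (Nat.le_self_pow two_ne_zero e))
    rw [hN, mul_left_comm, show e ^ 8 = e ^ 2 * (e ^ 2) ^ 3 by ring]
    exact Nat.mul_le_mul_left _ (hM ▸ this)

theorem prim_cp (hA : Group.IsSolvable A) {β : ℚ} (h9 : 9 ≤ β) (hβ : 4 ≤ Module.finrank K V → 19 / 2 ≤ β) :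
    1 ≤ β ^ (Module.finrank K V - 1) * commProb (centralizer (U : Set A)) := by
  obtain ⟨e, N, hN, he, h1, h2, h3, h4, h5, h6, h7⟩ := prim_N h hA
  have := h.nU
  have h8 : ∀ γ : ℚ, 1 ≤ γ → γ ≤ β → γ ^ (e - 1) ≤ β ^ (Module.finrank K V - 1) := fun γ h h' =>
    (pow_le_pow_left₀ (by linarith) h' _).trans (pow_le_pow_right₀ (by linarith) (by omega))
  refine cp_central' (sub_center h) ?_ (one_le_pow₀ (by linarith))
  rw [show (U.subgroupOf (centralizer (U : Set A))).index = N from hN]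
  have h10 := h8 9 (by norm_num) h9
  have h11 : ∀ c : ℕ, N ≤ c → (N : ℚ) ≤ c := fun c h => by exact_mod_cast h
  by_cases h12 : 7 ≤ e
  · have h13 : ((4 * N + 4 : ℕ) : ℚ) ≤ ((12 * 9 ^ (e - 1) : ℕ) : ℚ) :=
      Nat.cast_le.2 ((Nat.add_le_add_right (h7 (by omega)) 4).trans (pow8_le h12))
    push_cast at h13
    linarith
  push Not at h12
  interval_cases e
  · have := h11 1 (h1 (by omega)); norm_num only at this h10; linarith
  · have := h11 1 (h1 (by omega)); norm_num only at this h10; linarith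
  · have := h11 24 (by have := h2 rfl; omega); norm_num only at this h10; linarith
  · have := h11 _ (h3 rfl); norm_num only at this h10; linarith
  · have := h11 _ (h4 rfl)
    have h10 := h8 (19 / 2) (by norm_num) (hβ he)
    norm_num only at this h10; linarith
  · have := h11 _ (h5 rfl); norm_num only at this h10; linarith
  · have := h11 _ (h6 rfl); norm_num only at this h10; linarith

end Cfsg.Agent.H12.KG
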