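import Cfsg.Agent.H12.KgD

/-! Commuting probability of solvable linear groups. -/

set_option autoImplicit false
set_option linter.style.haveILetI false
set_option linter.unusedSectionVars false

namespace Cfsg.Agent.H12.KG
universe u
open Subgroup MulAction H33 Pointwise

variable {A V : Type u} [Group A] [AddCommGroup V] [DistribMulAction A V]

/-- independence of the conjugates of a subgroup -/
def Ind (A : Type u) {V : Type u} [Group A] [AddCommGroup V] [DistribMulAction A V] (W : AddSubgroup V) : Prop :=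
  ∀ (_ : Fintype (orbit A W)) (f : orbit A W → V), (∀ ω, f ω ∈ ω.1) → ∑ ω, f ω = 0 → ∀ ω, f ω = 0

theorem dich [Finite V] (R : Set (Module.End ℤ V)) (hc : ∀ r ∈ R, ∀ s ∈ R, r * s = s * r)
    (hR : ∀ a : A, ∀ r ∈ R, ∃ s ∈ R, ∀ v, s v = a • r (a⁻¹ • v)) [Nontrivial V] :
    (∀ r ∈ R, r ≠ 0 → ∀ v, r v = 0 → v = 0) ∨ ∃ W : AddSubgroup V, W ≠ ⊥ ∧ W ≠ ⊤ ∧
      (∀ r ∈ R, (∀ v ∈ W, r v = 0) ∨ ∀ v ∈ W, r v = 0 → v = 0) ∧ (∃ T ⊆ R, ∀ v, v ∈ W ↔ ∀ r ∈ T, r v = 0) ∧
      Ind A W := by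
  classical
  refine or_iff_not_imp_left.2 fun hq => ?_
  simp only [not_forall] at hq
  obtain ⟨r₀, hr₀, hr, hq⟩ := hq
  obtain ⟨W, ⟨h1, T, h2, h3⟩, h4⟩ := (Set.toFinite {W : AddSubgroup V | W ≠ ⊥ ∧ ∃ T ⊆ R,
    ∀ v, v ∈ W ↔ ∀ r ∈ T, r v = 0}).exists_minimal ⟨⊤, by simp, ∅, by simp⟩
  have h5 : ∀ r ∈ R, (∀ v ∈ W, r v = 0) ∨ ∀ v ∈ W, r v = 0 → v = 0 := fun r hr => by
    refine or_iff_not_imp_right.2 fun h v hv => (h4 (y := W ⊓ r.toAddMonoidHom.ker) ⟨fun e => h fun v hv h' =>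
      AddSubgroup.mem_bot.1 (e ▸ ⟨hv, h'⟩), insert r T, Set.insert_subset hr h2, fun v => ?_⟩ inf_le_left hv).2
    simp [h3, and_comm]
  have hW : W ≠ ⊤ := by
    rintro rfl
    obtain ⟨v, h', h''⟩ := hq
    exact h'' ((h5 r₀ hr₀).resolve_left (fun h' => hr (LinearMap.ext fun v => h' v trivial)) v trivial h')
  have h6 : ∀ ω : orbit A W, ∃ T ⊆ R, ∀ v, v ∈ ω.1 ↔ ∀ r ∈ T, r v = 0 := by
    rintro ⟨_, a, rfl⟩
    refine ⟨{s ∈ R | ∃ r ∈ T, ∀ v, s v = a • r (a⁻¹ • v)}, Set.sep_subset _ _, fun v => ?_⟩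
    rw [AddSubgroup.mem_pointwise_smul_iff_inv_smul_mem, h3]
    refine ⟨fun h s ⟨_, r, hr, e⟩ => by rw [e, h r hr, smul_zero], fun h r hr => ?_⟩
    obtain ⟨s, hs, e⟩ := hR a r (h2 hr)
    exact (smul_eq_zero_iff_eq a).1 ((e v).symm.trans (h s ⟨hs, r, hr, e⟩))
  have h7 : ∀ ω : orbit A W, ∀ r ∈ R, (∀ v ∈ ω.1, r v = 0) ∨ ∀ v ∈ ω.1, r v = 0 → v = 0 := by
    rintro ⟨_, a, rfl⟩ r hr
    obtain ⟨s, hs, e⟩ := hR a⁻¹ r hr
    simp only [AddSubgroup.mem_pointwise_smul_iff_inv_smul_mem]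
    exact (h5 s hs).imp (fun h v hv => by simpa [e, smul_eq_zero_iff_eq] using h _ hv) fun h v hv h' => by
      simpa [e, h', smul_eq_zero_iff_eq] using h _ hv
  have h8 : ∀ ω : orbit A W, Nat.card ω.1 = Nat.card W := by
    rintro ⟨_, a, rfl⟩
    exact AddSubgroup.card_map_of_injective (MulAction.injective a)
  refine ⟨W, h1, hW, h5, ⟨T, h2, h3⟩, fun _ f hf e ω => ?_⟩
  suffices ∀ s : Finset (orbit A W), ω ∉ s → ∀ f : orbit A W → V, (∀ ω, f ω ∈ ω.1) → f ω + ∑ x ∈ s, f x = 0 → f ω = 0 from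
    this (Finset.univ.erase ω) (by simp) f hf (by rwa [Finset.add_sum_erase _ _ (Finset.mem_univ _)])
  intro s
  induction s using Finset.induction_on with
  | empty => simp
  | insert x s hx ih =>
    intro hω f hf e
    obtain ⟨T, h2, h3⟩ := h6 x
    obtain ⟨r, hr, h9⟩ : ∃ r ∈ T, ∀ v ∈ ω.1, r v = 0 → v = 0 := by
      by_contra! h
      refine hω (Finset.mem_insert.2 (.inl (Subtype.ext (AddSubgroup.eq_of_le_of_card_ge (fun v hv => (h3 v).2
        fun r hr => (h7 ω r (h2 hr)).resolve_right (by simpa using h r hr) v hv) (by rw [h8, h8])))))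
    refine h9 _ (hf ω) (ih (fun h => hω (Finset.mem_insert_of_mem h)) (fun y => r (f y)) (fun y => ?_) ?_)
    · obtain ⟨T', h2', h3'⟩ := h6 y
      exact (h3' _).2 fun s hs => by
        rw [← Module.End.mul_apply, hc s (h2' hs) r (h2 hr), Module.End.mul_apply, (h3' _).1 (hf y) s hs, map_zero]
    · simpa [Finset.sum_insert hx, (h3 _).1 (hf x) r hr] using congrArg r e


/-- the action of the stabiliser of a subgroup -/
instance stAct (W : AddSubgroup V) : DistribMulAction (stabilizer A W) W :=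
  subAct (stabilizer A W) W fun a ha v hv => (show a • W = W from ha) ▸ AddSubgroup.smul_mem_pointwise_smul v a W hv

instance finOrb [Finite A] (W : AddSubgroup V) : Finite (orbit A W) := (Set.finite_range _).to_subtype

theorem blocks [Finite A] (hirr : Irr A V) {W : AddSubgroup V} (hW : W ≠ ⊥) (hind : Ind A W) :
    Irr (stabilizer A W) W ∧ Nat.card V = Nat.card W ^ Nat.card (orbit A W) := by
  have := Fintype.ofFinite (orbit A W)
  replace hind := hind this
  classical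
  choose g hg using fun ω : orbit A W => ω.2
  have hg : ∀ ω, g ω • W = ω := hg
  let h : A → orbit A W → stabilizer A W := fun a ω => ⟨(g ω)⁻¹ * a * g (a⁻¹ • ω), by
    rw [mem_stabilizer_iff, mul_smul, mul_smul, hg, orbit.coe_smul, smul_inv_smul, ← hg, inv_smul_smul]⟩
  let Φ : (orbit A W → W) →+ V := ∑ ω, ((DistribSMul.toAddMonoidHom V (g ω)).comp W.subtype).comp (Pi.evalAddMonoidHom _ ω)
  have h3 : ∀ x, Φ x = ∑ ω, g ω • (x ω).1 := fun x => by simp [Φ]
  have h4 : ∀ a x, a • Φ x = Φ fun ω => h a ω • x (a⁻¹ • ω) := fun a x => by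
    rw [h3, h3, Finset.smul_sum, ← Equiv.sum_comp (toPerm a⁻¹)]
    exact Finset.sum_congr rfl fun ω _ => (by simp [mul_smul] : _ = g ω • ((g ω)⁻¹ * a * g (a⁻¹ • ω)) • (x (a⁻¹ • ω)).1)
  have h5 : Function.Injective Φ := (injective_iff_map_eq_zero Φ).2 fun x e => funext fun ω => Subtype.ext
    ((smul_eq_zero_iff_eq (g ω)).1 (hind (fun ω => g ω • (x ω).1)
      (fun ω => hg ω ▸ AddSubgroup.smul_mem_pointwise_smul _ _ _ (x ω).2) (h3 x ▸ e) ω))
  let ω₀ : orbit A W := ⟨W, mem_orbit_self W⟩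
  have h7 : ∀ X : AddSubgroup W, X ≠ ⊥ → Inv (stabilizer A W) X → ∀ v, ∃ x, (∀ ω, x ω ∈ X) ∧ Φ x = v := by
    intro X hX' hX'' v
    obtain ⟨u, hu, hu'⟩ := (AddSubgroup.bot_or_exists_ne_zero X).resolve_left hX'
    obtain ⟨x, hx, e⟩ := ((hirr ((AddSubgroup.pi Set.univ fun _ => X).map Φ) (by
      rintro a _ ⟨x, hx, rfl⟩
      exact ⟨_, fun ω _ => hX'' _ _ (hx _ trivial), (h4 a x).symm⟩)).resolve_left fun e => hu' (by
        have : Φ (Pi.single ω₀ u) = Φ 0 := by
          rw [map_zero, ← AddSubgroup.mem_bot, ← e]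
          exact ⟨_, fun ω _ => by rw [Pi.single_apply]; split_ifs; exacts [hu, X.zero_mem], rfl⟩
        simpa using congrFun (h5 this) ω₀)).ge (AddSubgroup.mem_top v)
    exact ⟨x, fun ω => hx ω trivial, e⟩
  refine ⟨fun X hX => or_iff_not_imp_left.2 fun e => eq_top_iff.2 fun v _ => ?_, ?_⟩
  · obtain ⟨x, hx, e⟩ := h7 X e hX (Φ (Pi.single ω₀ v))
    simpa [h5 e] using hx ω₀
  · have := (AddSubgroup.nontrivial_iff_ne_bot W).2 hW
    rw [← Nat.card_fun]
    exact (Nat.card_eq_of_bijective Φ ⟨h5, fun v => let ⟨x, _, e⟩ := h7 ⊤ top_ne_bot (fun _ _ _ => trivial) v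
      ⟨x, e⟩⟩).symm

theorem two_le_orbit [Finite A] (hirr : Irr A V) {W : AddSubgroup V} (hW : W ≠ ⊥) (hW' : W ≠ ⊤) :
    2 ≤ Nat.card (orbit A W) := by
  refine Finite.one_lt_card_iff_nontrivial.2 (by_contra fun h => ?_)
  have := not_nontrivial_iff_subsingleton.1 h
  refine (hirr W fun a v hv => ?_).elim hW hW'
  have e : a • W = W := congrArg Subtype.val (Subsingleton.elim (⟨_, a, rfl⟩ : orbit A W) ⟨W, mem_orbit_self W⟩)
  exact e ▸ AddSubgroup.smul_mem_pointwise_smul v a W hv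

/-- the group induced on a block -/
abbrev ρW (A : Type u) {V : Type u} [Group A] [AddCommGroup V] [DistribMulAction A V] (W : AddSubgroup V) :=
  DistribMulAction.toModuleAut ℤ W (S := stabilizer A W)

theorem cp_blocks [Finite A] [FaithfulSMul A V] (hirr : Irr A V) {W : AddSubgroup V} (hW : W ≠ ⊥) (X : Subgroup A)
    (hX : X ≤ (toPermHom A (orbit A W)).ker) (Y : Subgroup (ρW A W).range)
    (hY : ∀ x ∈ X, ∀ (g : A) (h : g⁻¹ * x * g ∈ stabilizer A W), (ρW A W).rangeRestrict ⟨_, h⟩ ∈ Y) :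
    commProb Y ^ Nat.card (orbit A W) ≤ commProb X := by
  have := Fintype.ofFinite (orbit A W)
  have : Finite (ρW A W).range := .of_surjective _ (ρW A W).rangeRestrict_surjective
  choose g hg using fun ω : orbit A W => ω.2
  have hg : ∀ ω, g ω • W = ω := hg
  have h1 : ∀ (x : X) ω, (g ω)⁻¹ * x * g ω ∈ stabilizer A W := fun x ω => by
    have : x.1 • ω = ω := DFunLike.congr_fun (hX x.2) ω
    rw [mem_stabilizer_iff, mul_smul, mul_smul, hg, ← orbit.coe_smul, this, ← hg, inv_smul_smul]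
  let f : orbit A W → X →* Y := fun ω => MonoidHom.mk' (fun x => ⟨_, hY x x.2 _ (h1 x ω)⟩) fun x y =>
    Subtype.ext (Eq.trans (congrArg (ρW A W).rangeRestrict (Subtype.ext (by simp [mul_assoc])))
      (map_mul (ρW A W).rangeRestrict ⟨_, h1 x ω⟩ ⟨_, h1 y ω⟩))
  rw [Nat.card_eq_fintype_card, ← commProb_function]
  refine cp_le_inj (MonoidHom.pi f) ((injective_iff_map_eq_one _).2 fun x e => Subtype.ext
    (eq_of_smul_eq_smul (α := V) fun v => ?_))
  let F : AddSubgroup V := ⨅ a : A, Fx V (a⁻¹ * x * a)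
  have h2 : W ≤ F := le_iInf fun a w hw => by
    let ω : orbit A W := ⟨_, a, rfl⟩
    have h3 : (g ω)⁻¹ * a ∈ stabilizer A W := by
      rw [mem_stabilizer_iff, mul_smul, inv_smul_eq_iff, hg]
    have h4 := congrArg Subtype.val (LinearEquiv.congr_fun (congrArg (fun y : Y => y.1.1) (congrFun e ω))
      ((⟨_, h3⟩ : stabilizer A W) • ⟨w, hw⟩))
    change ((g ω)⁻¹ * x * g ω) • ((g ω)⁻¹ * a) • w = ((g ω)⁻¹ * a) • w at h4
    rw [mem_Fx, mul_smul, mul_smul, inv_smul_eq_iff]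
    simpa [mul_smul] using h4
  have h3 := (hirr F fun a v hv => AddSubgroup.mem_iInf.2 fun b => by
    have := mem_Fx.1 (AddSubgroup.mem_iInf.1 hv (b * a))
    rw [mul_inv_rev, mul_assoc, mul_assoc, mul_smul, inv_smul_eq_iff] at this
    simpa [mem_Fx, mul_smul] using this).resolve_left fun e => hW (eq_bot_iff.2 (e ▸ h2))
  simpa using mem_Fx.1 (AddSubgroup.mem_iInf.1 (h3.ge (AddSubgroup.mem_top v)) 1)

theorem sq_le_pow (a : ℕ) : a ^ 2 ≤ 9 ^ (a - 1) := by
  rcases a with _ | a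
  · simp
  · have : a + 1 ≤ 3 ^ a := (Nat.lt_pow_self (by norm_num : 1 < 3))
    exact (Nat.pow_le_pow_left this 2).trans_eq (by rw [← pow_mul, mul_comm, pow_mul]; rfl)

theorem irr_range (hirr : Irr A V) : Irr (DistribMulAction.toModuleAut ℤ V (S := A)).range V :=
  fun U hU => hirr U fun a => hU ⟨_, a, rfl⟩

theorem cp_index [Finite A] (X : Subgroup A) {c : ℚ} {k : ℕ} (hc : 0 ≤ c) (h : 1 ≤ c * commProb X) (hk : X.index ≤ k) :
    1 ≤ c * k ^ 2 * commProb A := by
  have h1 : (X.index : ℚ) ^ 2 ≤ (k : ℚ) ^ 2 := by exact_mod_cast Nat.pow_le_pow_left hk 2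
  have h2 := commProb_pos (M := A)
  refine h.trans ((mul_le_mul_of_nonneg_left X.commProb_subgroup_le hc).trans ?_)
  nlinarith [mul_le_mul_of_nonneg_left h1 (mul_nonneg hc h2.le)]

theorem pow_eq_pow {p q a n : ℕ} (hp : p.Prime) (hq : 1 < q) (h : q ^ a = p ^ n) : ∃ j, 1 ≤ j ∧ j * a = n := by
  rcases a with _ | a
  · exact ⟨1, le_rfl, (Nat.pow_right_injective hp.two_le (h.symm.trans (by simp))).symm⟩
  obtain ⟨j, -, rfl⟩ := (Nat.dvd_prime_pow hp).1 (h ▸ dvd_pow_self q a.succ_ne_zero)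
  exact ⟨j, Nat.pos_of_ne_zero (by rintro rfl; simp at hq), Nat.pow_right_injective hp.two_le (by rwa [← pow_mul] at h)⟩

theorem main_aux {p : ℕ} (hp : p.Prime) {β : ℚ} (h9 : 9 ≤ β) (n : ℕ) : ∀ (A V : Type u) [Group A] [Finite A]
    [AddCommGroup V] [Finite V] [Nontrivial V] [DistribMulAction A V] [FaithfulSMul A V], Group.IsSolvable A → Irr A V →
    Nat.card V = p ^ n → (4 ≤ n → 19 / 2 ≤ β) → 1 ≤ β ^ (n - 1) * commProb A := by
  induction n using Nat.strong_induction_on with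
  | _ n ih =>
  intro A V _ _ _ _ _ _ _ hA hirr hV hβ
  have h1 : ∀ a b : ℕ, ((a ^ 2 : ℕ) : ℚ) ≤ (9 ^ b : ℕ) → (a : ℚ) ^ 2 ≤ β ^ b := fun a b h => by
    push_cast at h
    exact h.trans (pow_le_pow_left₀ (by norm_num) h9 _)
  have h2 := commProb_pos (M := A)
  by_cases hq : Quasi A V
  · obtain ⟨K, _, _, _, U, ι, h, q, a, hq, hK, ha⟩ := quasi_prim hq
    have h3 : Nat.card V = Nat.card K ^ Module.finrank K V := Module.natCard_eq_pow_finrank
    have h4 : 0 < Module.finrank K V := Module.finrank_pos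
    rw [hK, ← pow_mul, hV] at h3
    obtain ⟨j, hj, e⟩ := pow_eq_pow hp hq h3.symm
    have h5 : 0 < a := (Nat.pos_of_ne_zero index_ne_zero_of_finite).trans_le ha
    have h6 : Module.finrank K V - 1 + (a - 1) ≤ n - 1 := by
      obtain ⟨a, rfl⟩ := Nat.exists_eq_add_of_le' h5
      obtain ⟨d, hd⟩ := Nat.exists_eq_add_of_le' h4
      have := Nat.le_mul_of_pos_left ((a + 1) * (d + 1)) hj
      rw [hd] at e ⊢
      rw [e] at this
      simp only [Nat.add_sub_cancel]
      exact Nat.le_sub_one_of_lt (by nlinarith)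
    refine (cp_index _ (by positivity) (prim_cp h hA h9 fun h => hβ (by omega)) ha).trans
      (mul_le_mul_of_nonneg_right ?_ h2.le)
    refine (mul_le_mul_of_nonneg_left (h1 a _ (Nat.cast_le.2 (sq_le_pow a))) (by positivity)).trans ?_
    rw [← pow_add]
    exact pow_le_pow_right₀ (by linarith) h6
  obtain ⟨R, hq⟩ := not_forall.1 hq
  obtain ⟨hc, hq⟩ := Classical.not_imp.1 hq
  obtain ⟨hR, hq⟩ := Classical.not_imp.1 hq
  obtain ⟨W, hW, hW', -, -, hind⟩ := (dich R hc hR).resolve_left hq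
  obtain ⟨h3, h4⟩ := blocks hirr hW hind
  have h5 := two_le_orbit hirr hW hW'
  have := (AddSubgroup.nontrivial_iff_ne_bot W).2 hW
  obtain ⟨d, -, hd⟩ := (Nat.dvd_prime_pow hp).1 (hV ▸ W.card_addSubgroup_dvd_card)
  rw [hV, hd, ← pow_mul] at h4
  have h6 : n = d * Nat.card (orbit A W) := Nat.pow_right_injective hp.two_le h4
  have h7 : 0 < d := Nat.pos_of_ne_zero fun e => (Finite.one_lt_card (α := W)).ne' (by simpa [e] using hd)
  have : Finite (ρW A W).range := .of_surjective _ (ρW A W).rangeRestrict_surjective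
  have h8 := ih d (by nlinarith) (ρW A W).range W (Group.isSolvable_of_surjective (ρW A W).rangeRestrict_surjective)
    (irr_range h3) hd fun h => hβ (by nlinarith)
  have h10 := cp_blocks hirr hW _ le_rfl ⊤ fun _ _ _ _ => trivial
  rw [cp_equiv topEquiv] at h10
  have : Nonempty (orbit A W) := ⟨⟨W, mem_orbit_self W⟩⟩
  have h11 := dixon (Ω := orbit A W) hA
  obtain ⟨m, hm⟩ : ∃ m, Nat.card (orbit A W) = m + 1 := ⟨_, (Nat.sub_add_cancel (by omega)).symm⟩
  rw [hm] at h6 h10 h11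
  refine (cp_index _ (c := (β ^ (d - 1)) ^ (m + 1)) (k := 3 ^ m) (by positivity) ((one_le_pow₀ h8).trans (by
    rw [mul_pow]; exact mul_le_mul_of_nonneg_left h10 (by positivity))) (by rw [pow_succ] at h11; omega)).trans
      (mul_le_mul_of_nonneg_right ?_ h2.le)
  refine (mul_le_mul_of_nonneg_left (h1 _ m (by rw [← pow_mul, mul_comm, pow_mul]; rfl)) (by positivity)).trans ?_
  rw [← pow_mul, ← pow_add]
  obtain ⟨d, rfl⟩ := Nat.exists_eq_add_of_le' h7
  exact pow_le_pow_right₀ (by linarith) (Nat.le_sub_one_of_lt (by simp only [Nat.add_sub_cancel]; nlinarith))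

/-- A solvable irreducible subgroup of `GL(n, p)` has commuting probability at least `9.5 ^ (1 - n)`. -/
theorem cp_irr {p n : ℕ} (hp : p.Prime) {β : ℚ} (h9 : 9 ≤ β) [Finite A] [Finite V] [Nontrivial V] [FaithfulSMul A V]
    (hA : Group.IsSolvable A) (hirr : Irr A V) (hV : Nat.card V = p ^ n) (hβ : 4 ≤ n → 19 / 2 ≤ β) :
    1 ≤ β ^ (n - 1) * commProb A := main_aux hp h9 n A V hA hirr hV hβ

theorem cp_two {p : ℕ} (hp : p.Prime) [Finite A] [Finite V] [Nontrivial V] [FaithfulSMul A V]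
    (hA : Group.IsSolvable A) (hirr : Irr A V) (hV : Nat.card V = p ^ 2) :
    1 ≤ 13 / 3 * commProb A ∨ ∃ z, z ∣ p - 1 ∧ Nat.card A = 24 * z ∧ 1 ≤ 6 * commProb A := by
  have h2 := commProb_pos (M := A)
  have h1 : ∀ X : Subgroup A, 1 ≤ commProb X → X.index ≤ 2 → 1 ≤ 13 / 3 * commProb A := fun X h h' => by
    have := cp_index X zero_le_one (by rwa [one_mul]) h'
    norm_num at this
    linarith
  by_cases hq : Quasi A V
  · obtain ⟨K, _, _, _, U, ι, h, q, a, hq, hK, ha⟩ := quasi_prim hq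
    have h3 : Nat.card V = Nat.card K ^ Module.finrank K V := Module.natCard_eq_pow_finrank
    have h4 : 0 < Module.finrank K V := Module.finrank_pos
    have h3' := h3
    rw [hK, ← pow_mul, hV] at h3
    obtain ⟨j, hj, e⟩ := pow_eq_pow hp hq h3.symm
    have h5 : 0 < a := (Nat.pos_of_ne_zero index_ne_zero_of_finite).trans_le ha
    have h6 : a * Module.finrank K V ≤ 2 := by nlinarith
    by_cases h7 : Module.finrank K V = 1
    · exact .inl (h1 _ (by simpa [h7] using prim_cp h hA le_rfl (by omega)) (by rw [h7] at h6; omega))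
    have h8 : Module.finrank K V = 2 := by
      have := Nat.le_mul_of_pos_left (Module.finrank K V) h5
      omega
    have h10 : (centralizer (U : Set A)).index = 1 := by
      have : (centralizer (U : Set A)).index ≠ 0 := index_ne_zero_of_finite
      rw [h8] at h6; omega
    have h11 : ∀ c : ℚ, 0 ≤ c → 1 ≤ c * commProb (centralizer (U : Set A)) → 1 ≤ c * commProb A := fun c h h' => by
      simpa using cp_index _ h h' h10.le
    obtain ⟨e, N, hN, he, h12, h13, -⟩ := prim_N h hA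
    have := h.nU
    by_cases h14 : N ≤ 12
    · refine .inl (h11 _ (by norm_num) (cp_central' (sub_center h) ?_ (by norm_num)))
      rw [show (U.subgroupOf (centralizer (U : Set A))).index = N from hN]
      have : (N : ℚ) ≤ (12 : ℕ) := Nat.cast_le.2 h14
      norm_num only at this; linarith
    obtain ⟨rfl, h15⟩ := (h13 (by have := mt h12 (by omega); omega)).resolve_left h14
    refine .inr ⟨Nat.card U, ?_, ?_, h11 _ (by norm_num) h15⟩
    · rw [hV, h8, Nat.pow_left_inj two_ne_zero] at h3'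
      exact h3' ▸ h.card_dvd
    · rw [index_eq_one.1 h10, relIndex_top_right] at hN
      rw [← hN, index_mul_card]
  obtain ⟨R, hq⟩ := not_forall.1 hq
  obtain ⟨hc, hq⟩ := Classical.not_imp.1 hq
  obtain ⟨hR, hq⟩ := Classical.not_imp.1 hq
  obtain ⟨W, hW, hW', -, -, hind⟩ := (dich R hc hR).resolve_left hq
  obtain ⟨h3, h4⟩ := blocks hirr hW hind
  have h5 := two_le_orbit hirr hW hW'
  have := (AddSubgroup.nontrivial_iff_ne_bot W).2 hW
  obtain ⟨d, -, hd⟩ := (Nat.dvd_prime_pow hp).1 (hV ▸ W.card_addSubgroup_dvd_card)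
  rw [hV, hd, ← pow_mul] at h4
  have h6 : 2 = d * Nat.card (orbit A W) := Nat.pow_right_injective hp.two_le h4
  have h7 : 0 < d := Nat.pos_of_ne_zero fun e => (Finite.one_lt_card (α := W)).ne' (by simpa [e] using hd)
  obtain rfl : d = 1 := by nlinarith
  have : Finite (ρW A W).range := .of_surjective _ (ρW A W).rangeRestrict_surjective
  have h8 := cp_irr hp le_rfl (Group.isSolvable_of_surjective (ρW A W).rangeRestrict_surjective)
    (irr_range h3) hd (by omega)
  have h10 := cp_blocks hirr hW _ le_rfl ⊤ fun _ _ _ _ => trivial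
  rw [cp_equiv topEquiv] at h10
  refine .inl (h1 _ ((one_le_pow₀ (by simpa using h8)).trans h10) ?_)
  rw [index_ker]
  exact (card_le_card_group _).trans (by rw [Nat.card_perm, show Nat.card (orbit A W) = 2 by omega]; rfl)

end Cfsg.Agent.H12.KG
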