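import Cfsg.Agent.H12.KgE

/-! Class numbers of solvable groups: the linear group attached to a minimal normal subgroup. -/

set_option autoImplicit false
set_option linter.style.haveILetI false

namespace Cfsg.Agent.H12.KG
universe u
open Subgroup MulAction H33

theorem amgm {H : Type*} [Group H] [Finite H] {k a q : ℕ} {B : ℚ} (hB : 0 ≤ B)
    (h1 : Nat.card (ConjClasses H) + a ≤ k) (h2 : q - 1 ≤ a * Nat.card H) (h3 : 1 ≤ B * commProb H) :
    4 * ((q : ℚ) - 1) ≤ B * k ^ 2 := by
  have h4 : (q : ℚ) - 1 ≤ a * Nat.card H := by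
    have : (q : ℚ) ≤ ((a * Nat.card H + 1 : ℕ) : ℚ) := Nat.cast_le.2 (by omega)
    push_cast at this; linarith
  have h5 : (Nat.card (ConjClasses H) : ℚ) + a ≤ k := by exact_mod_cast h1
  have h6 := mul_le_mul_of_nonneg_right h3 (show (0 : ℚ) ≤ a * Nat.card H by positivity)
  rw [one_mul, show B * commProb H * (a * Nat.card H) = B * (a * (commProb H * Nat.card H)) by ring, cp_mul] at h6
  have h7 := pow_le_pow_left₀ (by positivity) h5 2
  generalize (Nat.card (ConjClasses H) : ℚ) = x at *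
  nlinarith [mul_le_mul_of_nonneg_left h7 hB, mul_nonneg hB (sq_nonneg (x - a))]

theorem k_le_of_surj {G H : Type*} [Group G] [Group H] [Finite G] (f : G →* H) (hf : Function.Surjective f) :
    Nat.card (ConjClasses H) ≤ Nat.card (ConjClasses G) :=
  Nat.card_le_card_of_surjective _ (ConjClasses.map_surjective hf)

/-- the linear group attached to a minimal normal subgroup -/
theorem exists_lin {G : Type u} [Group G] [Finite G] (hG : Group.IsSolvable G) {N : Subgroup G} [hN : N.Normal]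
    (h0 : N ≠ ⊥) (h1 : ∀ X : Subgroup G, X.Normal → X ≤ N → X = ⊥ ∨ X = N) :
    ∃ (H V : Type u) (_ : Group H) (_ : Finite H) (_ : AddCommGroup V) (_ : Finite V) (_ : Nontrivial V)
      (_ : DistribMulAction H V) (_ : FaithfulSMul H V) (f : G →* H), Function.Surjective f ∧
      f.ker = centralizer (N : Set G) ∧ Group.IsSolvable H ∧ Irr H V ∧ Nat.card V = Nat.card N ∧
      ∃ a, Nat.card (ConjClasses H) + a ≤ Nat.card (ConjClasses G) ∧ Nat.card V - 1 ≤ a * Nat.card H := by
  obtain ⟨hc, -⟩ := H2.minimal_normal_elementary_abelian N inferInstance h0 h1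
  have s : Sec ⊤ ⊥ N := ⟨bot_le, fun k _ x hx => by simpa using hx, fun k _ x hx => hN.conj_mem x hx k,
    fun x hx y hy => by simp [H2.mul_comm_of_mem hc hx hy]⟩
  letI := s.act
  let ρ := DistribMulAction.toModuleAut ℤ s.M (S := G)
  have h2 : Nat.card s.M = Nat.card N := s.card.trans (relIndex_bot_left N)
  have h3 : ρ.rangeRestrict.ker = centralizer (N : Set G) := by
    rw [MonoidHom.ker_rangeRestrict]
    refine Subgroup.ext fun g => ⟨fun h x hx => ?_, fun h => LinearEquiv.ext fun v => ?_⟩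
    · exact (mul_inv_eq_iff_eq_mul.1 (mul_inv_eq_one.1 (mem_bot.1 ((s.act_eq (x := ⟨x, hx⟩)).1
        (LinearEquiv.congr_fun h (s.p ⟨x, hx⟩)))))).symm
    · obtain ⟨x, rfl⟩ := s.p_surj v
      exact s.act_eq.2 (by rw [← h x x.2]; simp)
  have h4 : Irr G s.M := fun X hX => by
    refine (h1 ((X.toSubgroup.comap s.π).map N.subtype) ⟨?_⟩ (map_subtype_le _)).imp (fun e => eq_bot_iff.2 fun v hv => ?_)
      fun e => eq_top_iff.2 fun v _ => ?_
    · rintro _ ⟨x, hx, rfl⟩ g
      exact ⟨s.cj ⟨g, trivial⟩ x, hX g _ hx, rfl⟩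
    · obtain ⟨x, rfl⟩ := s.p_surj v
      exact s.p_eq_zero.2 (e.le ⟨x, hv, rfl⟩)
    · obtain ⟨x, rfl⟩ := s.p_surj v
      obtain ⟨y, hy, e⟩ := e.ge x.2
      exact (Subtype.ext e : y = x) ▸ hy
  obtain ⟨a, h5, h6⟩ := kl _ ρ.rangeRestrict_surjective N (h3 ▸ N.le_centralizer)
  exact ⟨ρ.range, s.M, inferInstance, .of_surjective _ ρ.rangeRestrict_surjective, inferInstance, inferInstance,
    Finite.one_lt_card_iff_nontrivial.1 (h2 ▸ (one_lt_card_iff_ne_bot N).2 h0), inferInstance, inferInstance,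
    ρ.rangeRestrict, ρ.rangeRestrict_surjective, h3, Group.isSolvable_of_surjective ρ.rangeRestrict_surjective,
    irr_range h4, h2, a, h5, by rwa [← h3, MonoidHom.ker_rangeRestrict, index_ker, ← h2] at h6⟩

theorem num_big {p k n : ℕ} (hp : 11 ≤ p) (hk : 60 * k < 49 * p) (hn : 4 ≤ n) :
    (19 / 2 : ℚ) ^ (n - 1) * k ^ 2 < 4 * ((p : ℚ) ^ n - 1) := by
  have h1 : (11 : ℚ) ≤ p := by exact_mod_cast hp
  induction n, hn using Nat.le_induction with
  | base =>
    by_cases h : p = 11
    · subst h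
      have : (k : ℚ) ≤ (8 : ℕ) := Nat.cast_le.2 (by omega)
      have : (k : ℚ) ^ 2 ≤ (8 : ℕ) ^ 2 := by gcongr
      norm_num at this ⊢; linarith
    · have h2 : (12 : ℚ) ≤ p := by exact_mod_cast (by omega : 12 ≤ p)
      have h3 : (60 * k : ℚ) < 49 * p := by exact_mod_cast hk
      have h4 : (60 * k : ℚ) ^ 2 ≤ (49 * p) ^ 2 := by gcongr
      have h5 : (144 : ℚ) ≤ p ^ 2 := by nlinarith
      norm_num
      nlinarith
  | succ n hn ih =>
    obtain ⟨n, rfl⟩ := Nat.exists_eq_add_of_le' (show 1 ≤ n by omega)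
    simp only [Nat.add_sub_cancel] at ih ⊢
    rw [pow_succ, pow_succ (p : ℚ) (n + 1)]
    have : (1 : ℚ) ≤ p ^ (n + 1) := one_le_pow₀ (by linarith)
    nlinarith

theorem num_three {p k : ℕ} (hp : 11 ≤ p) (hk : 60 * k < 49 * p) : 81 * k ^ 2 + 4 < 4 * p ^ 3 := by
  by_cases h : p ≤ 13
  · have : k ≤ (49 * p - 1) / 60 := by omega
    have := Nat.pow_le_pow_left this 2
    interval_cases p <;> omega
  · have h4 : (60 * k) ^ 2 ≤ (49 * p) ^ 2 := by gcongr
    nlinarith

theorem lin_bound {H V : Type u} [Group H] [Finite H] [AddCommGroup V] [Finite V] [Nontrivial V] [DistribMulAction H V]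
    [FaithfulSMul H V] (hH : Group.IsSolvable H) (hirr : Irr H V) {p n k a : ℕ} (hp : p.Prime) (hV : Nat.card V = p ^ n)
    (hn : 2 ≤ n) (h1 : Nat.card (ConjClasses H) + a ≤ k) (h2 : Nat.card V - 1 ≤ a * Nat.card H) : 49 * p ≤ 60 * k := by
  by_contra! hk
  have h3 : (60 * k : ℚ) < 49 * p := by exact_mod_cast hk
  have h4 : (60 * k : ℚ) ^ 2 ≤ (49 * p) ^ 2 := by gcongr
  have h5 : (2 : ℚ) ≤ p := by exact_mod_cast hp.two_le
  rw [hV] at h2
  obtain rfl | hn := hn.eq_or_lt
  · obtain h | ⟨z, ⟨d, hd⟩, h, h'⟩ := cp_two hp hH hirr hV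
    · have := amgm (by norm_num) h1 h2 h
      push_cast at this
      nlinarith
    have h6 := cp_mul (G := H)
    have h7 : 4 * z ≤ Nat.card (ConjClasses H) := by
      rw [← Nat.cast_le (α := ℚ), ← h6, h]
      push_cast
      nlinarith [(Nat.cast_nonneg z : (0 : ℚ) ≤ z)]
    have h8 : 0 < z := by have := Nat.card_pos (α := H); omega
    obtain rfl : p = z * d + 1 := by have := hp.pos; omega
    have h9 : d * (z * d + 2) ≤ a * 24 := Nat.le_of_mul_le_mul_left (c := z) (by
      rw [h] at h2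
      refine le_trans (Nat.le_sub_one_of_lt ?_) (h2.trans_eq (by ring))
      nlinarith) h8
    by_cases h10 : d = 9
    · subst h10
      have : z ≠ 1 := by rintro rfl; norm_num at hp
      by_cases h2 : z = 2 <;> omega
    by_cases h11 : d = 8
    · subst h11
      have : z ≠ 1 := by rintro rfl; norm_num at hp
      omega
    by_cases h12 : d ≤ 7
    · interval_cases d <;> omega
    · obtain ⟨c, rfl⟩ := Nat.exists_eq_add_of_le (show 10 ≤ d by omega)
      nlinarith [Nat.zero_le (z * c), Nat.zero_le (z * c * c)]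
  by_cases h11 : 11 ≤ p
  · obtain rfl | hn := (Nat.succ_le_of_lt hn).eq_or_lt
    · have := amgm (by norm_num) h1 h2 (cp_irr hp le_rfl hH hirr hV (by omega))
      have h6 : ((81 * k ^ 2 + 4 : ℕ) : ℚ) < (4 * p ^ 3 : ℕ) := Nat.cast_lt.2 (num_three h11 hk)
      push_cast at this h6
      norm_num at this
      linarith
    · have := amgm (by positivity) h1 h2 (cp_irr (β := 19 / 2) hp (by norm_num) hH hirr hV fun _ => le_rfl)
      push_cast at this
      exact this.not_gt (num_big h11 hk hn)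
  have h6 : p ^ 3 ≤ p ^ n := Nat.pow_le_pow_right hp.pos hn
  have h7 := landau4 (G := H)
  have h8 := card_le_one (G := H)
  have h9 : 0 < Nat.card (ConjClasses H) := Nat.card_pos
  have h10 : ∀ c, Nat.card H ≤ c → p ^ 3 - 1 ≤ a * c := fun c h =>
    (Nat.sub_le_sub_right h6 1).trans (h2.trans (Nat.mul_le_mul_left _ h))
  have h12 := fun h => h10 _ (h7 h)
  have h13 := fun h => h10 _ (h8 h)
  have h14 := h10 _ le_rfl
  have h15 : a ≠ 0 := by
    rintro rfl
    have := Nat.one_lt_pow three_ne_zero hp.one_lt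
    omega
  push Not at h11
  interval_cases p <;> first | omega | norm_num at hp

end Cfsg.Agent.H12.KG
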