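import Cfsg.Agent.H12.KgF
import Cfsg.Agent.H2.FpfCyclic

/-! Solvable linear groups with a normal subgroup of prime order. -/

set_option autoImplicit false
set_option linter.style.haveILetI false
set_option linter.unusedSectionVars false

namespace Cfsg.Agent.H12.KG
universe u
open Subgroup MulAction H33 Pointwise

theorem prim_or {A V : Type u} [Group A] [Finite A] [AddCommGroup V] [Finite V] [DistribMulAction A V]
    [FaithfulSMul A V] [Nontrivial V] {U : Subgroup A} (h1 : U.Normal) (h2 : U ≤ centralizer U)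
    (h3 : ∀ X : Subgroup A, X.Normal → U ≤ X → X ≤ centralizer X → X ≤ U) :
    (∃ (K : Type u) (_ : Field K) (_ : Finite K) (_ : Module K V) (ι : U →* K), Prim V U ι ∧
      ∀ X : Subgroup A, ∃ q a, 1 < q ∧ Nat.card K = q ^ a ∧ (centralizer (U : Set A)).relIndex X ≤ a ∧
        ∀ u ∈ U, X ≤ centralizer {u} → orderOf u ∣ q - 1) ∨
    ∃ W : AddSubgroup V, W ≠ ⊥ ∧ W ≠ ⊤ ∧ U ≤ stabilizer A W ∧ Ind A W := by
  let ρ := DistribMulAction.toModuleEnd ℤ V (S := A)
  let R := Subring.closure (ρ '' U)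
  have h4 : ∀ x, (∀ u ∈ U, ρ u * x = x * ρ u) → ∀ r ∈ R, r * x = x * r := fun x hx r hr =>
    ((Subring.closure_le (t := Subring.centralizer {x})).2 (by
      rintro _ ⟨u, hu, rfl⟩ _ rfl; exact (hx u hu).symm) hr x rfl).symm
  have h5 : ∀ c ∈ centralizer (U : Set A), ∀ r ∈ R, r * ρ c = ρ c * r := fun c hc =>
    h4 _ fun u hu => by rw [← map_mul, hc u hu, map_mul]
  have h6 : ∀ r ∈ R, ∀ s ∈ R, r * s = s * r := fun r hr s hs => h4 s (fun u hu => (h5 u (h2 hu) s hs).symm) r hr
  let φ := ConjAct.toConjAct.toMonoidHom.comp ρ.toHomUnits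
  have h7 : ∀ a u, φ a • ρ u = ρ (a * u * a⁻¹) := fun a u => by rw [map_mul, map_mul]; rfl
  have h8 : ∀ a, ∀ r ∈ R, φ a • r ∈ R := fun a => (Subring.closure_le (t := R.comap
    (MulSemiringAction.toRingHom _ _ (φ a)))).2 (by
      rintro _ ⟨u, hu, rfl⟩; exact Subring.subset_closure ⟨_, h1.conj_mem u hu a, (h7 a u).symm⟩)
  refine (dich R h6 fun a r hr => ⟨_, h8 a r hr, fun v => rfl⟩).imp (fun h9 => ?_) fun ⟨W, h, h', _, ⟨T, hT, hT'⟩, h''⟩ =>
    ⟨W, h, h', fun u hu => ?_, h''⟩
  swap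
  · have : ∀ u ∈ U, ∀ v ∈ W, u • v ∈ W := fun u hu v hv => (hT' _).2 fun r hr =>
      (LinearMap.congr_fun (h5 u (h2 hu) r (hT hr)) v).trans ((congrArg (u • ·) ((hT' v).1 hv r hr)).trans (smul_zero u))
    exact AddSubgroup.ext fun v => AddSubgroup.mem_pointwise_smul_iff_inv_smul_mem.trans
      ⟨fun h => by simpa using this u hu _ h, this _ (inv_mem hu) v⟩
  letI : CommRing R := { (inferInstance : Ring R) with mul_comm := fun r s => Subtype.ext (h6 r r.2 s s.2) }
  have : NoZeroDivisors R := ⟨fun {r s} e => or_iff_not_imp_left.2 fun h => Subtype.ext (LinearMap.ext fun v =>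
    h9 r r.2 (fun e => h (Subtype.ext e)) _ (LinearMap.congr_fun (congrArg Subtype.val e) v))⟩
  have : IsDomain R := NoZeroDivisors.to_isDomain R
  have : Finite (Module.End ℤ V) := DFunLike.finite _
  letI := (Finite.isField_of_domain R).toField
  letI : MulSemiringAction A R :=
    { smul a r := ⟨φ a • r.1, h8 a r r.2⟩
      one_smul r := Subtype.ext ((congrArg (· • r.1) φ.map_one).trans (one_smul _ _))
      mul_smul a b r := Subtype.ext ((congrArg (· • r.1) (φ.map_mul a b)).trans (mul_smul _ _ _))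
      smul_zero a := Subtype.ext (smul_zero (φ a))
      smul_add a r s := Subtype.ext (smul_add (φ a) r.1 s.1)
      smul_one a := Subtype.ext (smul_one (φ a))
      smul_mul a r s := Subtype.ext (smul_mul' (φ a) r.1 s.1) }
  let ψ := MulSemiringAction.toRingAut A R
  let ι : U →* R := (ρ.comp U.subtype).codRestrict R fun u => Subring.subset_closure ⟨u, u.2, rfl⟩
  have hι : Function.Injective ι := fun x y e =>
    Subtype.ext (eq_of_smul_eq_smul (α := V) (LinearMap.congr_fun (congrArg Subtype.val e)))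
  have h10 : ∀ X : Subgroup A, ∃ q a, 1 < q ∧ Nat.card R = q ^ a ∧ (centralizer (U : Set A)).relIndex X ≤ a ∧
      ∀ u ∈ U, X ≤ centralizer {u} → orderOf u ∣ q - 1 := fun X => by
    have : Finite (X.map ψ) := ((Set.toFinite _).image _).to_subtype
    have := Fintype.ofFinite (X.map ψ)
    refine ⟨Nat.card (FixedPoints.subfield (X.map ψ) R), ψ.ker.relIndex X, Finite.one_lt_card, ?_,
      relIndex_le_of_le_left (fun a ha u hu => ?_) index_ne_zero_of_finite, fun u hu hX => ?_⟩
    · rw [Module.natCard_eq_pow_finrank (K := FixedPoints.subfield (X.map ψ) R), FixedPoints.finrank_eq_card,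
        ← Nat.card_eq_fintype_card, relIndex_ker]
    · have := (h7 a u).symm.trans (congrArg Subtype.val (RingEquiv.congr_fun ha ⟨ρ u, Subring.subset_closure ⟨u, hu, rfl⟩⟩))
      exact (mul_inv_eq_iff_eq_mul.1 (eq_of_smul_eq_smul (α := V) (LinearMap.congr_fun this))).symm
    · let y : FixedPoints.subfield (X.map ψ) R := ⟨ι ⟨u, hu⟩, by
        rintro ⟨_, a, ha, rfl⟩
        exact Subtype.ext ((h7 a u).trans (congrArg ρ (H83.mem_cent'.1 (hX ha))))⟩
      have hy : y ≠ 0 := fun e => (ι.toHomUnits ⟨u, hu⟩).ne_zero (congrArg Subtype.val e)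
      rw [← Nat.card_units, ← Subgroup.orderOf_mk u hu, ← orderOf_injective ι hι,
        show orderOf (ι ⟨u, hu⟩) = orderOf y from orderOf_injective (FixedPoints.subfield (X.map ψ) R).subtype.toMonoidHom
          Subtype.val_injective y, ← Units.val_mk0 hy, orderOf_units]
      exact orderOf_dvd_natCard _
  obtain ⟨q, a, hq, h11, h12, -⟩ := h10 ⊤
  exact ⟨R, inferInstance, inferInstance, inferInstance, ι,
    ⟨h1, h2, h3, fun _ _ => rfl, fun c hc k v => (LinearMap.congr_fun (h5 c hc k k.2) v).symm,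
    h11 ▸ (Nat.pow_le_pow_right two_pos ((relIndex_top_right _).ge.trans h12)).trans (Nat.pow_le_pow_left hq _)⟩, h10⟩

variable {A V : Type u} [Group A] [AddCommGroup V] [DistribMulAction A V]

theorem fx_bot [FaithfulSMul A V] (hirr : Irr A V) {Z : Subgroup A} [hZ : Z.Normal] (h0 : Z ≠ ⊥) {v : V}
    (hv : ∀ y ∈ Z, y • v = v) : v = 0 := by
  obtain h | h := hirr (FixedPoints.addSubgroup Z V) fun a v hv t => by
    have := hv ⟨_, hZ.conj_mem t t.2 a⁻¹⟩
    change t.1 • a • v = _
    rw [← inv_smul_eq_iff, ← mul_smul, ← mul_smul]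
    simpa using this
  · exact AddSubgroup.mem_bot.1 (h.le fun y => hv y y.2)
  · exact (h0 (eq_bot_iff.2 fun y hy => eq_of_smul_eq_smul (α := V) fun v =>
      (h.ge (AddSubgroup.mem_top v) ⟨y, hy⟩).trans (one_smul A v).symm)).elim

theorem orbits_ge {Ω : Type u} [MulAction A Ω] [Finite Ω] [IsPretransitive A Ω] (ω₀ : Ω) (C : Subgroup A) [hC : C.Normal] :
    (C ⊔ stabilizer A ω₀).index ≤ Nat.card (orbitRel.Quotient C Ω) := by
  choose g hg using exists_smul_eq A ω₀
  have h1 : ∀ (a : A) ω, a • ω₀ = ω → (g ω : A ⧸ (C ⊔ stabilizer A ω₀)) = a := fun a ω e => QuotientGroup.eq.2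
    (mem_sup_right (by rw [mem_stabilizer_iff, mul_smul, e, inv_smul_eq_iff, hg]))
  refine Nat.card_le_card_of_surjective (Quotient.lift (fun ω => (g ω : A ⧸ (C ⊔ stabilizer A ω₀))) ?_) fun q => ?_
  · rintro _ ω ⟨c, rfl⟩
    refine (h1 (c * g ω) _ (by rw [mul_smul, hg]; rfl)).trans (QuotientGroup.eq.2 (mem_sup_left ?_))
    simpa [mul_assoc] using hC.conj_mem _ (inv_mem c.2) (g ω)⁻¹
  · obtain ⟨a, rfl⟩ := QuotientGroup.mk_surjective q
    exact ⟨Quotient.mk'' (a • ω₀), h1 a _ rfl⟩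

theorem cent_normal {z : A} (h : (zpowers z).Normal) : (centralizer ({z} : Set A)).Normal := by
  rw [← centralizer_closure, ← zpowers_eq_closure]; infer_instance

theorem cyc_aux {p : ℕ} (hp : p.Prime) (h11 : 11 ≤ p) (n : ℕ) : ∀ (A V : Type u) [Group A] [Finite A]
    [AddCommGroup V] [Finite V] [Nontrivial V] [DistribMulAction A V] [FaithfulSMul A V], Group.IsSolvable A → Irr A V →
    Nat.card V = n → ∀ z : A, orderOf z = p → (zpowers z).Normal →
    ((max (p + 1) (2 ^ (centralizer ({z} : Set A)).index) : ℕ) : ℚ) ≤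
      Nat.card V * commProb (centralizer ({z} : Set A)) := by
  induction n using Nat.strong_induction_on with
  | _ n ih =>
  intro A V _ _ _ _ _ _ _ hA hirr hV z hz hN
  have hC := cent_normal hN
  set C := centralizer ({z} : Set A)
  have h0 := commProb_pos (M := C)
  obtain ⟨U, ⟨h1, h2, hzU⟩, h3⟩ := (Set.toFinite {U : Subgroup A | U.Normal ∧ U ≤ centralizer U ∧ z ∈ U}).exists_maximal
    ⟨zpowers z, hN, le_centralizer _, mem_zpowers z⟩
  obtain ⟨K, _, _, _, ι, h, hK⟩ | ⟨W, hW, hW', hU, hind⟩ :=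
    prim_or (V := V) h1 h2 fun X h h' h'' => h3 ⟨h, h'', h' hzU⟩ h'
  · have h4 : centralizer (U : Set A) ≤ C := centralizer_le (by simpa using hzU)
    obtain ⟨q, a, hq, e, ha, -⟩ := hK ⊤
    obtain ⟨q', a', hq', e', ha', h5⟩ := hK C
    have h5 := Nat.le_of_dvd (by omega) (hz ▸ h5 z hzU le_rfl)
    rw [relIndex_top_right, ← relIndex_mul_index h4] at ha
    have h6 : 0 < (centralizer (U : Set A)).relIndex C := Nat.pos_of_ne_zero index_ne_zero_of_finite
    have h7 := cp_index ((centralizer (U : Set A)).subgroupOf C) (by positivity) ((prim_cp h hA (β := 19 / 2)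
      (by norm_num) fun _ => le_rfl).trans_eq (congrArg _ (cp_equiv (subgroupOfEquivOfLe h4)).symm)) le_rfl
    change 1 ≤ _ * ((centralizer (U : Set A)).relIndex C : ℚ) ^ 2 * _ at h7
    generalize (centralizer (U : Set A)).relIndex C = b at *
    set Q := max (p + 1) (2 ^ C.index)
    have h8 : Q ^ b ≤ Nat.card K := by
      obtain h | h := le_total (p + 1) (2 ^ C.index)
      · rw [show Q = _ from max_eq_right h, e, ← pow_mul, mul_comm]
        exact (Nat.pow_le_pow_right two_pos ha).trans (Nat.pow_le_pow_left hq _)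
      · rw [show Q = _ from max_eq_left h, e']
        exact (Nat.pow_le_pow_left (by omega) _).trans (Nat.pow_le_pow_right (by omega) ha')
    have h9 : 12 ≤ Q := le_max_of_le_left (by omega)
    have h10 : Q * b ^ 2 ≤ Nat.card K := by
      refine le_trans ?_ h8
      obtain ⟨b, rfl⟩ := Nat.exists_eq_add_of_le' h6
      rw [pow_succ' Q]
      exact Nat.mul_le_mul_left _ ((sq_le_pow _).trans (Nat.pow_le_pow_left (by omega) _))
    have h12 : (19 / 2 : ℚ) ≤ Nat.card K := by
      have : ((12 : ℕ) : ℚ) ≤ Nat.card K := Nat.cast_le.2 (h9.trans ((Nat.le_self_pow h6.ne' Q).trans h8))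
      norm_num only at this; linarith
    obtain ⟨d, hd⟩ := Nat.exists_eq_add_of_le' (Module.finrank_pos (R := K) (M := V))
    rw [Module.natCard_eq_pow_finrank (K := K), hd, pow_succ]
    rw [hd, Nat.add_sub_cancel] at h7
    have h13 : ((Q * b ^ 2 : ℕ) : ℚ) ≤ Nat.card K := Nat.cast_le.2 h10
    have h14 := pow_le_pow_left₀ (by norm_num) h12 d
    push_cast at h13 ⊢
    calc (Q : ℚ) ≤ Q * ((19 / 2) ^ d * b ^ 2 * commProb C) := le_mul_of_one_le_right (by positivity) h7
      _ = (19 / 2) ^ d * (Q * b ^ 2) * commProb C := by ring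
      _ ≤ _ := by gcongr
  obtain ⟨h4, h5⟩ := blocks hirr hW hind
  have := (AddSubgroup.nontrivial_iff_ne_bot W).2 hW
  have : Finite (ρW A W).range := .of_surjective _ (ρW A W).rangeRestrict_surjective
  have hs := (ρW A W).rangeRestrict_surjective
  set f := (ρW A W).rangeRestrict
  have hzS : ∀ g : A, g⁻¹ * z * g ∈ stabilizer A W := fun g => hU (h1.conj_mem' z hzU g)
  have := Fact.mk hp
  have h6 : orderOf (f ⟨z, hU hzU⟩) = p := orderOf_eq_prime (by
    rw [← map_pow, show (⟨z, hU hzU⟩ : stabilizer A W) ^ p = 1 from Subtype.ext (hz ▸ pow_orderOf_eq_one z), map_one])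
    fun e => hW (eq_bot_iff.2 fun w hw => fx_bot hirr (Z := zpowers z) (by
      rw [Ne, zpowers_eq_bot]; rintro rfl; simp at hz; omega) (zpowers_le (H := stabilizer A w).2
      (congrArg Subtype.val (LinearEquiv.congr_fun (congrArg Subtype.val e) ⟨w, hw⟩))))
  have h7 : (zpowers (⟨z, hU hzU⟩ : stabilizer A W)).Normal := ⟨by
    rintro _ ⟨k, rfl⟩ g
    obtain ⟨l, hl⟩ := hN.conj_mem _ (zpow_mem (mem_zpowers z) k) g
    exact ⟨l, Subtype.ext hl⟩⟩
  have h8 := ih _ (hV ▸ lt_of_le_of_ne W.card_le_card_addGroup fun e => hW' (W.eq_top_of_card_eq e)) _ W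
    (Group.isSolvable_of_surjective hs) (irr_range h4) rfl _ h6 (MonoidHom.map_zpowers f _ ▸ h7.map f hs)
  set Y := centralizer ({f ⟨z, hU hzU⟩} : Set (ρW A W).range)
  have h9 : C.index ≤ Nat.card (orbitRel.Quotient C (orbit A W)) * Y.index := by
    let ω₀ : orbit A W := ⟨W, mem_orbit_self W⟩
    have e : stabilizer A ω₀ = stabilizer A W := Subgroup.ext fun a => Subtype.ext_iff
    have h9 := orbits_ge ω₀ C
    rw [e] at h9
    rw [← relIndex_mul_index (le_sup_left : C ≤ C ⊔ stabilizer A W), relIndex_sup_left, mul_comm]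
    refine Nat.mul_le_mul h9 ((index_antitone (H := Y.comap f) fun s hs => ?_).trans_eq (index_comap_of_surjective _ hs))
    obtain ⟨k, hk⟩ := h7.conj_mem _ (mem_zpowers _) s
    have h10 := H83.mem_cent'.1 hs
    rw [← map_mul, ← map_inv, ← map_mul, ← hk, map_zpow, ← zpow_one (f _), ← zpow_mul, zpow_eq_zpow_iff_modEq, h6,
      one_mul] at h10
    have h12 : z ^ k = s * z * s.1⁻¹ := congrArg Subtype.val hk
    exact H83.mem_cent'.2 (h12 ▸ (zpow_eq_zpow_iff_modEq.2 (hz ▸ h10)).trans (zpow_one z))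
  have h10 := cp_blocks hirr hW ((toPermHom C (orbit A W)).ker.map C.subtype) (by
    rintro _ ⟨x, hx, rfl⟩; exact hx) Y (by
    rintro _ ⟨x, -, rfl⟩ g h
    refine H83.mem_cent.2 ?_
    rw [← map_mul, ← map_mul]
    exact congrArg f (Subtype.ext (H83.mem_cent.1 (hC.conj_mem' x x.2 g))))
  rw [← cp_equiv (equivMapOfInjective _ _ C.subtype_injective)] at h10
  have h12 := dix_orb (K := C) (Ω := orbit A W) fun q =>
    have : Nonempty q.orbit := q.nonempty_orbit.to_subtype
    dixon inferInstance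
  have h13 := (toPermHom C (orbit A W)).ker.commProb_subgroup_le
  have h14 : 0 < (toPermHom C (orbit A W)).ker.index := Nat.pos_of_ne_zero index_ne_zero_of_finite
  have h15 : 0 < Nat.card (orbitRel.Quotient C (orbit A W)) :=
    have : Nonempty (orbitRel.Quotient C (orbit A W)) := ⟨Quotient.mk'' ⟨W, mem_orbit_self W⟩⟩
    Nat.card_pos
  generalize (toPermHom C (orbit A W)).ker.index = j at *
  generalize Nat.card (orbitRel.Quotient C (orbit A W)) = μ at *
  generalize Nat.card (orbit A W) = m at *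
  set Q := max (p + 1) (2 ^ Y.index)
  obtain ⟨r, rfl⟩ := Nat.exists_eq_add_of_le ((Nat.pow_le_pow_iff_right (by norm_num : 1 < 3)).1
    ((Nat.le_mul_of_pos_right _ h14).trans h12))
  rw [pow_add] at h12
  have h16 : max (p + 1) (2 ^ C.index) * j ^ 2 ≤ Q ^ (μ + r) := by
    rw [pow_add]
    refine Nat.mul_le_mul (max_le ((le_max_left _ _).trans (Nat.le_self_pow h15.ne' Q))
      ((Nat.pow_le_pow_right two_pos h9).trans ?_)) ((Nat.pow_le_pow_left (Nat.le_of_mul_le_mul_left h12 (by positivity))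
        2).trans ?_)
    · rw [mul_comm, pow_mul]; exact Nat.pow_le_pow_left (le_max_right _ _) _
    · rw [← pow_mul, mul_comm, pow_mul]; exact Nat.pow_le_pow_left (le_max_of_le_left (by omega)) _
  have h17 : ((max (p + 1) (2 ^ C.index) * j ^ 2 : ℕ) : ℚ) ≤ (Q ^ (μ + r) : ℕ) := Nat.cast_le.2 h16
  rw [Nat.cast_mul, Nat.cast_pow, Nat.cast_pow] at h17
  refine le_of_mul_le_mul_right (h17.trans ((pow_le_pow_left₀ (by positivity) h8 _).trans ?_))
    (show (0 : ℚ) < j ^ 2 by positivity)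
  rw [mul_pow, h5, Nat.cast_pow, mul_assoc]
  exact mul_le_mul_of_nonneg_left (h10.trans h13) (by positivity)

end Cfsg.Agent.H12.KG
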