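import Cfsg.Agent.H12.KgG

/-! Solvable linear groups with a normal elementary abelian subgroup. -/

set_option autoImplicit false
set_option linter.style.haveILetI false
set_option linter.unusedSectionVars false

namespace Cfsg.Agent.H12.KG
universe u
open Subgroup MulAction H33 Pointwise

theorem cyc_of_fpf {Z W : Type*} [Group Z] [Finite Z] [AddCommGroup W] [Finite W] [Nontrivial W] [DistribMulAction Z W]
    (hc : ∀ a b : Z, a * b = b * a) (h : ∀ (a : Z) (w : W), a • w = w → a = 1 ∨ w = 0) : IsCyclic Z := by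
  let φ : Z →* MulAut (Multiplicative W) := MonoidHom.mk' (fun g => AddEquiv.toMultiplicative
    (DistribMulAction.toAddEquiv W g)) fun a b => MulEquiv.ext fun v => mul_smul a b v.toAdd
  have : Finite (Multiplicative W ⋊[φ] Z) := .of_equiv _ SemidirectProduct.equivProd.symm
  have hn : (SemidirectProduct.inl (φ := φ)).range.Normal := by
    rw [SemidirectProduct.range_inl_eq_ker_rightHom]; infer_instance
  have := H2.isCyclic_of_fpf_of_comm (A := (SemidirectProduct.inr (φ := φ)).range)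
    (K := (SemidirectProduct.inl (φ := φ)).range) (H2.isMulCommutative_of_forall (by
      rintro _ ⟨a, rfl⟩ _ ⟨b, rfl⟩; rw [← map_mul, hc, map_mul])) (fun e => by
      obtain ⟨w, hw⟩ := exists_ne (1 : Multiplicative W)
      exact hw (SemidirectProduct.inl_injective ((mem_bot.1 (e.le ⟨w, rfl⟩)).trans (map_one _).symm)))
    le_normalizer_of_normal (by
      rintro _ ⟨a, rfl⟩ ha
      refine eq_bot_iff.2 ?_
      rintro _ ⟨⟨w, rfl⟩, hw⟩
      have h1 := congrArg SemidirectProduct.left (H83.mem_cent.1 hw)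
      simp only [SemidirectProduct.mul_left, SemidirectProduct.left_inl, SemidirectProduct.left_inr,
        SemidirectProduct.right_inl, SemidirectProduct.right_inr, map_one, mul_one, one_mul] at h1
      obtain rfl | h2 := h a w.toAdd h1.symm
      · exact (ha (map_one _)).elim
      · rw [show w = 1 from h2, map_one]; exact one_mem _)
  exact isCyclic_of_injective _ (MonoidHom.ofInjective (SemidirectProduct.inr_injective (φ := φ))).injective

variable {A : Type u} [Group A]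

/-- the action on linear characters -/
@[reducible] def dAct (Z : Subgroup A) [Z.Normal] : MulAction A (Z →* ℂˣ) where
  smul g χ := χ.comp (MulAut.conjNormal g⁻¹).toMonoidHom
  one_smul χ := MonoidHom.ext fun y => congrArg χ (Subtype.ext (by simp))
  mul_smul a b χ := MonoidHom.ext fun y => congrArg χ (Subtype.ext (by simp [mul_assoc]))

theorem k_ge [Finite A] {Z : Subgroup A} [Z.Normal] (hc : IsMulCommutative Z) (l : Z →* ℂˣ) {p τ : ℕ}
    (hl : ∀ j ∈ Finset.Ico 1 p, l ^ j ≠ 1) (hτ : ∀ i : ℕ, {j ∈ (Finset.Ico 1 p : Set ℕ) | ∃ g : A, ∀ y,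
      l (MulAut.conjNormal g y) ^ j = l y ^ i}.ncard ≤ τ) : p - 1 + τ ≤ τ * Nat.card (ConjClasses A) := by
  classical
  letI := dAct Z
  letI : CommGroup Z := { (inferInstance : Group Z) with mul_comm := hc.is_comm.comm }
  have := Fintype.ofFinite A
  have : Finite (Z →* ℂˣ) := Nat.finite_of_card_ne_zero (by
    rw [CommGroup.card_monoidHom_of_hasEnoughRootsOfUnity]; exact Nat.card_pos.ne')
  have := Fintype.ofFinite (orbitRel.Quotient A (Z →* ℂˣ))
  have := fun g : A => Fintype.ofFinite (fixedBy (Z →* ℂˣ) g)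
  have h1 : Fintype.card (orbitRel.Quotient A (Z →* ℂˣ)) ≤ Nat.card (ConjClasses A) := by
    refine Nat.le_of_mul_le_mul_right ?_ (Nat.card_pos (α := A))
    rw [H83.card_conjClasses_mul, Nat.card_eq_fintype_card, ← sum_card_fixedBy_eq_card_orbits_mul_card_group]
    refine Finset.sum_le_sum fun g _ => ?_
    let δ : Z →* Z := (MulAut.conjNormal g⁻¹).toMonoidHom / MonoidHom.id Z
    have h2 : Nat.card δ.ker ≤ Nat.card (centralizer ({g} : Set A)) := by
      rw [← card_map_of_injective Z.subtype_injective]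
      refine card_le_of_le ?_
      rintro _ ⟨y, hy, rfl⟩
      have : g⁻¹ * y * g⁻¹⁻¹ = y := congrArg Subtype.val (div_eq_one.1 hy)
      rw [inv_inv, mul_assoc, inv_mul_eq_iff_eq_mul] at this
      exact H83.mem_cent.2 this
    have h3 : δ.range.index = Nat.card δ.ker := Nat.eq_of_mul_eq_mul_left (Nat.card_pos (α := δ.range)) (by
      rw [card_mul_index, ← index_ker, index_mul_card])
    have : Finite (Z ⧸ δ.range →* ℂˣ) := Nat.finite_of_card_ne_zero (by
      rw [CommGroup.card_monoidHom_of_hasEnoughRootsOfUnity]; exact Nat.card_pos.ne')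
    rw [← Nat.card_eq_fintype_card]
    refine le_trans (Nat.card_le_card_of_injective (fun χ => QuotientGroup.lift δ.range χ.1 ?_) fun χ χ' e =>
      Subtype.ext (MonoidHom.ext fun y => DFunLike.congr_fun e (y : Z ⧸ δ.range))) ?_
    · rintro _ ⟨y, rfl⟩
      exact (map_div _ _ _).trans (div_eq_one.2 (DFunLike.congr_fun χ.2 y))
    · rw [CommGroup.card_monoidHom_of_hasEnoughRootsOfUnity]
      exact h3.le.trans h2
  let f : ℕ → orbitRel.Quotient A (Z →* ℂˣ) := fun j => Quotient.mk'' (l ^ j)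
  have h2 := Finset.card_le_mul_card_image (f := f) (Finset.Ico 1 p) τ fun b hb => by
    obtain ⟨i, -, rfl⟩ := Finset.mem_image.1 hb
    refine le_trans ?_ (hτ i)
    rw [← Set.ncard_coe_finset]
    refine Set.ncard_le_ncard (fun j hj => ?_) ((Finset.finite_toSet _).subset (Set.sep_subset _ _))
    obtain ⟨h, h'⟩ := Finset.mem_filter.1 hj
    obtain ⟨g, hg⟩ := Quotient.exact' h'.symm
    exact ⟨h, g⁻¹, fun y => DFunLike.congr_fun hg y⟩
  have h3 : ((Finset.Ico 1 p).image f).card ≤ Fintype.card (orbitRel.Quotient A (Z →* ℂˣ)) - 1 := by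
    rw [← Finset.card_univ, ← Finset.card_erase_of_mem (Finset.mem_univ (Quotient.mk'' 1))]
    refine Finset.card_le_card fun b hb => Finset.mem_erase.2 ⟨?_, Finset.mem_univ _⟩
    obtain ⟨i, hi, rfl⟩ := Finset.mem_image.1 hb
    intro e
    obtain ⟨g, hg⟩ := Quotient.exact' e
    exact hl i hi hg.symm
  have h4 : 0 < Fintype.card (orbitRel.Quotient A (Z →* ℂˣ)) := Fintype.card_pos_iff.2 ⟨Quotient.mk'' 1⟩
  rw [Nat.card_Ico] at h2
  obtain ⟨c, hc⟩ := Nat.exists_eq_add_of_le' h4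
  rw [hc] at h1 h3
  exact (Nat.add_le_add_right (h2.trans (Nat.mul_le_mul_left _ h3)) _).trans (Nat.mul_le_mul_left τ h1)

variable {V : Type u} [AddCommGroup V] [DistribMulAction A V]

theorem exists_block [Finite V] [Nontrivial V] {Z : Subgroup A} [hZ : Z.Normal] (hc : IsMulCommutative Z) :
    ∃ W : AddSubgroup V, W ≠ ⊥ ∧ Ind A W ∧ (∀ y ∈ Z, (∀ v ∈ W, y • v = v) ∨ ∀ v ∈ W, y • v = v → v = 0) ∧
      ∀ v, (∀ y ∈ Z, (∀ w ∈ W, y • w = w) → y • v = v) → v ∈ W := by
  let ρ := DistribMulAction.toModuleEnd ℤ V (S := A)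
  have h0 : ∀ (y : A) v, (ρ y - 1) v = 0 ↔ y • v = v := fun y v => sub_eq_zero
  obtain h | ⟨W, h1, -, h2, ⟨T, h3, h4⟩, h5⟩ := dich (A := A) ((fun y => ρ y - 1) '' Z) (by
    rintro _ ⟨a, ha, rfl⟩ _ ⟨b, hb, rfl⟩
    exact ((Commute.map (H2.mul_comm_of_mem hc ha hb) ρ).sub_right (.one_right _)).sub_left (.one_left _)) (by
    rintro a _ ⟨y, hy, rfl⟩
    exact ⟨_, ⟨_, hZ.conj_mem y hy a, rfl⟩, fun v => by simp [ρ, mul_smul, smul_sub]⟩)
  · refine ⟨⊤, top_ne_bot, fun _ f _ e ω => ?_, fun y hy => or_iff_not_imp_left.2 fun h' v _ e =>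
      h _ ⟨y, hy, rfl⟩ (fun e => h' fun v _ => (h0 y v).1 (LinearMap.congr_fun e v)) v ((h0 y v).2 e), fun _ _ => trivial⟩
    rwa [Finset.sum_eq_single ω (fun b _ h => (h ?_).elim) (by simp)] at e
    have : ∀ ω : orbit A (⊤ : AddSubgroup V), ω.1 = ⊤ := by
      rintro ⟨_, a, rfl⟩
      exact eq_top_iff.2 fun v _ => AddSubgroup.mem_pointwise_smul_iff_inv_smul_mem.2 trivial
    exact Subtype.ext ((this b).trans (this ω).symm)
  · refine ⟨W, h1, h5, fun y hy => by simpa only [h0] using h2 _ ⟨y, hy, rfl⟩, fun v hv => (h4 v).2 fun r hr => ?_⟩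
    obtain ⟨y, hy, rfl⟩ := h3 hr
    exact (h0 y v).2 (hv y hy fun w hw => (h0 y w).1 ((h4 w).1 hw _ hr))

theorem nine_le {τ : ℕ} (h : 10 ≤ τ) : 9 * τ ^ 2 ≤ 2 ^ τ := by
  induction τ, h using Nat.le_induction with
  | base => norm_num
  | succ t h ih => rw [pow_succ 2]; nlinarith

theorem elem_bound [Finite A] [Finite V] [Nontrivial V] [FaithfulSMul A V] (hA : Group.IsSolvable A) (hirr : Irr A V)
    {p : ℕ} (hp : p.Prime) (h11 : 11 ≤ p) {Z : Subgroup A} [hZ : Z.Normal] (h0 : Z ≠ ⊥) (hc : IsMulCommutative Z)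
    (he : ∀ y ∈ Z, y ^ p = 1) : ∃ τ, 0 < τ ∧ p - 1 + τ ≤ τ * Nat.card (ConjClasses A) ∧
      (10 ≤ τ → (2 : ℚ) ^ τ ≤ τ ^ 2 * (Nat.card V * commProb A)) := by
  obtain ⟨W, hW, hind, h1, h2⟩ := exists_block (V := V) hc
  have h3 : ∀ g : A, (∀ y ∈ Z, (∀ w ∈ W, y • w = w) → ∀ w ∈ W, (g⁻¹ * y * g) • w = w) → g ∈ stabilizer A W :=
    fun g h => AddSubgroup.eq_of_le_of_card_ge (by
      rintro _ ⟨w, hw, rfl⟩
      refine h2 _ fun y hy h' => ?_
      have := h y hy h' w hw
      rwa [mul_smul, mul_smul, inv_smul_eq_iff] at this)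
      (AddSubgroup.card_map_of_injective (MulAction.injective g)).ge
  have hZS : Z ≤ stabilizer A W := fun g hg => h3 g fun y hy h => by
    rwa [mul_assoc, H2.mul_comm_of_mem hc hy hg, inv_mul_cancel_left]
  obtain ⟨h4, h5⟩ := blocks hirr hW hind
  have := (AddSubgroup.nontrivial_iff_ne_bot W).2 hW
  have : Finite (ρW A W).range := .of_surjective _ (ρW A W).rangeRestrict_surjective
  have hs := (ρW A W).rangeRestrict_surjective
  set f := (ρW A W).rangeRestrict
  let l := f.comp (inclusion hZS)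
  have h6 : ∀ y : Z, l y = 1 ↔ ∀ w ∈ W, y.1 • w = w := fun y =>
    ⟨fun e w hw => congrArg Subtype.val (LinearEquiv.congr_fun (congrArg Subtype.val e) ⟨w, hw⟩),
      fun h => Subtype.ext (LinearEquiv.ext fun w => Subtype.ext (h w w.2))⟩
  have : IsCyclic l.range := cyc_of_fpf (W := W) (by
    rintro ⟨_, a, rfl⟩ ⟨_, b, rfl⟩
    exact Subtype.ext (by simp only [coe_mul, ← map_mul, hc.is_comm.comm a b])) (by
    rintro ⟨_, a, rfl⟩ w e
    exact (h1 a a.2).imp (fun h => Subtype.ext ((h6 a).2 h)) fun h => Subtype.ext (h w w.2 (congrArg Subtype.val e)))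
  obtain ⟨⟨_, z, rfl⟩, hz⟩ := IsCyclic.exists_generator (α := l.range)
  have h7 : zpowers (l z) = l.range := le_antisymm (zpowers_le.2 ⟨z, rfl⟩) fun y hy =>
    let ⟨k, hk⟩ := hz ⟨y, hy⟩; ⟨k, congrArg Subtype.val hk⟩
  have := Fact.mk hp
  have h8 : orderOf (l z) = p := orderOf_eq_prime (by
    rw [← map_pow, show z ^ p = 1 from Subtype.ext (he z z.2), map_one]) fun e => hW (eq_bot_iff.2 fun w hw =>
      fx_bot hirr h0 fun y hy => (h6 ⟨y, hy⟩).1 (mem_bot.1 (by
        rw [← zpowers_one_eq_bot, ← e, h7]; exact ⟨_, rfl⟩)) w hw)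
  have h9 : ∀ (s : stabilizer A W) y, l (MulAut.conjNormal s.1 y) = f s * l y * (f s)⁻¹ := fun s y => by
    rw [← map_inv]; exact (congrArg f (Subtype.ext rfl : _ = s * inclusion hZS y * s⁻¹)).trans (by rw [map_mul, map_mul]; rfl)
  have h10 : (zpowers (l z)).Normal := h7 ▸ ⟨by
    rintro _ ⟨y, rfl⟩ g
    obtain ⟨s, rfl⟩ := hs g
    exact ⟨_, h9 s y⟩⟩
  have h12 := cyc_aux hp h11 _ _ W (Group.isSolvable_of_surjective hs) (irr_range h4) rfl _ h8 h10
  set Y := centralizer ({l z} : Set (ρW A W).range)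
  refine ⟨Y.index, Nat.pos_of_ne_zero index_ne_zero_of_finite, ?_, fun h13 => ?_⟩
  · have : NeZero p := ⟨hp.ne_zero⟩
    let e := mulEquivOfCyclicCardEq (G := l.range) (G' := rootsOfUnity p ℂ) (by
      rw [Complex.card_rootsOfUnity, ← h7, Nat.card_zpowers, h8])
    let e' := (rootsOfUnity p ℂ).subtype.comp e.toMonoidHom
    have he' : Function.Injective e' := Subtype.val_injective.comp e.injective
    have h13 : ∀ j ∈ Finset.Ico 1 p, ∀ y, l y ^ j = 1 → l y = 1 := fun j hj y h => orderOf_eq_one_iff.1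
      (Nat.eq_one_of_dvd_coprimes (Nat.coprime_of_lt_prime (by simp at hj; omega) (Finset.mem_Ico.1 hj).2 hp)
        (orderOf_dvd_of_pow_eq_one (by rw [← map_pow, show y ^ p = 1 from Subtype.ext (he y y.2), map_one]))
        (orderOf_dvd_of_pow_eq_one h))
    have h14 : ∀ (y y' : Z) (i j : ℕ), e' (l.rangeRestrict y) ^ j = e' (l.rangeRestrict y') ^ i → l y ^ j = l y' ^ i :=
      fun y y' i j h => congrArg Subtype.val (he' (by rwa [map_pow, map_pow]) :
        l.rangeRestrict y ^ j = l.rangeRestrict y' ^ i)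
    refine k_ge hc (e'.comp l.rangeRestrict) (fun j hj e => hp.ne_one ?_) fun i => ?_
    · rw [← h8, h13 j hj z (by simpa using h14 z z 0 j (by simpa using DFunLike.congr_fun e z)), orderOf_one]
    refine le_trans ?_ (Nat.le_of_dvd (H83.cs_pos _) (H83.cs_dvd_of_mem_zpowers (pow_mem (mem_zpowers (l z)) i)))
    rw [← H83.card_isConj]
    refine Set.ncard_le_ncard_of_injOn (t := {y | IsConj (l z ^ i) y}) (l z ^ ·) ?_ fun j hj j' hj' e =>
      pow_injOn_Iio_orderOf (h8 ▸ (Finset.mem_Ico.1 hj.1).2) (h8 ▸ (Finset.mem_Ico.1 hj'.1).2) e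
    rintro j ⟨hj, g, hg⟩
    have h15 := fun y => h14 _ _ _ _ (hg y)
    have h16 : g⁻¹ ∈ stabilizer A W := h3 _ fun y hy h => by
      rw [inv_inv]
      exact (h6 (MulAut.conjNormal g ⟨y, hy⟩)).1 (h13 j hj _ (by rw [h15, (h6 ⟨y, hy⟩).2 h, one_pow]))
    have h17 := h15 z
    rw [h9 ⟨g, (inv_mem_iff.1 h16)⟩, conj_pow] at h17
    exact (isConj_iff.2 ⟨_, h17⟩).symm
  have h14 := cp_blocks hirr hW _ le_rfl ⊤ fun _ _ _ _ => trivial
  rw [cp_equiv topEquiv] at h14
  have : Nonempty (orbit A W) := ⟨⟨W, mem_orbit_self W⟩⟩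
  have h15 := dixon (Ω := orbit A W) hA
  have h16 := (toPermHom A (orbit A W)).ker.commProb_subgroup_le
  have h17 := Y.commProb_subgroup_le
  obtain ⟨m, hm⟩ := Nat.exists_eq_add_of_le' (Nat.card_pos (α := orbit A W))
  rw [hm] at h5 h14 h15
  have h18 : ((toPermHom A (orbit A W)).ker.index : ℚ) ^ 2 ≤ 9 ^ m := by
    have := Nat.pow_le_pow_left (show (toPermHom A (orbit A W)).ker.index ≤ 3 ^ m by rw [pow_succ] at h15; omega) 2
    rw [← pow_mul, mul_comm, pow_mul] at this
    exact_mod_cast this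
  have h19 : (2 : ℚ) ^ Y.index ≤ Y.index ^ 2 * (Nat.card W * commProb (ρW A W).range) := by
    have : ((2 ^ Y.index : ℕ) : ℚ) ≤ _ := (Nat.cast_le.2 (le_max_right _ _)).trans h12
    push_cast at this
    exact this.trans ((mul_le_mul_of_nonneg_left h17 (by positivity)).trans_eq (by ring))
  have h20 : ((9 * Y.index ^ 2 : ℕ) : ℚ) ≤ (2 ^ Y.index : ℕ) := Nat.cast_le.2 (nine_le h13)
  push_cast at h20
  have h21 : (0 : ℚ) < Y.index := by exact_mod_cast (by omega : 0 < Y.index)
  have h22 : 9 ≤ Nat.card W * commProb (ρW A W).range :=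
    le_of_mul_le_mul_left ((mul_comm _ _).le.trans (h20.trans h19)) (by positivity)
  refine h19.trans (mul_le_mul_of_nonneg_left (le_of_mul_le_mul_left ?_ (show (0 : ℚ) < 9 ^ m by positivity))
    (by positivity))
  have h23 := commProb_pos (M := A)
  calc _ ≤ (Nat.card W * commProb (ρW A W).range) ^ (m + 1) := by rw [pow_succ]; gcongr
    _ ≤ Nat.card V * (commProb A * 9 ^ m) := by
      rw [mul_pow, h5, Nat.cast_pow]
      exact mul_le_mul_of_nonneg_left (h14.trans (h16.trans (by gcongr))) (by positivity)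
    _ = _ := by ring

end Cfsg.Agent.H12.KG
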