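/-
A TI-subgroup inverted by an involution, in a group with many involutions: basic facts.
-/
import Cfsg.Agent.H12.SPBasic
import Cfsg.Agent.H12.ZassBasic

set_option autoImplicit false

namespace Cfsg.Agent.H12

open Cfsg MulAction

theorem eq_one_of_sq_odd {G : Type*} [Group G] {x : G} (ho : Odd (orderOf x)) (h : x * x = 1) :
    x = 1 := by
  have h1 : orderOf x ∣ 2 := orderOf_dvd_of_pow_eq_one (by rw [sq, h])
  rcases (Nat.dvd_prime Nat.prime_two).1 h1 with e | e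
  · exact orderOf_eq_one_iff.1 e
  · rw [e] at ho; exact absurd ho (by decide)

theorem conj_ne_one {G : Type*} [Group G] {v : G} (h : v ≠ 1) (g : G) : g⁻¹ * v * g ≠ 1 := fun e =>
  h (by
    calc v = g * (g⁻¹ * v * g) * g⁻¹ := by group
      _ = 1 := by rw [e]; group)

theorem mem_of_sq_mem_odd {G : Type*} [Group G] {M : Subgroup G} {x : G} (ho : Odd (orderOf x))
    (h : x * x ∈ M) : x ∈ M := by
  obtain ⟨k, hk⟩ := ho
  have : x = (x * x) ^ (k + 1) := by
    rw [← sq, ← pow_mul, show 2 * (k + 1) = orderOf x + 1 by omega, pow_succ, pow_orderOf_eq_one,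
      one_mul]
  rw [this]
  exact pow_mem h _

/-- `M` is a TI-subgroup with normaliser `G_a = M C_{G_a}(z)`. -/
structure TI0 (G Ω : Type*) [Group G] [MulAction G Ω] (a : Ω) (M : Subgroup G) (z : G) : Prop where
  tr : ∀ c : Ω, ∃ g : G, g • a = c
  fix : ∀ x ∈ M, x • a = a
  conj : ∀ g : G, g • a = a → ∀ x ∈ M, g * x * g⁻¹ ∈ M
  ti : ∀ g : G, g • a ≠ a → ∀ x ∈ M, g * x * g⁻¹ ∈ M → x = 1
  ne : ∃ x ∈ M, x ≠ 1
  z1 : z ≠ 1
  zz : z * z = 1
  za : z • a = a
  fac : ∀ n : G, n • a = a → ∃ x ∈ M, ∃ k : G, k * z = z * k ∧ n = x * k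
  odd : ∀ x ∈ M, x ≠ 1 → ∀ g : G, g * x = x * g → Odd (orderOf g)

namespace TI0

variable {G Ω : Type*} [Group G] [Finite G] [MulAction G Ω] {a : Ω} {M : Subgroup G} {z : G}
  (h : TI0 G Ω a M z)
include h

omit [Finite G] in
theorem odd_mem {x : G} (hx : x ∈ M) : Odd (orderOf x) := by
  by_cases e : x = 1
  · simp [e]
  · exact h.odd x hx e x rfl

omit [Finite G] in
theorem sq_one {x : G} (hx : x ∈ M) (e : x * x = 1) : x = 1 := eq_one_of_sq_odd (h.odd_mem hx) e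

omit [Finite G] in
theorem eq_one_of_comm {u x : G} (hu1 : u ≠ 1) (hu : u * u = 1) (hx : x ∈ M)
    (e : u * x = x * u) : x = 1 := by
  by_contra hx1
  exact hu1 (eq_one_of_sq_odd (h.odd x hx hx1 u e) hu)

/-- Involutions of `G_a` invert `M`. -/
theorem inverts {u x : G} (hu1 : u ≠ 1) (hu : u * u = 1) (hua : u • a = a) (hx : x ∈ M) :
    u * x * u = x⁻¹ := by
  have hi : u⁻¹ = u := inv_eq_of_mul_eq_one_right hu
  let f : M → M := fun y => ⟨(y : G)⁻¹ * (u * y * u⁻¹), mul_mem (inv_mem y.2) (h.conj u hua y y.2)⟩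
  have hf : Function.Injective f := fun y w e => by
    have e' : (y : G)⁻¹ * (u * y * u⁻¹) = (w : G)⁻¹ * (u * w * u⁻¹) := congrArg Subtype.val e
    have : (w : G) * (y : G)⁻¹ = 1 := h.eq_one_of_comm hu1 hu (mul_mem w.2 (inv_mem y.2)) (by
      calc u * (w * (y : G)⁻¹) = w * ((w : G)⁻¹ * (u * w * u⁻¹)) * (u * (y : G)⁻¹) := by group
        _ = w * (y : G)⁻¹ * u := by rw [← e']; group)
    exact Subtype.ext (mul_inv_eq_one.1 this).symm
  obtain ⟨y, hy⟩ := Finite.surjective_of_injective hf ⟨x, hx⟩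
  have hy' : (y : G)⁻¹ * (u * y * u⁻¹) = x := congrArg Subtype.val hy
  rw [← hy', hi]
  calc u * ((y : G)⁻¹ * (u * y * u)) * u = u * (y : G)⁻¹ * u * y * (u * u) := by group
    _ = u⁻¹ * (y : G)⁻¹ * u⁻¹ * y := by rw [hu, hi, mul_one]
    _ = _ := by group

theorem comm {x y : G} (hx : x ∈ M) (hy : y ∈ M) : x * y = y * x := by
  have h1 := h.inverts h.z1 h.zz h.za (mul_mem hx hy)
  rw [show z * (x * y) * z = (z * x * z) * (z * z)⁻¹ * (z * y * z) by group, h.zz,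
    h.inverts h.z1 h.zz h.za hx, h.inverts h.z1 h.zz h.za hy, inv_one, mul_one, ← mul_inv_rev] at h1
  exact (inv_injective h1).symm

theorem mul_z_mem {u : G} (hu1 : u ≠ 1) (hu : u * u = 1) (hua : u • a = a) : u * z ∈ M := by
  obtain ⟨x0, hx0, hx01⟩ := h.ne
  obtain ⟨x, hx, k, hk, e⟩ := h.fac u hua
  have hka : k • a = a := by
    have : k = x⁻¹ * u := by rw [e]; group
    rw [this, mul_smul, hua, h.fix _ (inv_mem hx)]
  have ho : Odd (orderOf (u * z)) := h.odd x0 hx0 hx01 _ (by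
    have h1 := h.inverts h.z1 h.zz h.za hx0
    have h2 := h.inverts hu1 hu hua (inv_mem hx0)
    calc u * z * x0 = u * (z * x0 * z) * u * (u * u)⁻¹ * u * (z * z)⁻¹ * z := by group
      _ = x0 * (u * z) := by rw [h1, h2, hu, h.zz]; group)
  refine mem_of_sq_mem_odd ho ?_
  have hkk : k * k ∈ M := by
    have : k * k = (k * x * k⁻¹)⁻¹ * x⁻¹ * (u * u) := by rw [e]; group
    rw [this, hu, mul_one]
    exact mul_mem (inv_mem (h.conj k hka x hx)) (inv_mem hx)
  have : u * z * (u * z) = x * (k * (z * x * z) * k⁻¹) * (k * k) := by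
    rw [e]
    calc x * k * z * (x * k * z) = x * k * z * x * (k * z) := by group
      _ = _ := by rw [hk]; group
  rw [this, h.inverts h.z1 h.zz h.za hx]
  exact mul_mem (mul_mem hx (h.conj k hka _ (inv_mem hx))) hkk

/-- Any involution of `G_a` may play the role of `z`. -/
theorem of_invol {u : G} (hu1 : u ≠ 1) (hu : u * u = 1) (hua : u • a = a) : TI0 G Ω a M u where
  tr := h.tr
  fix := h.fix
  conj := h.conj
  ti := h.ti
  ne := h.ne
  z1 := hu1
  zz := hu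
  za := hua
  odd := h.odd
  fac := fun n hn => by
    -- `u = y z y⁻¹` with `y ∈ M`
    obtain ⟨j, hj⟩ := h.odd_mem (h.mul_z_mem hu1 hu hua)
    have hy : (u * z) ^ (j + 1) ∈ M := pow_mem (h.mul_z_mem hu1 hu hua) _
    have hyy : (u * z) ^ (j + 1) * (u * z) ^ (j + 1) = u * z := by
      rw [← pow_add, show j + 1 + (j + 1) = orderOf (u * z) + 1 by omega, pow_succ,
        pow_orderOf_eq_one, one_mul]
    generalize (u * z) ^ (j + 1) = y at hy hyy
    have e : u = y * z * y⁻¹ := by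
      rw [← h.inverts h.z1 h.zz h.za hy]
      calc u = (y * y) * z⁻¹ := by rw [hyy]; group
        _ = y * (z * z) * y * z := by rw [h.zz, inv_eq_of_mul_eq_one_right h.zz]; group
        _ = _ := by group
    obtain ⟨x, hx, k, hk, e'⟩ := h.fac (y⁻¹ * n * y) (by
      rw [mul_smul, mul_smul, h.fix y hy, hn, h.fix _ (inv_mem hy)])
    refine ⟨y * x * y⁻¹, mul_mem (mul_mem hy hx) (inv_mem hy), y * k * y⁻¹, ?_, ?_⟩
    · rw [e]
      calc y * k * y⁻¹ * (y * z * y⁻¹) = y * (k * z) * y⁻¹ := by group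
        _ = _ := by rw [hk]; group
    · calc n = y * (y⁻¹ * n * y) * y⁻¹ := by group
        _ = _ := by rw [e']; group

theorem exists_conj {u : G} (hu1 : u ≠ 1) (hu : u * u = 1) (hua : u • a = a) :
    ∃ y ∈ M, y * z * y⁻¹ = u := by
  obtain ⟨j, hj⟩ := h.odd_mem (h.mul_z_mem hu1 hu hua)
  have hy : (u * z) ^ (j + 1) ∈ M := pow_mem (h.mul_z_mem hu1 hu hua) _
  have hyy : (u * z) ^ (j + 1) * (u * z) ^ (j + 1) = u * z := by
    rw [← pow_add, show j + 1 + (j + 1) = orderOf (u * z) + 1 by omega, pow_succ,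
      pow_orderOf_eq_one, one_mul]
  generalize (u * z) ^ (j + 1) = y at hy hyy
  refine ⟨y, hy, ?_⟩
  rw [← h.inverts h.z1 h.zz h.za hy]
  calc y * z * (z * y * z) = y * (z * z) * y * z := by group
    _ = u := by rw [h.zz, mul_one, hyy, mul_assoc, h.zz, mul_one]

/-- With many involutions every coset of `M` outside `G_a` contains an involution. -/
theorem many (hj : M.index < Nat.card {g : G // orderOf g = 2}) (g : G) (hg : g • a ≠ a) :
    ∃ x ∈ M, x * g * (x * g) = 1 := by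
  classical
  by_contra! hc
  have hI : ∀ u : {g : G // orderOf g = 2}, u.1 ≠ 1 ∧ u.1 * u.1 = 1 := fun u =>
    ⟨fun e => by have := u.2; rw [e] at this; simp at this,
      by have := pow_orderOf_eq_one u.1; rwa [u.2, sq] at this⟩
  let f : M × {g : G // orderOf g = 2} → G := fun p =>
    if p.2.1 • a = a then p.1 * g * (p.2.1 * z) else p.1 * p.2.1
  have mixed : ∀ (x x' : M) (u u' : {g : G // orderOf g = 2}), u.1 • a = a →
      (x : G) * g * (u.1 * z) ≠ x' * u'.1 := fun x x' u u' hu e => by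
    have hy := h.mul_z_mem (hI u).1 (hI u).2 hu
    generalize u.1 * z = y at hy e
    refine hc (y * (x' : G)⁻¹ * x) (mul_mem (mul_mem hy (inv_mem x'.2)) x.2) ?_
    have : y * (x' : G)⁻¹ * x * g = y * u'.1 * y⁻¹ := by
      calc y * (x' : G)⁻¹ * x * g = y * (x' : G)⁻¹ * (x * g * y) * y⁻¹ := by group
        _ = _ := by rw [e]; group
    rw [this]
    calc y * u'.1 * y⁻¹ * (y * u'.1 * y⁻¹) = y * (u'.1 * u'.1) * y⁻¹ := by group
      _ = 1 := by rw [(hI u').2]; group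
  have hf : Function.Injective f := by
    rintro ⟨x, u⟩ ⟨x', u'⟩ e
    simp only [f] at e
    split_ifs at e with h1 h2 h2
    · have hy := h.mul_z_mem (hI u).1 (hI u).2 h1
      have hy' := h.mul_z_mem (hI u').1 (hI u').2 h2
      have h3 : u.1 * z * (u'.1 * z)⁻¹ = 1 := h.ti g hg _ (mul_mem hy (inv_mem hy')) (by
        have : g * (u.1 * z * (u'.1 * z)⁻¹) * g⁻¹ = (x : G)⁻¹ * x' := by
          calc _ = (x : G)⁻¹ * (x * g * (u.1 * z)) * (u'.1 * z)⁻¹ * g⁻¹ := by group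
            _ = _ := by rw [e]; group
        rw [this]
        exact mul_mem (inv_mem x.2) x'.2)
      have h4 : u.1 = u'.1 := mul_right_cancel (mul_inv_eq_one.1 h3)
      rw [h4] at e
      exact Prod.ext (Subtype.ext (mul_right_cancel (mul_right_cancel e))) (Subtype.ext h4)
    · exact absurd e (mixed x x' u u' h1)
    · exact absurd e.symm (mixed x' x u' u h2)
    · have h3 : u'.1 * u.1⁻¹ = (x' : G)⁻¹ * x := by
        calc _ = (x' : G)⁻¹ * (x' * u'.1) * u.1⁻¹ := by group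
          _ = _ := by rw [← e]; group
      have h4 : u'.1 * u.1⁻¹ = 1 := h.ti u.1 h1 _ (h3 ▸ mul_mem (inv_mem x'.2) x.2) (by
        have : u.1 * (u'.1 * u.1⁻¹) * u.1⁻¹ = (u'.1 * u.1⁻¹)⁻¹ := by
          rw [mul_inv_rev, inv_eq_of_mul_eq_one_right (hI u').2, inv_inv, mul_assoc, mul_assoc,
            ← mul_inv_rev, (hI u).2, inv_one, mul_one]
        rw [this, h3]
        exact inv_mem (mul_mem (inv_mem x'.2) x.2))
      have h5 : u'.1 = u.1 := mul_inv_eq_one.1 h4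
      rw [h5] at e
      exact Prod.ext (Subtype.ext (mul_right_cancel e)) (Subtype.ext h5.symm)
  have := Nat.card_le_card_of_injective f hf
  rw [Nat.card_prod, ← M.card_mul_index] at this
  exact absurd (Nat.le_of_mul_le_mul_left this Nat.card_pos) (by omega)

end TI0

/-- The configuration in which every coset of `M` outside `G_a` contains an involution. -/
structure TI1 (G Ω : Type*) [Group G] [MulAction G Ω] (a : Ω) (M : Subgroup G) (z : G) : Prop
    extends TI0 G Ω a M z where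
  many : ∀ g : G, g • a ≠ a → ∃ x ∈ M, x * g * (x * g) = 1

namespace TI1

variable {G Ω : Type*} [Group G] [Finite G] [MulAction G Ω] {a : Ω} {M : Subgroup G} {z : G}
  (h : TI1 G Ω a M z)
include h

theorem of_invol' {u : G} (hu1 : u ≠ 1) (hu : u * u = 1) (hua : u • a = a) : TI1 G Ω a M u :=
  ⟨h.toTI0.of_invol hu1 hu hua, h.many⟩

omit [Finite G] in
theorem exists_swap {b : Ω} (hb : b ≠ a) : ∃ u : G, u * u = 1 ∧ u • a = b ∧ u • b = a ∧
    ∀ n : G, n • a = a → ∃ x ∈ M, ∃ k : G, k • a = a ∧ k • b = b ∧ u * k * u = k⁻¹ ∧ n = x * k := by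
  obtain ⟨g, rfl⟩ := h.tr b
  have key : ∀ n : G, n • a = a → ∃ x ∈ M, x * (n * g⁻¹) * (x * (n * g⁻¹)) = 1 ∧
      (x * (n * g⁻¹)) • a = g • a ∧ (x * (n * g⁻¹)) • g • a = a := fun n hn => by
    obtain ⟨x, hx, e⟩ := h.many (n * g⁻¹) (fun e => hb (by
      rw [mul_smul, ← eq_inv_smul_iff, inv_smul_eq_iff, inv_smul_eq_iff.2 hn.symm] at e
      exact e.symm))
    have h1 : (x * (n * g⁻¹)) • g • a = a := by
      rw [mul_smul, mul_smul, inv_smul_smul, hn, h.fix x hx]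
    refine ⟨x, hx, e, ?_, h1⟩
    conv_lhs => rw [← h1]
    rw [← mul_smul, e, one_smul]
  obtain ⟨x1, hx1, e1, f1, g1⟩ := key 1 (one_smul _ _)
  rw [one_mul] at e1 f1 g1
  refine ⟨_, e1, f1, g1, fun n hn => ?_⟩
  obtain ⟨x, hx, e, f, g'⟩ := key n hn
  have hi := inv_eq_of_mul_eq_one_right e1
  have hka : (x * (n * g⁻¹) * (x1 * g⁻¹)) • a = a := by rw [mul_smul, f1, g']
  refine ⟨x⁻¹ * ((x * (n * g⁻¹) * (x1 * g⁻¹)) * x1 * (x * (n * g⁻¹) * (x1 * g⁻¹))⁻¹),
    mul_mem (inv_mem hx) (h.conj _ hka x1 hx1), x * (n * g⁻¹) * (x1 * g⁻¹), hka,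
    by rw [mul_smul, g1, f], ?_, ?_⟩
  · rw [mul_inv_rev, hi, inv_eq_of_mul_eq_one_right e]
    generalize x1 * g⁻¹ = u at e1
    rw [mul_assoc, mul_assoc, e1, mul_one]
  · conv_rhs => rw [← hi]
    group

theorem free {b : Ω} (hb : b ≠ a) {x : G} (hx : x ∈ M) (e : x • b = b) : x = 1 := by
  obtain ⟨u, uu, ua, ub, hu⟩ := h.exists_swap hb
  have hi := inv_eq_of_mul_eq_one_right uu
  obtain ⟨y, hy, w, wa, wb, -, e1⟩ := hu z h.za
  have hw : w = y⁻¹ * z := by rw [e1]; group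
  have ww : w * w = 1 := by
    rw [hw, mul_assoc, ← mul_assoc z, h.inverts h.z1 h.zz h.za (inv_mem hy)]; group
  have w1 : w ≠ 1 := fun e2 => by
    rw [e2, mul_one] at e1
    exact h.z1 (h.sq_one (e1 ▸ hy) h.zz)
  have h1 := h.inverts (u := u * w * u) (fun e2 => w1 (by
      calc w = u⁻¹ * (u * w * u) * u⁻¹ := by group
        _ = 1 := by rw [e2, hi, mul_one, uu]))
    (by calc _ = u * w * (u * u) * w * u := by group
      _ = 1 := by rw [uu, mul_one, mul_assoc u, ww, mul_one, uu])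
    (by rw [mul_smul, mul_smul, ua, wb, ub]) hx
  obtain ⟨x', hx', k, hk, e2⟩ := (h.of_invol w1 ww wa).fac (u * x * u)
    (by rw [mul_smul, mul_smul, ua, e, ub])
  have hka : k • a = a := by
    have : k = x'⁻¹ * (u * x * u) := by rw [e2]; group
    rw [this, mul_smul, mul_smul, mul_smul, ua, e, ub, h.fix _ (inv_mem hx')]
  have h2 : w * (u * x * u) * w = (u * x * u)⁻¹ := by
    calc _ = u⁻¹ * (u * w * u * x * (u * w * u)) * u⁻¹ := by group
      _ = _ := by rw [h1]; group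
  have h3 : u * (x * x) * u⁻¹ ∈ M := by
    have h4 : w * (u * x * u) * w = x'⁻¹ * k := by
      rw [e2, ← h.inverts w1 ww wa hx']
      calc w * (x' * k) * w = w * x' * (k * w) := by group
        _ = _ := by rw [hk]; group
    have h5 : u * (x * x) * u⁻¹ = (u * x * u) * (u * x * u) := by
      rw [hi]
      calc _ = u * x * 1 * x * u := by group
        _ = _ := by rw [← uu]; simp only [mul_assoc]
    rw [h5]
    nth_rewrite 2 [← inv_inv (u * x * u)]
    rw [← h2, h4, e2, show x' * k * (x'⁻¹ * k)⁻¹ = x' * x' by group]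
    exact mul_mem hx' hx'
  exact h.sq_one hx (h.ti u (ua ▸ hb) _ (mul_mem hx hx) h3)

theorem swap_inv0 {b : Ω} (hb : b ≠ a) : ∃ u : G, u * u = 1 ∧ u • a = b ∧ u • b = a ∧
    ∀ k : G, k • a = a → k • b = b → u * k * u = k⁻¹ := by
  obtain ⟨u, uu, ua, ub, hu⟩ := h.exists_swap hb
  refine ⟨u, uu, ua, ub, fun k ka kb => ?_⟩
  obtain ⟨x, hx, l, -, lb, e, rfl⟩ := hu k ka
  rw [mul_smul, lb] at kb
  rw [h.free hb hx kb, one_mul, e]

theorem swap {c d : Ω} (hcd : c ≠ d) : ∃ u : G, u * u = 1 ∧ u • c = d ∧ u • d = c ∧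
    ∀ k : G, k • c = c → k • d = d → u * k * u = k⁻¹ := by
  obtain ⟨g, rfl⟩ := h.tr c
  obtain ⟨u, uu, ua, ub, hu⟩ := h.swap_inv0 (b := g⁻¹ • d)
    (fun e => hcd (by rw [← e, smul_inv_smul]))
  refine ⟨g * u * g⁻¹, ?_, ?_, ?_, fun k kc kd => ?_⟩
  · calc _ = g * (u * u) * g⁻¹ := by group
      _ = 1 := by rw [uu]; group
  · rw [mul_smul, mul_smul, inv_smul_smul, ua, smul_inv_smul]
  · rw [mul_smul, mul_smul, ub]
  · have := hu (g⁻¹ * k * g) (by rw [mul_smul, mul_smul, kc, inv_smul_smul])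
      (by rw [mul_smul, mul_smul, smul_inv_smul, kd])
    calc _ = g * (u * (g⁻¹ * k * g) * u) * g⁻¹ := by group
      _ = _ := by rw [this]; group

theorem swap_sq {c d : Ω} (hcd : c ≠ d) {w : G} (h1 : w • c = d) (h2 : w • d = c) : w * w = 1 := by
  obtain ⟨u, uu, uc, ud, hu⟩ := h.swap hcd
  have := hu (u * w) (by rw [mul_smul, h1, ud]) (by rw [mul_smul, h2, uc])
  rw [← mul_assoc, uu, one_mul, mul_inv_rev, inv_eq_of_mul_eq_one_right uu, mul_left_inj] at this
  exact mul_eq_one_iff_eq_inv.2 this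

theorem swap_inv {c d : Ω} (hcd : c ≠ d) {w x : G} (h1 : w • c = d) (h2 : w • d = c)
    (hc : x • c = c) (hd : x • d = d) : w * x = x⁻¹ * w := by
  have e1 := h.swap_sq hcd h1 h2
  have e2 := h.swap_sq hcd (w := w * x) (by rw [mul_smul, hc, h1]) (by rw [mul_smul, hd, h2])
  calc w * x = (w * x * (w * x)) * x⁻¹ * w⁻¹ := by group
    _ = x⁻¹ * w := by rw [e2, ← eq_inv_of_mul_eq_one_left e1, one_mul]

theorem H_comm {c d : Ω} (hcd : c ≠ d) {x y : G} (ha : x • c = c) (hb : x • d = d)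
    (ha' : y • c = c) (hb' : y • d = d) : x * y = y * x := by
  obtain ⟨w, -, h1, h2, -⟩ := h.swap hcd
  have e1 := h.swap_inv hcd h1 h2 ha hb
  have e2 := h.swap_inv hcd h1 h2 ha' hb'
  have e3 := h.swap_inv hcd h1 h2 (x := x * y) (by rw [mul_smul, ha', ha])
    (by rw [mul_smul, hb', hb])
  rw [← mul_assoc, e1, mul_assoc, e2, ← mul_assoc, mul_left_inj] at e3
  rw [← inv_inj, ← e3, mul_inv_rev]

omit [Finite G] in
theorem dec {b : Ω} (hb : b ≠ a) {n : G} (hn : n • a = a) :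
    ∃ x ∈ M, ∃ k : G, k • a = a ∧ k • b = b ∧ n = x * k := by
  obtain ⟨u, -, -, -, hu⟩ := h.exists_swap hb
  obtain ⟨x, hx, k, h1, h2, -, h3⟩ := hu n hn
  exact ⟨x, hx, k, h1, h2, h3⟩

theorem exists_invol {c d : Ω} (hcd : c ≠ d) :
    ∃ w : G, (∃ k : G, k⁻¹ * z * k = w) ∧ w • c = c ∧ w • d = d := by
  obtain ⟨g, rfl⟩ := h.tr c
  obtain ⟨y, hy, w, wa, wb, e1⟩ := h.dec (b := g⁻¹ • d)
    (fun e => hcd (by rw [← e, smul_inv_smul])) h.za
  have hw : w = y⁻¹ * z := by rw [e1]; group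
  have ww : w * w = 1 := by
    rw [hw, mul_assoc, ← mul_assoc z, h.inverts h.z1 h.zz h.za (inv_mem hy)]; group
  have w1 : w ≠ 1 := fun e2 => by
    rw [e2, mul_one] at e1
    exact h.z1 (h.sq_one (e1 ▸ hy) h.zz)
  obtain ⟨x, -, e⟩ := h.exists_conj w1 ww wa
  refine ⟨g * w * g⁻¹, ⟨(g * x)⁻¹, by rw [← e]; group⟩, ?_, ?_⟩
  · rw [mul_smul, mul_smul, inv_smul_smul, wa]
  · rw [mul_smul, mul_smul, wb, smul_inv_smul]

theorem invol_unique {c d : Ω} (hcd : c ≠ d) {v w : G} (v1 : v ≠ 1) (vv : v * v = 1)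
    (w1 : w ≠ 1) (ww : w * w = 1) (vc : v • c = c) (vd : v • d = d) (wc : w • c = c)
    (wd : w • d = d) : v = w := by
  obtain ⟨g, rfl⟩ := h.tr c
  have hc : ∀ {v : G}, v ≠ 1 → v * v = 1 → v • g • a = g • a →
      g⁻¹ * v * g ≠ 1 ∧ g⁻¹ * v * g * (g⁻¹ * v * g) = 1 ∧ (g⁻¹ * v * g) • a = a :=
    fun {v} v1 vv vc => ⟨conj_ne_one v1 g, by
      calc _ = g⁻¹ * (v * v) * g := by group
        _ = 1 := by rw [vv]; group, by rw [mul_smul, mul_smul, vc, inv_smul_smul]⟩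
  obtain ⟨p1, p2, p3⟩ := hc v1 vv vc
  obtain ⟨q1, q2, q3⟩ := hc w1 ww wc
  have h1 := h.free (b := g⁻¹ • d) (fun e => hcd (by rw [← e, smul_inv_smul]))
    ((h.toTI0.of_invol q1 q2 q3).mul_z_mem p1 p2 p3) (by
      simp only [mul_smul, smul_inv_smul, wd, vd])
  rw [← inv_eq_of_mul_eq_one_right q2, mul_inv_eq_one] at h1
  simpa using h1

end TI1

end Cfsg.Agent.H12
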