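/-
A TI-subgroup inverted by an involution, many involutions: counting and the doubly transitive case.
-/
import Cfsg.Agent.H12.TIInv
import Cfsg.Agent.H12.TwoTr
import Cfsg.Agent.H12.ZassOdd
import Cfsg.Agent.H26.ZassPSL
import Cfsg.Agent.H26.ZassCard
import Cfsg.Agent.H26.ZassLarge

set_option autoImplicit false

namespace Cfsg.Agent.H12

open Cfsg MulAction

theorem card_conj_mul {G : Type*} [Group G] [Finite G] (t : G) :
    Nat.card {s // ∃ k : G, k⁻¹ * t * k = s} * Nat.card (Subgroup.centralizer ({t} : Set G)) =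
      Nat.card G := by
  have h1 := card_pre_fiber (fun k : G => k⁻¹ * t * k)
    (Nat.card (Subgroup.centralizer ({t} : Set G))) (fun l => by
      refine Nat.card_congr
        { toFun := fun l' => ⟨l'.1 * l⁻¹, Subgroup.mem_centralizer_singleton_iff.2 ?_⟩
          invFun := fun c => ⟨c.1 * l, ?_⟩
          left_inv := fun l' => Subtype.ext (by simp)
          right_inv := fun c => Subtype.ext (by simp) }
      · obtain ⟨m, this⟩ := l'
        calc m * l⁻¹ * t = m * (l⁻¹ * t * l) * l⁻¹ := by group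
          _ = t * (m * l⁻¹) := by rw [← this]; group
      · have := Subgroup.mem_centralizer_singleton_iff.1 c.2
        calc (c.1 * l)⁻¹ * t * (c.1 * l) = l⁻¹ * c.1⁻¹ * (t * c.1) * l := by group
          _ = l⁻¹ * t * l := by rw [← this]; group) (fun _ => True)
  rw [Nat.card_congr (Equiv.subtypeUnivEquiv fun _ => trivial)] at h1
  rw [h1]
  congr 1
  exact Nat.card_congr (Equiv.subtypeEquivRight fun x => by simp)

theorem card_ne_point {Ω : Type*} [Finite Ω] (a : Ω) :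
    Nat.card {d : Ω // d ≠ a} + 1 = Nat.card Ω := by
  classical
  have := Fintype.ofFinite Ω
  have h : 0 < Fintype.card Ω := Fintype.card_pos_iff.2 ⟨a⟩
  simp [Nat.card_eq_fintype_card]
  omega

theorem card_eq_mul_stab {G Ω : Type*} [Group G] [MulAction G Ω] {a : Ω}
    (tr : ∀ c : Ω, ∃ g : G, g • a = c) :
    Nat.card G = Nat.card Ω * Nat.card (stabilizer G a) := by
  have : IsPretransitive G Ω := ⟨fun x y => by
    obtain ⟨g, rfl⟩ := tr x
    obtain ⟨k, rfl⟩ := tr y
    exact ⟨k * g⁻¹, by rw [mul_smul, inv_smul_smul]⟩⟩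
  rw [← index_stabilizer_of_transitive G a, mul_comm, Subgroup.card_mul_index]

namespace TI1

variable {G Ω : Type*} [Group G] [Finite G] [MulAction G Ω] {a : Ω} {M : Subgroup G} {z : G}
  (h : TI1 G Ω a M z)
include h

theorem finite : Finite Ω := Finite.of_surjective (fun g : G => g • a) h.tr

theorem cent_fix {k : G} (ka : k • a = a) (hk : k * z = z * k) {c : Ω} (hc : z • c = c) :
    k • c = c := by
  by_cases e : c = a
  · rw [e, ka]
  obtain ⟨x, hx, l, la, lc, rfl⟩ := h.dec e ka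
  have h1 := h.H_comm e lc la hc h.za
  rw [mul_assoc, h1, ← mul_assoc, ← mul_assoc, mul_left_inj] at hk
  rw [h.eq_one_of_comm h.z1 h.zz hx hk.symm, one_mul, lc]

theorem exists_orbit {c : Ω} (hc : c ≠ a) : ∃ x ∈ M, ∃ d : Ω, z • d = d ∧ d ≠ a ∧ x • d = c := by
  obtain ⟨w, ⟨k, hk⟩, wc, wa⟩ := h.exists_invol hc
  obtain ⟨y, hy, e⟩ := h.exists_conj (u := w) (hk ▸ conj_ne_one h.z1 k) (by
    rw [← hk]
    calc _ = k⁻¹ * (z * z) * k := by group
      _ = 1 := by rw [h.zz]; group) wa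
  refine ⟨y, hy, y⁻¹ • c, ?_, sp_smul_ne (h.fix _ (inv_mem hy)) hc, smul_inv_smul _ _⟩
  rw [← e, mul_smul, mul_smul] at wc
  exact eq_inv_smul_iff.2 wc

theorem card_Ω : Nat.card Ω = Nat.card M * (Nat.card {c : Ω // z • c = c} - 1) + 1 := by
  have := h.finite
  have h1 : Nat.card {d : {c : Ω // z • c = c} // d ≠ ⟨a, h.za⟩} =
      Nat.card {c : Ω // z • c = c} - 1 := by
    rw [← card_ne_point (⟨a, h.za⟩ : {c : Ω // z • c = c})]; rfl
  rw [← card_ne_point a, ← h1, ← Nat.card_prod]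
  congr 1
  refine (Nat.card_eq_of_bijective (fun p : M × {d : {c : Ω // z • c = c} // d ≠ ⟨a, h.za⟩} =>
    (⟨(p.1 : G) • p.2.1.1, sp_smul_ne (h.fix _ p.1.2) fun e => p.2.2 (Subtype.ext e)⟩ :
      {d : Ω // d ≠ a})) ⟨?_, ?_⟩).symm
  · rintro ⟨x, ⟨c, hc⟩, hca⟩ ⟨y, ⟨d, hd⟩, hda⟩ e
    have e' : (x : G) • c = (y : G) • d := congrArg Subtype.val e
    have e1 : ((y : G)⁻¹ * x) • c = d := by rw [mul_smul, e', inv_smul_smul]
    have hv : (y : G)⁻¹ * x ∈ M := mul_mem (inv_mem y.2) x.2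
    have e2 : (y : G)⁻¹ * x = 1 := by
      generalize (y : G)⁻¹ * x = v at e1 hv
      refine h.sq_one hv (h.free (fun e => hca (Subtype.ext e)) (mul_mem hv hv) ?_)
      have := h.inverts h.z1 h.zz h.za hv
      have h1 : v⁻¹ • c = d := by rw [← this, mul_smul, mul_smul, hc, e1, hd]
      rw [mul_smul, e1, ← h1, smul_inv_smul]
    rw [e2, one_smul] at e1
    subst e1
    exact Prod.ext (Subtype.ext (inv_mul_eq_one.1 e2).symm) rfl
  · rintro ⟨c, hc⟩
    obtain ⟨x, hx, d, hd, hda, rfl⟩ := h.exists_orbit hc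
    exact ⟨(⟨x, hx⟩, ⟨⟨d, hd⟩, fun e => hda (congrArg Subtype.val e)⟩), rfl⟩

theorem card_stab {b : Ω} (hb : b ≠ a) :
    Nat.card (stabilizer G a) = Nat.card M * Nat.card (Hs G a b) := by
  rw [← Nat.card_prod]
  refine (Nat.card_eq_of_bijective (fun p : M × Hs G a b => (⟨p.1 * p.2,
    mul_mem (h.fix _ p.1.2) p.2.2.1⟩ : stabilizer G a)) ⟨?_, ?_⟩).symm
  · rintro ⟨x, k⟩ ⟨y, l⟩ e
    have e' : (x : G) * k = y * l := congrArg Subtype.val e
    have e1 : (y : G)⁻¹ * x = 1 := h.free hb (mul_mem (inv_mem y.2) x.2) (by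
      have := congrArg (· • b) e'
      simp only [mul_smul] at this
      rw [show (k : G) • b = b from k.2.2, show (l : G) • b = b from l.2.2] at this
      rw [mul_smul, this, inv_smul_smul])
    have e2 : (x : G) = y := (inv_mul_eq_one.1 e1).symm
    rw [e2] at e'
    exact Prod.ext (Subtype.ext e2) (Subtype.ext (mul_left_cancel e'))
  · rintro ⟨n, hn⟩
    obtain ⟨x, hx, k, ka, kb, rfl⟩ := h.dec hb hn
    exact ⟨(⟨x, hx⟩, ⟨k, ka, kb⟩), rfl⟩

theorem sq_of_three {b : Ω} (hb : b ≠ a) {g x : G} (ga : g • a = a) (gb : g • b = b) (hx : x ∈ M)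
    (hx1 : x ≠ 1) (gc : g • x • b = x • b) : g * g = 1 := by
  have hgx : g * x = x * g := by
    have := h.free hb (mul_mem (inv_mem hx) (h.conj g ga x hx)) (by
      rw [mul_smul, mul_smul, mul_smul, inv_smul_eq_iff.2 gb.symm, gc, inv_smul_smul])
    rw [inv_mul_eq_one, eq_mul_inv_iff_mul_eq] at this
    exact this.symm
  obtain ⟨u, uu, ua, ub, hu⟩ := h.swap_inv0 hb
  have hi := inv_eq_of_mul_eq_one_right uu
  have h1 := hu g ga gb
  have hc : Commute g (u * x * u) := by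
    have h2 : Commute g⁻¹ x := (show Commute g x from hgx).inv_left
    rw [← h1] at h2
    calc g * (u * x * u) = u⁻¹ * (u * g * u * x) * u := by group
      _ = u * x * (u * g * (u * u)) := by rw [h2.eq, hi]; group
      _ = _ := by rw [uu]; group
  have hd : (u * x * u) • a ≠ a := fun e => by
    rw [mul_smul, mul_smul, ua, ← eq_inv_smul_iff, hi, ua] at e
    exact hx1 (h.free hb hx e)
  have gd : g • (u * x * u) • a = (u * x * u) • a := by rw [← mul_smul, hc.eq, mul_smul, ga]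
  obtain ⟨v, -, va, vd, -⟩ := h.swap_inv0 hd
  have h3 := h.swap_inv hd vd va gd ga
  obtain ⟨y, hy, k, ka, kb, e⟩ := h.dec hb (n := v * (u * x * u)) (by rw [mul_smul, vd])
  have h4 := h.H_comm hb kb ka gb ga
  have h5 : y * k * g = g⁻¹ * (y * k) := by
    rw [← e, mul_assoc, ← hc.eq, ← mul_assoc, h3, mul_assoc]
  rw [mul_assoc, h4, ← mul_assoc, ← mul_assoc, mul_left_inj] at h5
  refine h.free hb (x := g * g) ?_ (by rw [mul_smul, gb, gb])
  have : g * g = (g * y * g⁻¹)⁻¹ * y := by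
    calc g * g = (g * y * g⁻¹)⁻¹ * g * (y * g) := by group
      _ = _ := by rw [h5]; group
  rw [this]
  exact mul_mem (inv_mem (h.conj g ga y hy)) hy

theorem zt {b : Ω} (hb : b ≠ a) (zb : z • b = b) (h2 : ∀ c : Ω, z • c = c → c = a ∨ c = b) :
    ZT G Ω := by
  have htr : ∀ c : Ω, c ≠ a → ∃ x ∈ M, x • b = c := fun c hc => by
    obtain ⟨x, hx, d, hd, hda, rfl⟩ := h.exists_orbit hc
    exact ⟨x, hx, by rw [(h2 d hd).resolve_left hda]⟩
  have two0 : ∀ {c d : Ω}, c ≠ d → ∃ g : G, g • a = c ∧ g • b = d := fun {c d} hcd => by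
    obtain ⟨g, rfl⟩ := h.tr c
    obtain ⟨x, hx, e⟩ := htr (g⁻¹ • d) (fun e => hcd (by rw [← e, smul_inv_smul]))
    exact ⟨g * x, by rw [mul_smul, h.fix x hx], by rw [mul_smul, e, smul_inv_smul]⟩
  have three0 : ∀ (g : G) {c : Ω}, b ≠ c → a ≠ c → g • a = a → g • b = b → g • c = c → g = 1 :=
    fun g c hbc hac ga gb gc => by
      by_contra g1
      obtain ⟨x, hx, rfl⟩ := htr c hac.symm
      have := h.sq_of_three hb ga gb hx (by rintro rfl; exact hbc (by simp)) gc
      rw [h.invol_unique hb g1 this h.z1 h.zz gb ga zb h.za] at gc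
      rcases h2 _ gc with e | e
      · exact hac e.symm
      · exact hbc e.symm
  refine ⟨fun g hg => ?_, fun hab hcd => ?_, fun g c d e hcd hde hce gc gd ge => ?_⟩
  · obtain ⟨x, hx, hx1⟩ := h.ne
    exact three0 g (c := x • b) (fun e => hx1 (h.free hb hx e.symm))
      (sp_smul_ne (h.fix x hx) hb).symm (hg _) (hg _) (hg _)
  · obtain ⟨g, rfl, rfl⟩ := two0 hab
    obtain ⟨k, rfl, rfl⟩ := two0 hcd
    exact ⟨k * g⁻¹, by rw [mul_smul, inv_smul_smul], by rw [mul_smul, inv_smul_smul]⟩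
  · obtain ⟨k, rfl, rfl⟩ := two0 hcd
    by_contra g1
    exact conj_ne_one g1 k (three0 _ (c := k⁻¹ • e)
      (fun e' => hde (by rw [e', smul_inv_smul])) (fun e' => hce (by rw [e', smul_inv_smul]))
      (by rw [mul_smul, mul_smul, gc, inv_smul_smul])
      (by rw [mul_smul, mul_smul, gd, inv_smul_smul])
      (by rw [mul_smul, mul_smul, smul_inv_smul, ge]))

theorem case_two {b : Ω} (hb : b ≠ a) (zb : z • b = b)
    (h2 : ∀ c : Ω, z • c = c → c = a ∨ c = b) :
    ∃ (F : Type) (_ : Field F) (_ : Fintype F) (p : ℕ) (_ : Fact p.Prime) (_ : CharP F p),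
      Fintype.card F = Nat.card M ∧ Cfsg.IsElementaryAbelian p M ∧
      (Nonempty (G ≃* (GL (Fin 2) F ⧸ Subgroup.center (GL (Fin 2) F))) ∨
        (Fintype.card F % 4 = 1 ∧
          Nonempty (G ≃* Matrix.ProjectiveSpecialLinearGroup (Fin 2) F))) := by
  classical
  have := h.finite
  have hT := h.zt hb zb h2
  have hc : Nat.card M + 1 = Nat.card Ω := by
    rw [h.card_Ω, hT.card_fixed_eq_two h.z1 hb zb h.za]; simp
  have hM : M = zker G a := hT.eq_ker_of_card hb h.fix hc fun u hu hu1 c e => by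
    by_contra hca
    exact hu1 (h.free hca hu e)
  obtain ⟨x, hx, hx1⟩ := h.ne
  have hca : x • b ≠ a := sp_smul_ne (h.fix x hx) hb
  have hcb : x • b ≠ b := fun e => hx1 (h.free hb hx e)
  have he : Even (Nat.card (stabilizer G a ⊓ stabilizer G b : Subgroup G)) := by
    have h1 : orderOf z = 2 := orderOf_eq_prime (by rw [sq, h.zz]) h.z1
    rw [even_iff_two_dvd, ← h1]
    exact Subgroup.orderOf_dvd_natCard _ (show z ∈ stabilizer G a ⊓ stabilizer G b from ⟨h.za, zb⟩)
  obtain ⟨s, ss, sa, sb, hs⟩ := h.swap_inv0 hb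
  have hge : Nat.card Ω - 2 ≤ 2 * Nat.card (stabilizer G a ⊓ stabilizer G b : Subgroup G) := by
    have := Fintype.ofFinite G
    have := Fintype.ofFinite Ω
    have hcard : (Finset.univ.filter (· ∈ stabilizer G a ⊓ stabilizer G b)).card =
        Nat.card (stabilizer G a ⊓ stabilizer G b : Subgroup G) := by
      rw [Nat.card_eq_fintype_card, Fintype.card_subtype]
    rw [← hcard, Nat.card_eq_fintype_card]
    exact H26.card_le_two_mul (H26.zt_two hT) (H26.zt_fix3 hT) hb.symm he sa sb _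
      (fun h h1 h2 _ _ => Finset.mem_filter.2 ⟨Finset.mem_univ _, h1, h2⟩)
  obtain ⟨hcm, p, f, hp, hpow, hf⟩ := H26.ker_elementary_of_large hT hb.symm le_rfl hge
  rw [← hM] at hcm hpow
  have hEA : Cfsg.IsElementaryAbelian p M := ⟨H2.isMulCommutative_of_forall hcm, hpow⟩
  have hodd : Odd (Nat.card M) := by
    by_contra ho
    obtain ⟨t, ht, t1, tt⟩ := H26.exists_invol_mem (Nat.not_odd_iff_even.1 ho)
    exact t1 (h.sq_one ht tt)
  have hchar : ∀ (K : Type) [Field K] [Fintype K], Nat.card Ω = Nat.card K + 1 →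
      Fintype.card K = Nat.card M ∧ CharP K p := fun K _ _ hK => by
    rw [Nat.card_eq_fintype_card (α := K)] at hK
    refine ⟨by omega, ?_⟩
    obtain ⟨r, hr⟩ := CharP.exists K
    obtain ⟨n, hr', hn⟩ := FiniteField.card K r
    have : r ∣ p ^ f := by
      rw [show p ^ f = r ^ (n : ℕ) by omega]
      exact dvd_pow_self r n.2.ne'
    rwa [← (Nat.prime_dvd_prime_iff_eq hr' hp).1 (hr'.dvd_of_dvd_pow this)]
  by_cases hd : 2 * Nat.card (stabilizer G a ⊓ stabilizer G b : Subgroup G) ≤ Nat.card Ω - 2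
  · obtain ⟨K, _, _, hK, -, hsq, e⟩ := H26.psl_of_half_even hT hb.symm he hd
    obtain ⟨h1, h2⟩ := hchar K hK
    refine ⟨K, inferInstance, inferInstance, p, ⟨hp⟩, h2, h1, hEA, Or.inr ⟨?_, e⟩⟩
    have := FiniteField.isSquare_neg_one_iff.1 hsq
    rw [← h1, Nat.odd_iff] at hodd
    omega
  · obtain ⟨m, hm⟩ := H26.card_stab_dvd' (H26.zt_fix3 hT) hb.symm
    have h3 : m < 2 := by
      rw [hm, mul_comm 2, not_le] at hd
      exact Nat.lt_of_mul_lt_mul_left hd
    obtain ⟨K, _, _, hK, e⟩ := H26.pgl_of_inverted hT hb.symm hca hcb (by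
      rw [hm]; interval_cases m <;> omega) sa sb fun k hk => by
        rw [inv_eq_of_mul_eq_one_right ss]; exact hs k hk.1 hk.2
    obtain ⟨h1, h2⟩ := hchar K hK
    exact ⟨K, inferInstance, inferInstance, p, ⟨hp⟩, h2, h1, hEA, Or.inl e⟩

end TI1

end Cfsg.Agent.H12
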