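/-
Doubly transitive groups of degree `p² + 1`: normal subgroups of the point stabiliser.
-/
import Cfsg.Agent.H12.TwoTr
import Cfsg.Agent.H12.TIInv2
import Cfsg.Agent.H26.OnAbel

set_option autoImplicit false

namespace Cfsg.Agent.H12

open MulAction Cfsg.Agent.H26

variable {G Ω : Type*} [Group G] [MulAction G Ω]

/-- `M` is a normal subgroup of the stabiliser of `a`. -/
structure NS (a : Ω) (M : Subgroup G) : Prop where
  fix : ∀ m ∈ M, m • a = a
  conj : ∀ g : G, g • a = a → ∀ m ∈ M, g * m * g⁻¹ ∈ M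

theorem NS.conj' {a : Ω} {M : Subgroup G} (h : NS a M) {g : G} (hg : g • a = a) {m : G}
    (hm : m ∈ M) : g⁻¹ * m * g ∈ M := by
  simpa using h.conj g⁻¹ (inv_smul_eq_iff.2 hg.symm) m hm

theorem NS.inf {a : Ω} {M N : Subgroup G} (h : NS a M) (k : NS a N) : NS a (M ⊓ N) :=
  ⟨fun m hm => h.fix m hm.1, fun g hg m hm => ⟨h.conj g hg m hm.1, k.conj g hg m hm.2⟩⟩

theorem NS.stab (a : Ω) : NS a (stabilizer G a) :=
  ⟨fun _ hm => hm, fun _ hg _ hm => mul_mem (mul_mem hg hm) (inv_mem hg)⟩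

theorem NS.inf_cent {a : Ω} {M : Subgroup G} (h : NS a M) {X : Set G}
    (hX : ∀ g : G, g • a = a → ∀ x ∈ X, g⁻¹ * x * g ∈ X) : NS a (M ⊓ Subgroup.centralizer X) :=
  ⟨fun m hm => h.fix m hm.1, fun g hg m hm => ⟨h.conj g hg m hm.1, fun x hx => by
    have := hm.2 _ (hX g hg x hx)
    calc x * (g * m * g⁻¹) = g * (g⁻¹ * x * g * m) * g⁻¹ := by group
      _ = _ := by rw [this]; group⟩⟩

theorem NS.inf_cent' {a : Ω} {M N : Subgroup G} (h : NS a M) (k : NS a N) :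
    NS a (M ⊓ Subgroup.centralizer (N : Set G)) :=
  h.inf_cent fun _ hg _ hx => k.conj' hg hx

theorem NS.commutator {a : Ω} {M : Subgroup G} (h : NS a M) : NS a ⁅M, M⁆ := by
  refine ⟨fun m hm => h.fix m ((Subgroup.commutator_le.2 fun x hx y hy => ?_) hm), fun g hg m hm => ?_⟩
  · exact mul_mem (mul_mem (mul_mem hx hy) (inv_mem hx)) (inv_mem hy)
  · have : (⁅M, M⁆ : Subgroup G).map (MulAut.conj g).toMonoidHom ≤ ⁅M, M⁆ := by
      rw [Subgroup.map_commutator]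
      refine Subgroup.commutator_mono ?_ ?_ <;>
      · rintro _ ⟨x, hx, rfl⟩
        exact h.conj g hg x hx
    exact this ⟨m, hm, rfl⟩

/-- `M` is a minimal normal subgroup of the stabiliser of `a`. -/
structure MinNS (a : Ω) (M : Subgroup G) : Prop extends NS a M where
  ne : M ≠ ⊥
  min : ∀ L : Subgroup G, NS a L → L ≤ M → L ≠ ⊥ → L = M

theorem NS.exists_min [Finite G] {a : Ω} {M : Subgroup G} (h : NS a M) (hM : M ≠ ⊥) :
    ∃ E, E ≤ M ∧ MinNS a E := by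
  have hwf : WellFoundedLT (Subgroup G) := inferInstance
  obtain ⟨E, ⟨h1, h2, h3⟩, hmin⟩ := hwf.wf.has_min {E | NS a E ∧ E ≠ ⊥ ∧ E ≤ M} ⟨M, h, hM, le_rfl⟩
  refine ⟨E, h3, h1, h2, fun L hL hLE hL0 => ?_⟩
  by_contra hne
  exact hmin L ⟨hL, hL0, hLE.trans h3⟩ (lt_of_le_of_ne hLE hne)

theorem card_Orb_mul (K : Subgroup G) (c : Ω) :
    (Orb K c).ncard * Nat.card (K ⊓ stabilizer G c : Subgroup G) = Nat.card K := by
  rw [Orb_eq, ← Nat.card_coe_set_eq, card_orbit_mul_card_inf]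

theorem Orb_smul_mem {K : Subgroup G} {c d : Ω} (hd : d ∈ Orb K c) {k : G} (hk : k ∈ K) :
    k • d ∈ Orb K c := by
  obtain ⟨l, hl, rfl⟩ := hd
  exact ⟨k * l, mul_mem hk hl, mul_smul _ _ _⟩

theorem Orb_symm {K : Subgroup G} {c d : Ω} (hd : d ∈ Orb K c) : c ∈ Orb K d := by
  obtain ⟨l, hl, rfl⟩ := hd
  exact ⟨l⁻¹, inv_mem hl, inv_smul_smul _ _⟩

theorem Orb_trans {K : Subgroup G} {c d e : Ω} (hd : d ∈ Orb K c) (he : e ∈ Orb K d) :
    e ∈ Orb K c := by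
  obtain ⟨l, hl, rfl⟩ := he
  exact Orb_smul_mem hd hl

theorem Orb_eq_of_mem {K : Subgroup G} {c d : Ω} (hd : d ∈ Orb K c) : Orb K d = Orb K c :=
  Set.Subset.antisymm (fun _ he => Orb_trans hd he) fun _ he => Orb_trans (Orb_symm hd) he

theorem NS.smul_mem_Orb {a : Ω} {M : Subgroup G} (h : NS a M) {g : G} (hg : g • a = a) {c d : Ω}
    (hd : d ∈ Orb M c) : g • d ∈ Orb M (g • c) := by
  obtain ⟨m, hm, rfl⟩ := hd
  exact ⟨g * m * g⁻¹, h.conj g hg m hm, by rw [mul_smul, mul_smul, inv_smul_smul]⟩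

theorem NS.ne_of_mem_Orb {a : Ω} {M : Subgroup G} (h : NS a M) {c d : Ω} (hc : c ≠ a)
    (hd : d ∈ Orb M c) : d ≠ a := by
  obtain ⟨m, hm, rfl⟩ := hd
  exact smul_ne_of_fix (h.fix m hm) hc

/-- The stabiliser in `G_a` of the `M`-orbit of `c`. -/
def NS.bst {a : Ω} {M : Subgroup G} (h : NS a M) (c : Ω) : Subgroup G where
  carrier := {g | g • a = a ∧ g • c ∈ Orb M c}
  one_mem' := ⟨one_smul _ _, by rw [one_smul]; exact self_mem_Orb _ _⟩
  mul_mem' := by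
    rintro g k ⟨h1, h2⟩ ⟨h3, h4⟩
    exact ⟨by rw [mul_smul, h3, h1], by
      rw [mul_smul]; exact Orb_trans h2 (h.smul_mem_Orb h1 h4)⟩
  inv_mem' := by
    rintro g ⟨h1, h2⟩
    have h3 : g⁻¹ • a = a := inv_smul_eq_iff.2 h1.symm
    have := h.smul_mem_Orb h3 h2
    rw [inv_smul_smul] at this
    exact ⟨h3, Orb_symm this⟩

theorem NS.mem_bst {a : Ω} {M : Subgroup G} (h : NS a M) {c : Ω} {g : G} :
    g ∈ h.bst c ↔ g • a = a ∧ g • c ∈ Orb M c := Iff.rfl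

theorem NS.bst_smul {a : Ω} {M : Subgroup G} (h : NS a M) {c d : Ω} {g : G} (hg : g ∈ h.bst c)
    (hd : d ∈ Orb M c) : g • d ∈ Orb M c := Orb_trans hg.2 (h.smul_mem_Orb hg.1 hd)

theorem not_sq_add_one_eq {p q n : ℕ} (hp : p.Prime) (hq : 2 ≤ q) (hn : 3 ≤ n) :
    (p ^ 2 + 1) * (q - 1) ≠ q ^ n - 1 := by
  intro h
  obtain ⟨r, rfl⟩ : ∃ r, q = r + 1 := ⟨q - 1, by omega⟩
  obtain ⟨m, rfl⟩ : ∃ m, n = m + 2 := ⟨n - 2, by omega⟩
  have h0 : 0 < (r + 1) ^ (m + 2) := by positivity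
  have h1 : p ^ 2 * r + (r + 1) = (r + 1) ^ (m + 2) := by
    simp only [Nat.add_sub_cancel] at h
    have : (p ^ 2 + 1) * r = p ^ 2 * r + r := by ring
    omega
  have h2 : r + 1 ∣ p ^ 2 * r :=
    (Nat.dvd_add_left dvd_rfl).1 (h1 ▸ dvd_pow_self _ (by omega))
  have h3 : r + 1 ∣ p ^ 2 := Nat.Coprime.dvd_of_dvd_mul_right (by simp) h2
  obtain ⟨i, hi, e⟩ := (Nat.dvd_prime_pow hp).1 h3
  have hp2 := hp.two_le
  interval_cases i
  · rw [pow_zero] at e; omega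
  · rw [pow_one] at e
    rw [e] at h1
    have h4 : p ^ 2 ∣ p := (Nat.dvd_add_right (Dvd.intro r rfl)).1
      (by rw [h1]; exact pow_dvd_pow p (by omega))
    have := Nat.le_of_dvd hp.pos h4
    nlinarith
  · rw [← e] at h1
    have h4 : (r + 1) ^ 3 ≤ (r + 1) ^ (m + 2) := Nat.pow_le_pow_right (by omega) (by omega)
    have : 1 ≤ r := by omega
    nlinarith [Nat.mul_le_mul this this]

/-- A faithful doubly transitive group of degree `p² + 1`. -/
structure SQ (G Ω : Type*) [Group G] [MulAction G Ω] (p : ℕ) : Prop extends T2 G Ω where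
  prime : p.Prime
  card : Nat.card Ω = p ^ 2 + 1

namespace SQ

variable [Finite G] {p : ℕ} (h : SQ G Ω p)
include h

omit [Finite G] in
theorem finite : Finite Ω := Nat.finite_of_card_ne_zero (by rw [h.card]; omega)

omit [Finite G] in
theorem ncard_ne (a : Ω) : {c | c ≠ a}.ncard = p ^ 2 := by
  have := h.finite
  have h1 := card_ne_point a
  rw [h.card] at h1
  rw [← Nat.card_coe_set_eq]
  exact Nat.add_right_cancel h1

omit [Finite G] in
theorem exists_ne (a : Ω) : ∃ b, b ≠ a :=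
  Set.nonempty_of_ncard_ne_zero (s := {c | c ≠ a}) (by
    rw [h.ncard_ne]; exact pow_ne_zero _ h.prime.ne_zero)

omit [Finite G] in
theorem tr {a b c : Ω} (hb : b ≠ a) (hc : c ≠ a) : ∃ g : G, g • a = a ∧ g • b = c :=
  h.two hb.symm hc.symm

omit [Finite G] in
theorem card_stab {a b : Ω} (hb : b ≠ a) :
    Nat.card (stabilizer G a) = p ^ 2 * Nat.card (Hs G a b) := by
  rw [← card_Orb_mul _ b, ← h.ncard_ne a]
  congr 2
  exact Set.ext fun c => ⟨(NS.stab a).ne_of_mem_Orb hb, fun hc => h.tr hb hc⟩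

omit [Finite G] in
theorem card_G {a b : Ω} (hb : b ≠ a) :
    Nat.card G = (p ^ 2 + 1) * (p ^ 2 * Nat.card (Hs G a b)) := by
  rw [card_eq_mul_stab (h.trans a), h.card, h.card_stab hb]

theorem orb_dvd {a b : Ω} (hb : b ≠ a) {K : Subgroup G} (h1 : K ≤ stabilizer G a)
    (h2 : Hs G a b ≤ K) : (Orb K b).ncard ∣ p ^ 2 := by
  have h3 := card_Orb_mul K b
  rw [show K ⊓ stabilizer G b = Hs G a b from
    le_antisymm (inf_le_inf_right _ h1) (le_inf h2 inf_le_right)] at h3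
  have h4 := Subgroup.card_dvd_of_le h1
  rw [h.card_stab hb, ← h3] at h4
  exact Nat.dvd_of_mul_dvd_mul_right Nat.card_pos h4

/-- There are no lines. -/
theorem no_line {a b : Ω} (hb : b ≠ a) {K : Subgroup G} (h2 : Hs G a b ≤ K) :
    (Orb K a).ncard ≠ p + 1 := by
  intro e
  have h3 := card_Orb_mul K a
  obtain ⟨k, hk⟩ := Subgroup.card_dvd_of_le (le_inf h2 inf_le_left :
    Hs G a b ≤ K ⊓ stabilizer G a)
  have h4 := K.card_subgroup_dvd_card
  rw [h.card_G hb, ← h3, e, hk, ← mul_assoc, ← mul_assoc, mul_right_comm] at h4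
  have h5 : p + 1 ∣ (p ^ 2 + 1) * p ^ 2 :=
    (Dvd.intro _ rfl).trans (Nat.dvd_of_mul_dvd_mul_right Nat.card_pos h4)
  have h6 : p + 1 ∣ p ^ 2 + 1 := Nat.Coprime.dvd_of_dvd_mul_right (by simp) h5
  have hp := h.prime.two_le
  obtain ⟨r, rfl⟩ : ∃ r, p = r + 1 := ⟨p - 1, by omega⟩
  have h7 : r + 1 + 1 ∣ 2 := (Nat.dvd_add_right (Dvd.intro r rfl)).1
    (by rwa [show (r + 1) ^ 2 + 1 = (r + 1 + 1) * r + 2 by ring] at h6)
  have := Nat.le_of_dvd two_pos h7
  omega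

/-- O'Nan: abelian normal subgroups of the point stabiliser are semiregular. -/
theorem semireg {a : Ω} {M : Subgroup G} (hM : NS a M) (hc : ∀ x ∈ M, ∀ y ∈ M, x * y = y * x)
    {m : G} (hm : m ∈ M) {c : Ω} (hca : c ≠ a) (e : m • c = c) : m = 1 := by
  by_contra hm1
  have := h.finite
  obtain ⟨-, F, _, _, n, hn, -, -, -, h1⟩ :=
    psl_of_abelian h.two h.faith hM.fix hM.conj hc ⟨m, hm, hm1, c, hca, e⟩
  rw [h.card] at h1
  exact not_sq_add_one_eq h.prime Fintype.one_lt_card hn h1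

theorem card_semireg {a : Ω} {M : Subgroup G} (hM : NS a M)
    (hc : ∀ x ∈ M, ∀ y ∈ M, x * y = y * x) {c : Ω} (hca : c ≠ a) :
    Nat.card M = (Orb M c).ncard := by
  rw [← card_Orb_mul M c, show M ⊓ stabilizer G c = ⊥ from
    eq_bot_iff.2 fun m hm => h.semireg hM hc hm.1 hca hm.2, Subgroup.card_bot, mul_one]

omit [Finite G] in
theorem moves {a : Ω} {M : Subgroup G} (hM : NS a M) (hne : M ≠ ⊥) {c : Ω} (hc : c ≠ a) :
    ∃ m ∈ M, m • c ≠ c := by
  by_contra! hcon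
  refine hne (eq_bot_iff.2 fun m hm => h.faith m fun d => ?_)
  by_cases hd : d = a
  · rw [hd, hM.fix m hm]
  · obtain ⟨g, h1, rfl⟩ := h.tr hc hd
    have := hcon _ (hM.conj' h1 hm)
    rwa [mul_smul, mul_smul, inv_smul_eq_iff] at this

omit [Finite G] in
theorem eq_of_ncard {a : Ω} {X : Set Ω} (hX : ∀ c ∈ X, c ≠ a) (hc : p ^ 2 ≤ X.ncard) :
    ∀ c, c ≠ a → c ∈ X := by
  have := h.finite
  have h1 : X = {c | c ≠ a} := Set.eq_of_subset_of_ncard_le hX (by rwa [h.ncard_ne])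
  intro c hc
  rw [h1]
  exact hc

/-- The orbits of a normal subgroup of `G_a`. -/
theorem orb_cases {a : Ω} {M : Subgroup G} (hM : NS a M) (hne : M ≠ ⊥) :
    (∀ c, c ≠ a → (Orb M c).ncard = p) ∨ ∀ c d, c ≠ a → d ≠ a → d ∈ Orb M c := by
  have := h.finite
  rw [or_iff_not_imp_right]
  intro hcon c hc
  have h1 : Orb (hM.bst c) c = Orb M c := by
    refine Set.Subset.antisymm ?_
      (Orb_mono (fun m hm => hM.mem_bst.2 ⟨hM.fix m hm, m, hm, rfl⟩) c)
    rintro _ ⟨g, hg, rfl⟩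
    exact hg.2
  have h2 := h.orb_dvd hc (K := hM.bst c) (fun g hg => hg.1)
    fun g hg => ⟨hg.1, by rw [hg.2]; exact self_mem_Orb _ _⟩
  rw [h1] at h2
  obtain ⟨i, hi, e⟩ := (Nat.dvd_prime_pow h.prime).1 h2
  interval_cases i
  · obtain ⟨m, hm, hmc⟩ := h.moves hM hne hc
    obtain ⟨d, hd⟩ := Set.ncard_eq_one.1 e
    have h3 : m • c ∈ Orb M c := ⟨m, hm, rfl⟩
    have h4 := self_mem_Orb M c
    rw [hd] at h3 h4
    exact absurd (h3.trans h4.symm) hmc
  · rw [e, pow_one]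
  · have h3 := h.eq_of_ncard (fun d => hM.ne_of_mem_Orb hc) e.ge
    exact absurd (fun c' d hc' hd => Orb_trans (Orb_symm (h3 c' hc')) (h3 d hd)) hcon

/-- A Sylow subgroup of `G_a` containing a given `p`-subgroup; it is transitive on `Ω ∖ a`. -/
theorem exists_syl {a : Ω} {E : Subgroup G} (hE : E ≤ stabilizer G a) (hp : IsPGroup p E) :
    ∃ P : Subgroup G, E ≤ P ∧ P ≤ stabilizer G a ∧ IsPGroup p P ∧
      (∃ m, ¬ p ∣ m ∧ Nat.card (stabilizer G a) = Nat.card P * m) ∧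
      ∀ c d, c ≠ a → d ≠ a → d ∈ Orb P c := by
  have := Fact.mk h.prime
  obtain ⟨Q, hQ⟩ := (hp.comap_subtype (K := stabilizer G a)).exists_le_sylow
  have h1 : Nat.card (stabilizer G a) =
      Nat.card ((Q : Subgroup (stabilizer G a)).map (stabilizer G a).subtype) *
        (Q : Subgroup (stabilizer G a)).index := by
    rw [Subgroup.card_map_of_injective (Subgroup.subtype_injective _), Subgroup.card_mul_index]
  refine ⟨(Q : Subgroup (stabilizer G a)).map (stabilizer G a).subtype,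
    fun e he => ⟨⟨e, hE he⟩, hQ he, rfl⟩, Subgroup.map_subtype_le _, Q.2.map _,
    ⟨_, Q.not_dvd_index, h1⟩, fun c d hc hd => ?_⟩
  set P := (Q : Subgroup (stabilizer G a)).map (stabilizer G a).subtype
  have hP : P ≤ stabilizer G a := Subgroup.map_subtype_le _
  refine h.eq_of_ncard ?_ ?_ d hd
  · rintro _ ⟨g, hg, rfl⟩
    exact smul_ne_of_fix (hP hg) hc
  · obtain ⟨k, hk⟩ := Subgroup.card_dvd_of_le (inf_le_inf_right (stabilizer G c) hP)
    rw [h.card_stab hc, ← card_Orb_mul P c, Hs, hk, mul_left_comm, mul_right_comm, mul_comm] at h1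
    have h2 := Nat.eq_of_mul_eq_mul_right Nat.card_pos h1
    have := h.finite
    refine Nat.le_of_dvd ((Set.ncard_pos).2 ⟨c, self_mem_Orb _ _⟩) ?_
    exact Nat.Coprime.dvd_of_dvd_mul_right
      (Nat.Coprime.pow_left _ ((Nat.Prime.coprime_iff_not_dvd h.prime).2 Q.not_dvd_index))
      (Dvd.intro _ h2)

/-- In a transitive `p`-subgroup the stabiliser of a block fixes all blocks and has index `p`. -/
theorem blk {a b : Ω} (hb : b ≠ a) {M : Subgroup G} (hM : NS a M) (hMp : (Orb M b).ncard = p)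
    {P : Subgroup G} (hP : P ≤ stabilizer G a) (hp : IsPGroup p P)
    (htr : ∀ c d, c ≠ a → d ≠ a → d ∈ Orb P c) :
    (∀ x ∈ P, x ^ p ∈ hM.bst b) ∧ ∀ q ∈ P, q ∈ hM.bst b → ∀ c, c ≠ a → q ∈ hM.bst c := by
  have := Fact.mk h.prime
  set Q := (hM.bst b).subgroupOf P
  have h1 : Orb (P ⊓ hM.bst b) b = Orb M b := by
    refine Set.Subset.antisymm ?_ fun d hd => ?_
    · rintro _ ⟨g, hg, rfl⟩
      exact hg.2.2
    · obtain ⟨g, hg, rfl⟩ := htr b d hb (hM.ne_of_mem_Orb hb hd)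
      exact ⟨g, ⟨hg, hP hg, hd⟩, rfl⟩
  have h2 : Orb P b = {c | c ≠ a} := Set.ext fun c => ⟨by
    rintro ⟨g, hg, rfl⟩
    exact smul_ne_of_fix (hP hg) hb, fun hc => htr b c hb hc⟩
  have h3 := card_Orb_mul (P ⊓ hM.bst b) b
  have h4 := card_Orb_mul P b
  rw [h1, hMp, show P ⊓ hM.bst b ⊓ stabilizer G b = P ⊓ stabilizer G b from
    le_antisymm (inf_le_inf_right _ inf_le_left) fun g hg => ⟨⟨hg.1, hP hg.1, by
      rw [hg.2]; exact self_mem_Orb _ _⟩, hg.2⟩] at h3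
  rw [h2, h.ncard_ne] at h4
  have h5 : Nat.card Q = Nat.card (P ⊓ hM.bst b : Subgroup G) := by
    rw [← Subgroup.card_map_of_injective (Subgroup.subtype_injective P), Subgroup.subgroupOf_map_subtype,
      inf_comm]
  have h6 : Q.index = p := by
    have h7 := Q.card_mul_index
    rw [h5, ← h3, ← h4, sq, mul_right_comm] at h7
    exact Nat.eq_of_mul_eq_mul_left h.prime.pos (Nat.eq_of_mul_eq_mul_right Nat.card_pos h7)
  have h7 : Q.Normal := by
    apply Subgroup.normal_of_index_eq_minFac_card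
    obtain ⟨n, hn⟩ := IsPGroup.iff_card.1 hp
    have : n ≠ 0 := by
      rintro rfl
      have h8 := Q.index_dvd_card
      rw [h6, hn, pow_zero] at h8
      exact h.prime.one_lt.ne' (Nat.dvd_one.1 h8)
    rw [h6, hn, h.prime.pow_minFac this]
  refine ⟨fun x hx => ?_, fun q hq hq' c hc => ?_⟩
  · have := Q.pow_index_mem ⟨x, hx⟩
    rwa [h6] at this
  · obtain ⟨g, hg, rfl⟩ := htr b c hb hc
    have h8 : g⁻¹ * q * g ∈ hM.bst b := h7.conj_mem' (⟨q, hq⟩ : P) hq' ⟨g, hg⟩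
    have := hM.smul_mem_Orb (hP hg) h8.2
    rw [mul_smul, mul_smul, smul_inv_smul] at this
    exact ⟨hq'.1, this⟩

end SQ

end Cfsg.Agent.H12
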