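/-
Doubly transitive groups of degree `p² + 1`: an intransitive minimal normal subgroup of the point
stabiliser is abelian or faithful on its orbits.
-/
import Cfsg.Agent.H12.SqDeg1

set_option autoImplicit false

namespace Cfsg.Agent.H12

open MulAction Cfsg.Agent.H26
open scoped Pointwise

variable {G Ω : Type*} [Group G] [MulAction G Ω]

theorem comm_of_pow_conj {p : ℕ} (hp : p.Prime) {σ x : G} (hσ : σ ^ p = 1) {n : ℕ}
    (hx : x ^ p ^ n = 1) {k : ℕ} (e : x * σ * x⁻¹ = σ ^ k) : x * σ = σ * x := by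
  have := Fact.mk hp
  have h1 : ∀ m : ℕ, x ^ m * σ * (x ^ m)⁻¹ = σ ^ k ^ m := by
    intro m
    induction m with
    | zero => simp
    | succ m ih =>
      calc x ^ (m + 1) * σ * (x ^ (m + 1))⁻¹ = x * (x ^ m * σ * (x ^ m)⁻¹) * x⁻¹ := by group
        _ = _ := by rw [ih, ← conj_pow, e, ← pow_mul, pow_succ']
  have h2 := h1 (p ^ n)
  rw [hx, one_mul, inv_one, mul_one] at h2
  have h3 : σ ^ k ^ p ^ n = σ ^ k := pow_eq_pow_iff_modEq.2 (Nat.ModEq.of_dvd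
    (orderOf_dvd_of_pow_eq_one hσ) ((ZMod.natCast_eq_natCast_iff _ _ _).1 (by
      rw [Nat.cast_pow, ZMod.pow_card_pow])))
  rw [← h3, ← h2] at e
  exact mul_inv_eq_iff_eq_mul.1 e

theorem ncard_Orb_dvd [Finite Ω] {T S : Subgroup G} (hle : T ≤ S)
    (hn : ∀ s ∈ S, ∀ t ∈ T, s * t * s⁻¹ ∈ T) (c : Ω) : (Orb T c).ncard ∣ (Orb S c).ncard := by
  refine dvd_ncard_of_orbits (G := T) (Set.toFinite _) 
    (fun t y hy => Orb_smul_mem (k := (t : G)) hy (hle t.2)) ?_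
  rintro _ ⟨s, hs, rfl⟩
  rw [← Orb_eq, Nat.card_coe_set_eq, ← Set.ncard_smul_set s (Orb T c)]
  congr 1
  ext d
  rw [Set.mem_smul_set_iff_inv_smul_mem]
  constructor
  · rintro ⟨t, ht, rfl⟩
    exact ⟨s⁻¹ * t * s⁻¹⁻¹, hn _ (inv_mem hs) t ht, by rw [inv_inv, mul_smul, mul_smul]⟩
  · rintro ⟨t, ht, e⟩
    exact ⟨s * t * s⁻¹, hn s hs t ht, by rw [mul_smul, mul_smul, inv_smul_smul, e, smul_inv_smul]⟩

theorem Orb_eq_of_prime [Finite Ω] {T S : Subgroup G} (hle : T ≤ S)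
    (hn : ∀ s ∈ S, ∀ t ∈ T, s * t * s⁻¹ ∈ T) {c : Ω} (hp : (Orb S c).ncard.Prime) {t : G}
    (ht : t ∈ T) (htc : t • c ≠ c) : Orb T c = Orb S c := by
  refine Set.eq_of_subset_of_ncard_le (Orb_mono hle c) ?_
  rcases (Nat.dvd_prime hp).1 (ncard_Orb_dvd hle hn c) with e | e
  · obtain ⟨d, hd⟩ := Set.ncard_eq_one.1 e
    have h3 : t • c ∈ Orb T c := ⟨t, ht, rfl⟩
    have h4 := self_mem_Orb T c
    rw [hd] at h3 h4
    exact absurd (h3.trans h4.symm) htc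
  · exact e.ge

theorem MinNS.comm_of_center {a : Ω} {S : Subgroup G} (hS : MinNS a S) {t : G} (ht : t ∈ S)
    (ht1 : t ≠ 1) (hc : ∀ s ∈ S, s * t = t * s) : ∀ x ∈ S, ∀ y ∈ S, x * y = y * x := by
  have := hS.min _ (hS.toNS.inf_cent' hS.toNS) inf_le_left fun e => ht1 (by
    have : t ∈ S ⊓ Subgroup.centralizer (S : Set G) := ⟨ht, hc⟩
    rwa [e] at this)
  intro x hx y hy
  exact (this.ge hy).2 x hx

theorem comm_of_card_prime [Finite G] {T : Subgroup G} (h : (Nat.card T).Prime) :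
    ∀ x ∈ T, ∀ y ∈ T, x * y = y * x := fun x hx y hy => by
  have := Fact.mk h
  have := isCyclic_of_prime_card (α := T) rfl
  exact congrArg Subtype.val (this.isMulCommutative.is_comm.comm (⟨x, hx⟩ : T) ⟨y, hy⟩)

namespace SQ

variable [Finite G] {p : ℕ} (h : SQ G Ω p)
include h

omit [Finite G] in
/-- Jordan's theorem. -/
theorem prim_of_support (a : Ω) {F : Set Ω} (hF : Fᶜ.ncard = p) {T : Subgroup G}
    (hT : ∀ t ∈ T, ∀ c ∈ F, t • c = c) {b : Ω} (hb : Orb T b = Fᶜ) :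
    IsPreprimitive (stabilizer G a) (SubMulAction.ofStabilizer G a) := by
  have := h.finite
  have h2 := h.mathlib
  have hG : IsPreprimitive G Ω := isPreprimitive_of_is_two_pretransitive h2
  have hc := Set.ncard_add_ncard_compl F
  rw [hF, h.card] at hc
  have hp := h.prime.two_le
  have h3 : IsPretransitive (fixingSubgroup G F) (SubMulAction.ofFixingSubgroup G F) := by
    refine ⟨fun x y => ?_⟩
    have hx : (x : Ω) ∈ Orb T b := hb ▸ x.2
    have hy : (y : Ω) ∈ Orb T b := hb ▸ y.2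
    obtain ⟨t, ht, e⟩ := Orb_trans (Orb_symm hx) hy
    exact ⟨⟨t, (mem_fixingSubgroup_iff G).2 (hT t ht)⟩, Subtype.ext e⟩
  have h4 : IsPreprimitive (fixingSubgroup G F) (SubMulAction.ofFixingSubgroup G F) :=
    IsPreprimitive.of_prime_card (by
      have : Nat.card (SubMulAction.ofFixingSubgroup G F) = Fᶜ.ncard := rfl
      rw [this, hF]; exact h.prime)
  have h6 : 1 ≤ F.ncard := by nlinarith
  have h5 := hG.is_two_preprimitive (s := F) (n := F.ncard - 1) (by omega) (by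
      rw [h.card]
      omega) h4
  exact (is_one_preprimitive_iff _ _).1 (isMultiplyPreprimitive_ofStabilizer G Ω (n := 1))

theorem faithful_orb {a : Ω}
    (hnp : ¬ IsPreprimitive (stabilizer G a) (SubMulAction.ofStabilizer G a)) {S : Subgroup G}
    (hS : MinNS a S) (ho : ∀ c, c ≠ a → (Orb S c).ncard = p)
    (hna : ¬ ∀ x ∈ S, ∀ y ∈ S, x * y = y * x) {c : Ω} (hc : c ≠ a) {s : G} (hs : s ∈ S)
    (hsc : ∀ d ∈ Orb S c, s • d = d) : s = 1 := by
  have := h.finite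
  let Good : Set (Set Ω) :=
    {F | (∀ s ∈ S, ∀ c ∈ F, s • c ∈ F) ∧ ∃ t ∈ S, t ≠ 1 ∧ ∀ c ∈ F, t • c = c}
  obtain ⟨⟨t₀, ht₀⟩, ht₀1⟩ := Subgroup.ne_bot_iff_exists_ne_one.1 hS.ne
  obtain ⟨F, ⟨hF, t₁, ht₁, ht₁1, ht₁F⟩, hmax⟩ := (Set.toFinite Good).exists_maximal
    ⟨∅, fun _ _ _ h => h.elim, t₀, ht₀, fun e => ht₀1 (Subtype.ext e), fun _ h => h.elim⟩
  have mx : ∀ F' : Set Ω, (∀ s ∈ S, ∀ c ∈ F', s • c ∈ F') → ∀ t ∈ S, (∀ c ∈ F, t • c = c) →
      (∀ c ∈ F', t • c = c) → ¬ F' ⊆ F → t = 1 := by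
    intro F' h1 t ht h2 h3 h4
    by_contra ht1
    refine h4 (Set.subset_union_right.trans (hmax (y := F ∪ F') ⟨?_, t, ht, ht1, ?_⟩
      Set.subset_union_left))
    · rintro s hs c (hc | hc)
      · exact Or.inl (hF s hs c hc)
      · exact Or.inr (h1 s hs c hc)
    · rintro c (hc | hc)
      · exact h2 c hc
      · exact h3 c hc
  have haF : a ∈ F := by
    by_contra ha
    refine ht₁1 (mx {a} (fun s hs c hc => ?_) t₁ ht₁ ht₁F (fun c hc => ?_) (by simpa using ha))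
    · rw [hc]; exact hS.fix s hs
    · rw [hc]; exact hS.fix t₁ ht₁
  have hF' : ∀ s ∈ S, ∀ c, c ∉ F → s • c ∉ F := fun s hs c hc e =>
    hc (by simpa using hF s⁻¹ (inv_mem hs) _ e)
  let T : Subgroup G := S ⊓ fixingSubgroup G F
  have hT : ∀ {t}, t ∈ T ↔ t ∈ S ∧ ∀ c ∈ F, t • c = c :=
    and_congr Iff.rfl (mem_fixingSubgroup_iff G)
  have hTn : ∀ s ∈ S, ∀ t ∈ T, s * t * s⁻¹ ∈ T := fun s hs t ht =>
    hT.2 ⟨mul_mem (mul_mem hs ht.1) (inv_mem hs), fun c hc => by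
      rw [mul_smul, mul_smul, (hT.1 ht).2 _ (hF _ (inv_mem hs) c hc), smul_inv_smul]⟩
  have fa : ∀ c, c ∉ F → ∀ t ∈ T, (∀ d ∈ Orb S c, t • d = d) → t = 1 := fun c hc t ht h1 =>
    mx (Orb S c) (fun s hs d hd => Orb_smul_mem hd hs) t ht.1 (hT.1 ht).2 h1
      fun e => hc (e (self_mem_Orb _ _))
  have tr : ∀ c, c ∉ F → Orb T c = Orb S c := fun c hc => by
    have hca : c ≠ a := fun e => hc (e ▸ haF)
    have : ∃ t ∈ T, t • c ≠ c := by
      by_contra! hcon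
      refine ht₁1 (fa c hc t₁ (hT.2 ⟨ht₁, ht₁F⟩) ?_)
      rintro _ ⟨s, hs, rfl⟩
      have := hcon _ (hTn s⁻¹ (inv_mem hs) t₁ (hT.2 ⟨ht₁, ht₁F⟩))
      rwa [inv_inv, mul_smul, mul_smul, inv_smul_eq_iff] at this
    obtain ⟨t, ht, htc⟩ := this
    exact Orb_eq_of_prime inf_le_left hTn (by rw [ho c hca]; exact h.prime) ht htc
  have cm : ∀ g : G, g • a = a → (¬ ∀ d ∈ F, g⁻¹ • d ∈ F) → ∀ t ∈ T, ∀ t' ∈ T,
      t * (g * t' * g⁻¹) = (g * t' * g⁻¹) * t := by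
    intro g hg h1 t ht t' ht'
    have hu := hS.conj' hg ht.1
    have h2 := mx (g⁻¹ • F) (fun s hs d hd => by
        rw [Set.mem_inv_smul_set_iff] at hd ⊢
        have := hF _ (hS.conj g hg s hs) _ hd
        rwa [mul_smul, mul_smul, inv_smul_smul] at this)
      ((g⁻¹ * t * g) * t' * (g⁻¹ * t * g)⁻¹ * t'⁻¹)
      (mul_mem (hTn _ hu t' ht').1 (inv_mem ht'.1))
      (hT.1 (mul_mem (hTn _ hu t' ht') (inv_mem ht'))).2 (fun d hd => by
        rw [Set.mem_inv_smul_set_iff] at hd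
        have h3 := (hT.1 (mul_mem ht (hTn _ (hS.conj g hg t' ht'.1) _ (inv_mem ht)))).2 _ hd
        apply smul_left_cancel g
        rw [← h3, ← mul_smul, ← mul_smul]
        congr 1
        group)
      (fun e => h1 fun d hd => e (Set.smul_mem_smul_set hd))
    calc t * (g * t' * g⁻¹) = g * ((g⁻¹ * t * g) * t' * (g⁻¹ * t * g)⁻¹ * t'⁻¹) * g⁻¹ *
          (g * t' * g⁻¹ * t) := by group
      _ = _ := by rw [h2]; group
  have C : ∀ c, c ∉ F → ∀ g : G, g • a = a → g • c ∉ F → ∀ d ∈ F, g⁻¹ • d ∈ F := by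
    intro c hc g hg hgc
    by_contra h1
    have hca : c ≠ a := fun e => hc (e ▸ haF)
    have h2 : T ⊓ stabilizer G (g • c) = ⊥ := eq_bot_iff.2 fun t ht => fa _ hgc t ht.1 fun d hd => by
      have h3 := hS.smul_mem_Orb (inv_smul_eq_iff.2 hg.symm) hd
      rw [inv_smul_smul, ← tr c hc] at h3
      obtain ⟨t', ht', e⟩ := h3
      rw [← smul_inv_smul g d, ← e, ← inv_smul_smul g c, ← mul_smul g, ← mul_smul (g * t'),
        ← mul_smul, cm g hg h1 t ht.1 t' ht', mul_smul, ht.2]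
    have h3 := card_Orb_mul T (g • c)
    rw [h2, Subgroup.card_bot, mul_one, tr _ hgc, ho _ (smul_ne_of_fix hg hca)] at h3
    have h4 := comm_of_card_prime (T := T) (h3 ▸ h.prime)
    let X : Set G := {x | ∃ k : G, k • a = a ∧ ∃ t ∈ T, x = k * t * k⁻¹}
    have h5 : T ≤ S ⊓ Subgroup.centralizer X := fun t ht => ⟨ht.1, by
      rintro _ ⟨k, hk, t', ht', rfl⟩
      by_cases e : ∀ d ∈ F, k⁻¹ • d ∈ F
      · refine h4 _ (hT.2 ⟨hS.conj k hk t' ht'.1, fun d hd => ?_⟩) t ht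
        rw [mul_smul, mul_smul, (hT.1 ht').2 _ (e d hd), smul_inv_smul]
      · exact (cm k hk e t ht t' ht').symm⟩
    have h6 := hS.min _ (hS.toNS.inf_cent (X := X) (by
      rintro g hg _ ⟨k, hk, t, ht, rfl⟩
      exact ⟨g⁻¹ * k, by rw [mul_smul, hk, inv_smul_eq_iff, hg], t, ht, by group⟩)) inf_le_left
      fun e => ht₁1 (by
        have := h5 (hT.2 ⟨ht₁, ht₁F⟩)
        rwa [e] at this)
    exact hna (hS.comm_of_center ht₁ ht₁1 fun s hs =>
      ((h6.ge hs).2 t₁ ⟨1, one_smul _ _, t₁, hT.2 ⟨ht₁, ht₁F⟩, by group⟩).symm)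
  obtain ⟨b, hb⟩ := h.moved ht₁1
  have hbF : b ∉ F := fun e => hb (ht₁F b e)
  have hba : b ≠ a := fun e => hbF (e ▸ haF)
  have hK : ∀ g : G, g • a = a → g • b ∉ F → g ∈ stabilizer G a ⊓ stabilizer G F := by
    refine fun g hg hgb => ⟨hg, Set.ext fun d => ?_⟩
    rw [Set.mem_smul_set_iff_inv_smul_mem]
    refine ⟨fun hd => ?_, C b hbF g hg hgb d⟩
    simpa using C _ hgb g⁻¹ (inv_smul_eq_iff.2 hg.symm) (by simpa using hbF) _ hd
  have h1 : Orb (stabilizer G a ⊓ stabilizer G F) b = Fᶜ := by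
    refine Set.Subset.antisymm ?_ fun d hd => ?_
    · rintro _ ⟨g, hg, rfl⟩ e
      have h2 : g • F = F := hg.2
      rw [← h2, Set.smul_mem_smul_set_iff] at e
      exact hbF e
    · obtain ⟨g, h1, rfl⟩ := h.tr hba (fun e => hd (e ▸ haF) : d ≠ a)
      exact ⟨g, hK g h1 hd, rfl⟩
  have h2 := h.orb_dvd hba (K := stabilizer G a ⊓ stabilizer G F) inf_le_left
    fun g hg => hK g hg.1 (by rw [hg.2]; exact hbF)
  rw [h1] at h2
  have h3 : Orb S b ⊆ Fᶜ := by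
    rintro _ ⟨s, hs, rfl⟩
    exact hF' s hs b hbF
  have h4 := Set.ncard_le_ncard h3
  rw [ho b hba] at h4
  obtain ⟨i, hi, e⟩ := (Nat.dvd_prime_pow h.prime).1 h2
  interval_cases i
  · have := h.prime.two_le
    rw [pow_zero] at e
    omega
  · rw [pow_one] at e
    exact absurd (h.prim_of_support a e (T := T) (fun t ht => (hT.1 ht).2) (b := b) (by
      rw [tr b hbF]
      exact Set.eq_of_subset_of_ncard_le h3 (by rw [ho b hba, e]))) hnp
  · have h5 := h.eq_of_ncard (a := a) (X := Fᶜ) (fun d hd e => hd (e ▸ haF)) e.ge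
    refine fa c (h5 c hc) s (hT.2 ⟨hs, fun d hd => ?_⟩) hsc
    by_cases hda : d = a
    · rw [hda, hS.fix s hs]
    · exact absurd hd (h5 d hda)

end SQ

end Cfsg.Agent.H12
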