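/-
Doubly transitive groups of degree `p² + 1`: an intransitive minimal normal subgroup of the point
stabiliser is abelian.
-/
import Cfsg.Agent.H12.SqDeg2
import Cfsg.Agent.H12.PrimeAut
import Cfsg.Agent.H4.Basic

set_option autoImplicit false

namespace Cfsg.Agent.H12

open MulAction Cfsg.Agent.H26
open scoped Pointwise

variable {G Ω : Type*} [Group G] [MulAction G Ω]

/-- A normal subgroup of `G_a` that is faithful and doubly transitive on its orbits. -/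
structure FA (a : Ω) (S : Subgroup G) (p : ℕ) : Prop extends NS a S where
  ho : ∀ c, c ≠ a → (Orb S c).ncard = p
  fa : ∀ c, c ≠ a → ∀ s ∈ S, (∀ d ∈ Orb S c, s • d = d) → s = 1
  two : ∀ c, c ≠ a → ∀ d ∈ Orb S c, ∀ d' ∈ Orb S c, ∀ e ∈ Orb S c, ∀ e' ∈ Orb S c, d ≠ d' →
    e ≠ e' → ∃ s ∈ S, s • d = e ∧ s • d' = e'
  p3 : 3 ≤ p

namespace FA

variable {a : Ω} {S : Subgroup G} {p : ℕ} (k : FA a S p)
include k

theorem third {c : Ω} (hc : c ≠ a) (d e : Ω) : ∃ f ∈ Orb S c, f ≠ d ∧ f ≠ e := by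
  by_contra! hcon
  have h1 : Orb S c ⊆ {d, e} := fun f hf => by
    by_cases h : f = d
    · exact Or.inl h
    · exact Or.inr (hcon f hf h)
  have h2 := Set.ncard_le_ncard h1
  have h3 := Set.ncard_insert_le d {e}
  rw [Set.ncard_singleton] at h3
  have := k.p3
  rw [k.ho c hc] at h2
  omega

theorem fix_unique {c d : Ω} (hc : c ≠ a) (hd : d ∈ Orb S c)
    (h : ∀ s ∈ S, s • c = c → s • d = d) : d = c := by
  by_contra hne
  obtain ⟨f, hf, h1, h2⟩ := k.third hc c d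
  obtain ⟨s, hs, e1, e2⟩ := k.two c hc c (self_mem_Orb _ _) d hd c (self_mem_Orb _ _) f hf
    (Ne.symm hne) h1.symm
  exact h2 (e2.symm.trans (h s hs e1))

theorem cent_of_fix {c : Ω} (hc : c ≠ a) {g : G} (hg : g • a = a) (h : ∀ d ∈ Orb S c, g • d = d)
    {s : G} (hs : s ∈ S) : g * s = s * g := by
  have := k.fa c hc _ (mul_mem (inv_mem hs) (k.conj g hg s hs)) fun d hd => by
    rw [mul_smul, mul_smul, mul_smul, inv_smul_eq_iff.2 (h d hd).symm, h _ (Orb_smul_mem hd hs),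
      inv_smul_smul]
  rw [inv_mul_eq_one] at this
  exact mul_inv_eq_iff_eq_mul.1 this.symm

theorem false_of_cent [Finite G] (h : SQ G Ω p) {b : Ω} (hb : b ≠ a) {y : G} (hy : y • a = a)
    (hyS : ∀ s ∈ S, s * y = y * s) (hyb : y • b ∉ Orb S b) : False := by
  have := h.finite
  let D : Subgroup G := stabilizer G a ⊓ Subgroup.centralizer (S : Set G)
  have hD : NS a D := (NS.stab a).inf_cent' k.toNS
  have hyD : y ∈ D := ⟨hy, hyS⟩
  have hDne : D ≠ ⊥ := fun e => hyb (by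
    rw [e] at hyD
    rw [Subgroup.mem_bot.1 hyD, one_smul]; exact self_mem_Orb _ _)
  let L : Set Ω := {c | ∀ s ∈ S, s • b = b → s • c = c}
  have haL : a ∈ L := fun s hs _ => k.fix s hs
  have hDL : ∀ d ∈ D, ∀ c ∈ L, d • c ∈ L := fun d hd c hc s hs e => by
    rw [← mul_smul, hd.2 s hs, mul_smul, hc s hs e]
  have hbL : b ∈ L := fun _ _ e => e
  obtain ⟨f, hf, hfb, -⟩ := k.third hb b b
  have hDo : (Orb D b).ncard = p := by
    rcases h.orb_cases hD hDne with h1 | h1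
    · exact h1 b hb
    · obtain ⟨d, hd, e⟩ := h1 b f hb (k.ne_of_mem_Orb hb hf)
      exact absurd (k.fix_unique hb hf (e ▸ hDL d hd b hbL)) hfb
  have hSD : ∀ c, c ≠ a → ∃ d ∈ D, ∃ s ∈ S, c = d • s • b := by
    let N : Subgroup G :=
      { carrier := {g | ∃ d ∈ D, ∃ s ∈ S, g = d * s}
        one_mem' := ⟨1, D.one_mem, 1, S.one_mem, by simp⟩
        mul_mem' := by
          rintro _ _ ⟨d, hd, s, hs, rfl⟩ ⟨d', hd', s', hs', rfl⟩
          exact ⟨d * d', mul_mem hd hd', s * s', mul_mem hs hs', by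
            rw [mul_assoc, ← mul_assoc s, hd'.2 s hs]; group⟩
        inv_mem' := by
          rintro _ ⟨d, hd, s, hs, rfl⟩
          exact ⟨d⁻¹, inv_mem hd, s⁻¹, inv_mem hs, by
            rw [mul_inv_rev, (inv_mem hd).2 _ (inv_mem hs)]⟩ }
    have hN : NS a N := ⟨by
      rintro _ ⟨d, hd, s, hs, rfl⟩
      rw [mul_smul, k.fix s hs, hD.fix d hd], by
      rintro g hg _ ⟨d, hd, s, hs, rfl⟩
      exact ⟨_, hD.conj g hg d hd, _, k.conj g hg s hs, by group⟩⟩
    have hyN : y ∈ N := ⟨y, hyD, 1, S.one_mem, by simp⟩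
    rcases h.orb_cases hN (fun e => hyb (by
      rw [e] at hyN
      rw [Subgroup.mem_bot.1 hyN, one_smul]; exact self_mem_Orb _ _)) with h1 | h1
    · have h2 : Orb S b = Orb N b := Set.eq_of_subset_of_ncard_le
        (Orb_mono (fun s hs => (⟨1, D.one_mem, s, hs, by simp⟩ : s ∈ N)) b)
        (by rw [h1 b hb, k.ho b hb])
      exact absurd (h2 ▸ ⟨y, hyN, rfl⟩) hyb
    · intro c hc
      obtain ⟨_, ⟨d, hd, s, hs, rfl⟩, e⟩ := h1 b c hb hc
      exact ⟨d, hd, s, hs, by rw [← e, mul_smul]⟩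
  have hL : L = insert a (Orb D b) := by
    refine Set.Subset.antisymm (fun c hc => ?_) ?_
    · by_cases hca : c = a
      · exact Or.inl hca
      obtain ⟨d, hd, s, hs, rfl⟩ := hSD c hca
      have h1 := hDL _ (inv_mem hd) _ hc
      rw [inv_smul_smul] at h1
      rw [k.fix_unique hb ⟨s, hs, rfl⟩ h1]
      exact Or.inr ⟨d, hd, rfl⟩
    · rintro c (rfl | ⟨d, hd, rfl⟩)
      · exact haL
      · exact hDL d hd b hbL
  have hLc : L.ncard = p + 1 := by
    rw [hL, Set.ncard_insert_of_notMem (fun e => hD.ne_of_mem_Orb hb e rfl), hDo]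
  have hK : ∀ g : G, (∀ c ∈ L, g • c ∈ L) → g ∈ stabilizer G L := fun g hg =>
    Set.eq_of_subset_of_ncard_le (by
      rintro _ ⟨c, hc, rfl⟩
      exact hg c hc) (by rw [Set.ncard_smul_set])
  have hH : ∀ g ∈ Hs G a b, ∀ c ∈ L, g • c ∈ L := fun g hg c hc s hs e => by
    have := hc _ (k.conj' hg.1 hs) (by
      rw [mul_smul, mul_smul, hg.2, e, inv_smul_eq_iff, hg.2])
    rwa [mul_smul, mul_smul, inv_smul_eq_iff] at this
  have hKa : ∀ g : G, (∀ c ∈ L, g • c ∈ L) → g • a = a := by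
    intro g hg
    by_contra hga
    refine h.no_line hb (K := stabilizer G L) (fun g hg => hK g (hH g hg)) ?_
    rw [← hLc]
    congr 1
    refine Set.Subset.antisymm ?_ fun c hc => ?_
    · rintro _ ⟨l, hl, rfl⟩
      have e : l • L = L := hl
      rw [← e]
      exact Set.smul_mem_smul_set haL
    · have h1 := hg a haL
      rw [hL] at hc h1
      rcases hc with rfl | hc
      · exact self_mem_Orb _ _
      · obtain ⟨d, hd, rfl⟩ := Orb_trans (Orb_symm (h1.resolve_left hga)) hc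
        exact Orb_smul_mem ⟨g, hK g hg, rfl⟩ (hK d (hDL d hd))
  obtain ⟨t, hta, htb⟩ := h.two hb.symm hb
  obtain ⟨c₀, hc₀, hc⟩ : ∃ c₀ ∈ L, t • c₀ ∉ L := by
    by_contra! hcon
    exact hb (hta.symm.trans (hKa t hcon))
  have hca : t • c₀ ≠ a := fun e => hc (e ▸ haL)
  obtain ⟨d, hd, s, hs, e⟩ := hSD _ hca
  have hc₁ : d • b ≠ a := smul_ne_of_fix (hD.fix d hd) hb
  have hcc : t • c₀ ∈ Orb S (d • b) := ⟨s, hs, by rw [e, ← mul_smul, hd.2 s hs, mul_smul]⟩
  have hne : t • c₀ ≠ d • b := fun e => hc (e ▸ hDL d hd b hbL)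
  have hY : ∀ c' ∈ Orb S (d • b), c' ≠ d • b → t⁻¹ • c' ∈ L := by
    intro c' hc' h1
    obtain ⟨x, hx, e1, e2⟩ := k.two _ hc₁ _ (self_mem_Orb _ _) _ hcc _ (self_mem_Orb _ _) _ hc'
      hne.symm h1.symm
    rw [← mul_smul, hd.2 x hx, mul_smul, smul_left_cancel_iff] at e1
    have := hH (t⁻¹ * x * t) ⟨by
      change _ • _ = _
      rw [mul_smul, mul_smul, hta, e1, inv_smul_eq_iff, hta], by
      change _ • _ = _
      rw [mul_smul, mul_smul, htb, k.fix x hx, inv_smul_eq_iff, htb]⟩ c₀ hc₀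
    rwa [mul_smul, mul_smul, e2] at this
  have hcomm : ∀ x ∈ S, x • b = b → ∀ s ∈ S, t * x * t⁻¹ * s = s * (t * x * t⁻¹) := by
    intro x hx hxb s hs
    have h1 : (t * x * t⁻¹) • a = a := by
      rw [mul_smul, mul_smul, inv_smul_eq_iff.2 htb.symm, hxb, htb]
    have h2 : ∀ c' ∈ Orb S (d • b), c' ≠ d • b → (t * x * t⁻¹) • c' = c' := fun c' hc' h3 => by
      rw [mul_smul, mul_smul, hY c' hc' h3 x hx hxb, smul_inv_smul]
    refine k.cent_of_fix hc₁ h1 (fun c' hc' => ?_) hs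
    by_cases h3 : c' = d • b
    · by_contra h4
      have h5 := k.smul_mem_Orb h1 (Orb_symm hcc)
      rw [h2 _ hcc hne, ← h3] at h5
      refine h4 (smul_left_cancel (t * x * t⁻¹) (h2 _ (Orb_trans hcc h5) ?_))
      rwa [← h3]
    · exact h2 c' hc' h3
  obtain ⟨s', hs', rfl⟩ := hf
  have h1 := hKa (t⁻¹ * s' * t) fun c hc x hx hxb => by
    have h2 : x * (t⁻¹ * s' * t) = t⁻¹ * s' * t * x := by
      calc _ = t⁻¹ * (t * x * t⁻¹ * s') * t := by group
        _ = _ := by rw [hcomm x hx hxb s' hs']; group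
    rw [← mul_smul, h2, mul_smul, hc x hx hxb]
  rw [mul_smul, mul_smul, hta, inv_smul_eq_iff, hta] at h1
  exact hfb h1

end FA

theorem zpow_Orb [Finite G] [Finite Ω] {S : Subgroup G} {p : ℕ} (hp : p.Prime) {σ : G} (hσ : σ ∈ S)
    (ho : orderOf σ = p) {c : Ω} (hc : (Orb S c).ncard = p) (hm : σ • c ≠ c) {d : Ω}
    (hd : d ∈ Orb S c) : ∃ n : ℕ, σ ^ n • c = d := by
  have h1 := card_Orb_mul (Subgroup.zpowers σ) c
  rw [Nat.card_zpowers, ho] at h1
  have h2 : Orb (Subgroup.zpowers σ) c = Orb S c := by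
    refine Set.eq_of_subset_of_ncard_le (Orb_mono ((Subgroup.zpowers_le).2 hσ) c) ?_
    rcases (Nat.dvd_prime hp).1 (Dvd.intro _ h1) with e | e
    · obtain ⟨d, hd⟩ := Set.ncard_eq_one.1 e
      have h3 : σ • c ∈ Orb (Subgroup.zpowers σ) c := ⟨σ, Subgroup.mem_zpowers σ, rfl⟩
      have h4 := self_mem_Orb (Subgroup.zpowers σ) c
      rw [hd] at h3 h4
      exact absurd (h3.trans h4.symm) hm
    · rw [e, hc]
  rw [← h2] at hd
  obtain ⟨u, hu, e⟩ := hd
  obtain ⟨n, rfl⟩ := (mem_powers_iff_mem_zpowers.2 hu : u ∈ Submonoid.powers σ)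
  exact ⟨n, e⟩

namespace SQ

variable [Finite G] {p : ℕ} (h : SQ G Ω p)
include h

theorem na {a : Ω}
    (hnp : ¬ IsPreprimitive (stabilizer G a) (SubMulAction.ofStabilizer G a)) {S : Subgroup G}
    (hS : MinNS a S) (ho : ∀ c, c ≠ a → (Orb S c).ncard = p) :
    ∀ x ∈ S, ∀ y ∈ S, x * y = y * x := by
  classical
  by_contra hna
  have := h.finite
  have := Fact.mk h.prime
  have fa : ∀ c, c ≠ a → ∀ s ∈ S, (∀ d ∈ Orb S c, s • d = d) → s = 1 :=
    fun c hc s hs => h.faithful_orb hnp hS ho hna hc hs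
  have perf : commutator S = ⊤ := by
    apply Subgroup.map_injective S.subtype_injective
    rw [Subgroup.map_subtype_commutator, ← MonoidHom.range_eq_map, Subgroup.range_subtype]
    refine hS.min _ hS.toNS.commutator (Subgroup.commutator_le.2 fun x hx y hy =>
      mul_mem (mul_mem (mul_mem hx hy) (inv_mem hx)) (inv_mem hy)) fun e => hna fun x hx y hy => ?_
    exact Subgroup.commutator_eq_bot_iff_le_centralizer.1 e hy x hx
  have : Nontrivial S := (Subgroup.nontrivial_iff_ne_bot S).2 hS.ne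
  have hns : ¬ Group.IsSolvable S := fun hs =>
    (IsSolvable.commutator_lt_top_of_nontrivial (G := S)).ne perf
  obtain ⟨b, hb⟩ := h.exists_ne a
  obtain ⟨σ', hσ'⟩ := exists_prime_orderOf_dvd_card' (G := S) p
    (Dvd.intro _ (ho b hb ▸ card_Orb_mul S b))
  have hσp : σ' ^ p = 1 := hσ' ▸ pow_orderOf_eq_one σ'
  have hσ1 : σ' ≠ 1 := by
    rintro rfl
    exact h.prime.one_lt.ne (by simpa using hσ')
  have hcard : ∀ c, c ≠ a → ∀ _ : Fintype (orbit S c), Fintype.card (orbit S c) = p :=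
    fun c hc _ => by rw [← Nat.card_eq_fintype_card, Nat.card_coe_set_eq, ← Orb_eq, ho c hc]
  have hfa : ∀ c, c ≠ a → FaithfulSMul S (orbit S c) := fun c hc => ⟨fun {x y} e => by
    have := fa c hc _ (y⁻¹ * x).2 fun d hd => by
      have := congrArg Subtype.val (e ⟨d, Orb_eq S c ▸ hd⟩)
      rw [Subgroup.coe_mul, mul_smul, Subgroup.coe_inv, inv_smul_eq_iff]
      exact this
    exact (inv_mul_eq_one.1 (Subtype.ext this)).symm⟩
  have key : ∀ c, c ≠ a → p ≠ 2 ∧ (σ' : G) • c ≠ c ∧ IsMultiplyPretransitive S (orbit S c) 2 := by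
    intro c hc
    have := Fintype.ofFinite (orbit S c)
    have := hfa c hc
    have hm := H24.smul_ne_of_orderOf (hcard c hc _) σ' hσp hσ1 ⟨c, mem_orbit_self c⟩
    obtain ⟨e, -, he⟩ := H24.exists_coord (hcard c hc _) σ' hσp _ hm
    have hna : ¬ ∀ g : S, ∃ a b : ZMod p, ∀ x, e (g • x) = a * e x + b :=
      fun h1 => hns (H24.isSolvable_of_affine e h1)
    exact ⟨fun h2 => hna (H24.affine_of_le_two e h2.le), fun e => hm (Subtype.ext e),
      H24.two_transitive_of_not_affine e σ' he hna⟩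
  have k : FA a S p := ⟨hS.toNS, ho, fa, fun c hc d hd d' hd' e he e' he' h1 h2 => by
    have h0 := (key c hc).2.2
    rw [is_two_pretransitive_iff] at h0
    obtain ⟨s, e1, e2⟩ := @h0
      ⟨d, Orb_eq S c ▸ hd⟩ ⟨d', Orb_eq S c ▸ hd'⟩ ⟨e, Orb_eq S c ▸ he⟩
      ⟨e', Orb_eq S c ▸ he'⟩ (fun e => h1 (congrArg Subtype.val e))
      (fun e => h2 (congrArg Subtype.val e))
    exact ⟨s, s.2, congrArg Subtype.val e1, congrArg Subtype.val e2⟩, by
      have := (key b hb).1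
      have := h.prime.two_le
      omega⟩
  have := Fintype.ofFinite (orbit S b)
  have := hfa b hb
  have hsq := H24.not_sq_dvd_card (G := S) (hcard b hb _)
  obtain ⟨σ, hσ⟩ := σ'
  have hσo : orderOf σ = p := by rw [← hσ', Subgroup.orderOf_mk]
  have hσp' : σ ^ p = 1 := congrArg Subtype.val hσp
  have hz : ∀ c, c ≠ a → ∀ d ∈ Orb S c, ∃ n : ℕ, σ ^ n • c = d := fun c hc d hd =>
    zpow_Orb h.prime hσ hσo (ho c hc) (key c hc).2.1 hd
  obtain ⟨P, hσP, hP, hp, -, htr⟩ := h.exists_syl (a := a) (E := Subgroup.zpowers σ)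
    ((Subgroup.zpowers_le).2 (hS.fix σ hσ)) (IsPGroup.of_card (n := 1) (by
      rw [Nat.card_zpowers, hσo, pow_one]))
  have hSP : Subgroup.zpowers σ = S ⊓ P := by
    refine Subgroup.eq_of_le_of_card_ge (le_inf ((Subgroup.zpowers_le).2 hσ) hσP) ?_
    obtain ⟨n, hn⟩ := IsPGroup.iff_card.1 (hp.to_inf_right (H := S))
    have h1 := Subgroup.card_dvd_of_le (inf_le_left : S ⊓ P ≤ S)
    rw [Nat.card_zpowers, hσo, hn]
    rcases n with _ | _ | n
    · exact h.prime.one_lt.le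
    · simp
    · exact absurd ((Dvd.intro (p ^ n) (by rw [hn]; ring)).trans h1) hsq
  have hcP : ∀ x ∈ P, x * σ = σ * x := fun x hx => by
    obtain ⟨n, hn⟩ := hp ⟨x, hx⟩
    have h1 : x * σ * x⁻¹ ∈ P := mul_mem (mul_mem hx (hσP (Subgroup.mem_zpowers σ))) (inv_mem hx)
    obtain ⟨m, hm⟩ := (mem_powers_iff_mem_zpowers.2 (hSP.ge ⟨hS.conj x (hP hx) σ hσ, h1⟩) :
        x * σ * x⁻¹ ∈ Submonoid.powers σ)
    exact comm_of_pow_conj h.prime hσp' (congrArg Subtype.val hn) hm.symm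
  -- elements commuting with `σ` and fixing the block of `b`
  have hcb : ∀ q : G, q • b ∈ Orb S b → q * σ = σ * q →
      ∃ n : ℕ, ∀ d ∈ Orb S b, ((σ ^ n)⁻¹ * q) • d = d := fun q h1 h2 => by
    obtain ⟨n, hn⟩ := hz b hb _ h1
    refine ⟨n, fun d hd => ?_⟩
    obtain ⟨m, rfl⟩ := hz b hb d hd
    rw [mul_smul, inv_smul_eq_iff, ← mul_smul, (Commute.pow_right h2 m).eq, mul_smul, ← hn,
      ← mul_smul, ← mul_smul, pow_mul_comm]
  have hcS : ∀ s ∈ S, s * σ = σ * s → ∃ n : ℕ, s = σ ^ n := fun s hs h1 => by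
    obtain ⟨n, hn⟩ := hcb s ⟨s, hs, rfl⟩ h1
    exact ⟨n, (inv_mul_eq_one.1 (fa b hb _ (mul_mem (inv_mem (pow_mem hσ n)) hs) hn)).symm⟩
  obtain ⟨hb1, hb2⟩ := h.blk hb hS.toNS (ho b hb) hP hp htr
  have hQ : ∀ q ∈ P, q ∈ hS.toNS.bst b → ∃ n : ℕ, q = σ ^ n := fun q hq h1 => by
    obtain ⟨n, hn⟩ := hcb q h1.2 (hcP q hq)
    have hσn : (σ ^ n)⁻¹ ∈ S := inv_mem (pow_mem hσ n)
    have h2 : (σ ^ n)⁻¹ * q ∈ hS.toNS.bst b :=
      mul_mem (hS.toNS.mem_bst.2 ⟨hS.fix _ hσn, _, hσn, rfl⟩) h1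
    refine ⟨n, (inv_mul_eq_one.1 (h.faith _ fun c => ?_)).symm⟩
    by_cases hc : c = a
    · rw [hc, h2.1]
    refine k.fix_unique hc (hb2 _ (mul_mem (inv_mem (pow_mem (hσP (Subgroup.mem_zpowers σ)) n)) hq)
      h2 c hc).2 fun s hs e => ?_
    rw [← mul_smul, ← k.cent_of_fix hb h2.1 hn hs, mul_smul, e]
  obtain ⟨c, hc, hcb'⟩ : ∃ c, c ≠ a ∧ c ∉ Orb S b := by
    by_contra! hcon
    have h1 := Set.ncard_le_ncard (s := {c | c ≠ a}) hcon
    rw [h.ncard_ne, ho b hb] at h1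
    have := h.prime.two_le
    nlinarith
  obtain ⟨x, hx, rfl⟩ := htr b c hb hc
  have hxa : x • a = a := hP hx
  -- Burnside's transfer theorem
  obtain ⟨r, hr, hr1, hr2⟩ : ∃ r ∈ S, r * σ * r⁻¹ ∈ Subgroup.zpowers σ ∧ r * σ ≠ σ * r := by
    by_contra! hcon
    have h1 : IsPGroup p (Subgroup.zpowers (⟨σ, hσ⟩ : S)) := IsPGroup.of_card (n := 1) (by
      rw [Nat.card_zpowers, hσ', pow_one])
    have h2 : ¬ p ∣ (Subgroup.zpowers (⟨σ, hσ⟩ : S)).index := fun e => hsq (by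
      rw [← (Subgroup.zpowers (⟨σ, hσ⟩ : S)).card_mul_index, Nat.card_zpowers, hσ']
      exact Nat.mul_dvd_mul_left p e)
    have : IsMulCommutative (h1.toSylow h2) :=
      inferInstanceAs (IsMulCommutative (Subgroup.zpowers (⟨σ, hσ⟩ : S)))
    refine hσ1 (H4.eq_one_of_mem_commutator_of_abelian_sylow (h1.toSylow h2)
      (Subgroup.mem_zpowers _) (fun r hr => Subtype.ext (hcon r r.2 ?_)) (perf ▸ trivial))
    obtain ⟨n, hn⟩ := (Subgroup.mem_normalizer_iff.1 hr ⟨σ, hσ⟩).1 (Subgroup.mem_zpowers _)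
    exact ⟨n, congrArg Subtype.val hn⟩
  have hxp : x ^ p = 1 := by
    obtain ⟨e, he⟩ := hQ _ (pow_mem hx p) (hb1 x hx)
    obtain ⟨j, hj⟩ := (mem_powers_iff_mem_zpowers.2 hr1 : _ ∈ Submonoid.powers σ)
    have hj' : σ ^ j = r * σ * r⁻¹ := hj
    have h1 : (r⁻¹ * x * r) * σ = σ * (r⁻¹ * x * r) := by
      calc _ = r⁻¹ * (x * (r * σ * r⁻¹)) * r := by group
        _ = r⁻¹ * ((r * σ * r⁻¹) * x) * r := by rw [← hj', (Commute.pow_right (hcP x hx) j).eq]
        _ = _ := by group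
    obtain ⟨m, hm⟩ := hcS (r⁻¹ * (x * r * x⁻¹)) (mul_mem (inv_mem hr) (hS.conj x hxa r hr)) (by
      calc _ = r⁻¹ * x * r * (x⁻¹ * σ) := by group
        _ = r⁻¹ * x * r * σ * x⁻¹ := by rw [(Commute.inv_left (hcP x hx)).eq]; group
        _ = _ := by rw [h1]; group)
    have h2 : r⁻¹ * x * r = σ ^ m * x := by rw [← hm]; group
    have h3 : r⁻¹ * x ^ p * r = x ^ p := by
      have : (r⁻¹ * x * r⁻¹⁻¹) ^ p = r⁻¹ * x ^ p * r⁻¹⁻¹ := conj_pow
      rw [inv_inv] at this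
      rw [← this, h2, (Commute.pow_left (hcP x hx).symm m).mul_pow, ← pow_mul, mul_comm m, pow_mul,
        hσp', one_pow, one_mul]
    by_contra hne
    rw [he] at h3 hne
    have h4 : r * σ ^ e = σ ^ e * r := by
      conv_lhs => rw [← h3]
      group
    have h5 : σ ∈ Subgroup.zpowers (σ ^ e) := by
      rw [mem_zpowers_pow_iff, hσo]
      exact ((Nat.Prime.coprime_iff_not_dvd h.prime).2 fun hd =>
        hne (orderOf_dvd_iff_pow_eq_one.1 (hσo ▸ hd))).symm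
    obtain ⟨i, hi⟩ := h5
    apply hr2
    rw [← hi]
    exact (Commute.zpow_right h4 i).eq
  let φ : MulAut S :=
    { toFun := fun s => ⟨x⁻¹ * s * x, hS.conj' hxa s.2⟩
      invFun := fun s => ⟨x * s * x⁻¹, hS.conj x hxa s s.2⟩
      left_inv := fun s => Subtype.ext (by simp [mul_assoc])
      right_inv := fun s => Subtype.ext (by simp [mul_assoc])
      map_mul' := fun s t => Subtype.ext (by simp [mul_assoc]) }
  have hφ : ∀ (n : ℕ) (s : S), ((φ ^ n) s : G) = (x ^ n)⁻¹ * s * x ^ n := by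
    intro n
    induction n with
    | zero => simp
    | succ n ih =>
      intro s
      rw [pow_succ', MulAut.mul_apply]
      change x⁻¹ * ((φ ^ n) s : G) * x = _
      rw [ih]
      group
  obtain ⟨⟨c, hc'⟩, hc''⟩ := aut_fix (key b hb).1 (hcard b hb _)
    (is_two_pretransitive_iff.1 (key b hb).2.2) hσp hσ1 φ
    (Subtype.ext (by
      change x⁻¹ * σ * x = σ
      rw [mul_assoc, ← hcP x hx, inv_mul_cancel_left]))
    (MulEquiv.ext fun s => Subtype.ext (by rw [hφ, hxp]; simp)) ⟨b, mem_orbit_self b⟩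
  obtain ⟨m, rfl⟩ := hz b hb c (Orb_eq S b ▸ hc')
  have hX : ∀ s ∈ S, s • b = b → s • (x * σ ^ m) • b = (x * σ ^ m) • b := fun s hs e => by
    have h1 : (x⁻¹ * s * x) • σ ^ m • b = σ ^ m • b :=
      congrArg Subtype.val (hc'' ⟨s, hs⟩ (Subtype.ext e))
    rwa [mul_smul, mul_smul, inv_smul_eq_iff, ← mul_smul x] at h1
  have hy : (x * σ ^ m) • a = a := by rw [mul_smul, hS.fix _ (pow_mem hσ m), hxa]
  have hyσ : Commute (x * σ ^ m) σ := Commute.mul_left (hcP x hx) (Commute.pow_self σ m)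
  have hyb : (x * σ ^ m) • b ∉ Orb S b := fun e => hcb' (by
    have := Orb_smul_mem e (inv_mem (pow_mem hσ m))
    rwa [(Commute.pow_right (hcP x hx) m).eq, mul_smul, inv_smul_smul] at this)
  generalize x * σ ^ m = y at hX hy hyσ hyb
  refine k.false_of_cent h hb hy (fun s hs => ?_) hyb
  have := fa b hb _ (mul_mem (inv_mem hs) (hS.conj' hy hs)) fun d hd => by
    obtain ⟨j, rfl⟩ := hz b hb d hd
    obtain ⟨j', hj⟩ := hz b hb _ (Orb_smul_mem hd hs)
    have h1 := hX ((σ ^ j')⁻¹ * s * σ ^ j)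
      (mul_mem (mul_mem (inv_mem (pow_mem hσ j')) hs) (pow_mem hσ j))
      (by rw [mul_smul, mul_smul, ← hj, inv_smul_smul])
    rw [mul_smul, mul_smul, inv_smul_eq_iff, ← mul_smul (σ ^ j), ← mul_smul (σ ^ j'),
      ← (hyσ.pow_right j).eq, ← (hyσ.pow_right j').eq, mul_smul, mul_smul, hj] at h1
    rw [mul_smul, mul_smul, mul_smul, h1, inv_smul_smul, inv_smul_smul]
  rw [inv_mul_eq_one] at this
  calc s * y = y * (y⁻¹ * s * y) := by group
    _ = _ := by rw [← this]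

end SQ

end Cfsg.Agent.H12
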