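/-
Doubly transitive groups of degree `p² + 1` are doubly primitive, except for the Frobenius group of
order `20`.
-/
import Cfsg.Agent.H12.SqDeg3
import Cfsg.Agent.H26.ZassFeit
import Cfsg.Agent.H26.ZassLarge

set_option autoImplicit false

namespace Cfsg.Agent.H12

open MulAction Cfsg.Agent.H26
open scoped Pointwise

variable {G Ω : Type*} [Group G] [MulAction G Ω]

theorem exists_gen_of_card_prime [Finite G] {E : Subgroup G} {p : ℕ} (hp : p.Prime)
    (h : Nat.card E = p) : ∃ σ ∈ E, orderOf σ = p ∧ ∀ e ∈ E, ∃ n : ℕ, e = σ ^ n := by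
  have := Fact.mk hp
  obtain ⟨⟨σ, hσ⟩, ho⟩ := exists_prime_orderOf_dvd_card' (G := E) p h.symm.dvd
  rw [Subgroup.orderOf_mk] at ho
  have h1 : Subgroup.zpowers σ = E := Subgroup.eq_of_le_of_card_ge ((Subgroup.zpowers_le).2 hσ)
    (by rw [Nat.card_zpowers, ho, h])
  refine ⟨σ, hσ, ho, fun e he => ?_⟩
  obtain ⟨n, hn⟩ := (mem_powers_iff_mem_zpowers.2 (h1.ge he) : e ∈ Submonoid.powers σ)
  exact ⟨n, hn.symm⟩

namespace SQ

variable [Finite G] {p : ℕ} (h : SQ G Ω p)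
include h

theorem exists_intrans {a : Ω}
    (hnp : ¬ IsPreprimitive (stabilizer G a) (SubMulAction.ofStabilizer G a)) :
    ∃ M : Subgroup G, NS a M ∧ M ≠ ⊥ ∧ ¬ ∀ c d, c ≠ a → d ≠ a → d ∈ Orb M c := by
  have := h.finite
  have hp := h.prime.two_le
  obtain ⟨b, hb⟩ := h.exists_ne a
  have htr : IsPretransitive (stabilizer G a) (SubMulAction.ofStabilizer G a) := ⟨fun x y => by
    obtain ⟨g, h1, h2⟩ := h.tr (a := a) x.2 y.2
    exact ⟨⟨g, h1⟩, Subtype.ext h2⟩⟩
  have hc : Nat.card (SubMulAction.ofStabilizer G a) = p ^ 2 := h.ncard_ne a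
  have : Nontrivial (SubMulAction.ofStabilizer G a) :=
    Finite.one_lt_card_iff_nontrivial.1 (by rw [hc]; nlinarith)
  let b' : SubMulAction.ofStabilizer G a := ⟨b, hb⟩
  rw [← isCoatom_stabilizer_iff_preprimitive _ b', isCoatom_iff_ge_of_le] at hnp
  have hi : (stabilizer (stabilizer G a) b').index = p ^ 2 := by
    rw [index_stabilizer_of_transitive, hc]
  have hne : stabilizer (stabilizer G a) b' ≠ ⊤ := fun e => by
    rw [e, Subgroup.index_top] at hi
    nlinarith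
  obtain ⟨K, hK1, hK2, hK3⟩ : ∃ K : Subgroup (stabilizer G a), K ≠ ⊤ ∧
      stabilizer (stabilizer G a) b' ≤ K ∧ ¬ K ≤ stabilizer (stabilizer G a) b' := by
    by_contra! hcon
    exact hnp ⟨hne, hcon⟩
  have hKi : K.index = p := by
    have h1 := Subgroup.relIndex_mul_index hK2
    rw [hi] at h1
    obtain ⟨i, hi', e⟩ := (Nat.dvd_prime_pow h.prime).1 (Dvd.intro_left _ h1)
    interval_cases i
    · exact absurd (Subgroup.index_eq_one.1 e) hK1
    · rw [e, pow_one]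
    · rw [e] at h1
      exact absurd (Subgroup.relIndex_eq_one.1 ((mul_eq_right₀ (by positivity)).1 h1)) hK3
  refine ⟨K.normalCore.map (stabilizer G a).subtype, ⟨?_, ?_⟩, fun e => ?_, fun htr => hK1 ?_⟩
  · rintro _ ⟨m, -, rfl⟩
    exact m.2
  · rintro g hg _ ⟨m, hm, rfl⟩
    exact ⟨⟨g, hg⟩ * m * ⟨g, hg⟩⁻¹, K.normalCore_normal.conj_mem m hm _, rfl⟩
  · rw [Subgroup.map_eq_bot_iff_of_injective _ (Subgroup.subtype_injective _),
      Subgroup.normalCore_eq_ker, MonoidHom.ker_eq_bot_iff] at e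
    have h1 := Subgroup.card_dvd_of_injective _ e
    rw [Nat.card_perm, ← Subgroup.index_eq_card, hKi, h.card_stab hb,
      ← Nat.mul_factorial_pred h.prime.ne_zero, sq, mul_assoc] at h1
    have h2 := (Nat.Prime.dvd_factorial h.prime).1
      ((Dvd.intro _ rfl).trans (Nat.dvd_of_mul_dvd_mul_left h.prime.pos h1))
    omega
  · rw [eq_top_iff]
    intro g _
    obtain ⟨_, ⟨m, hm, rfl⟩, e⟩ := htr b ((g : G) • b) hb (smul_ne_of_fix g.2 hb)
    have h1 : m⁻¹ * g ∈ K := hK2 (Subtype.ext (by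
      change ((m : G)⁻¹ * g) • b = b
      rw [mul_smul, ← e]
      exact inv_smul_smul _ _))
    simpa using mul_mem (K.normalCore_le hm) h1

theorem min_card {a : Ω}
    (hnp : ¬ IsPreprimitive (stabilizer G a) (SubMulAction.ofStabilizer G a)) {E : Subgroup G}
    (hE : MinNS a E) (hi : ¬ ∀ c d, c ≠ a → d ≠ a → d ∈ Orb E c) :
    (∀ c, c ≠ a → (Orb E c).ncard = p) ∧ (∀ x ∈ E, ∀ y ∈ E, x * y = y * x) ∧ Nat.card E = p := by
  have h1 := (h.orb_cases hE.toNS hE.ne).resolve_right hi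
  have h2 := h.na hnp hE h1
  obtain ⟨b, hb⟩ := h.exists_ne a
  exact ⟨h1, h2, by rw [h.card_semireg hE.toNS h2 hb, h1 b hb]⟩

theorem exists_sp {a b : Ω} (hb : b ≠ a)
    (hnp : ¬ IsPreprimitive (stabilizer G a) (SubMulAction.ofStabilizer G a)) :
    ¬ p ∣ Nat.card (Hs G a b) ∧ ∃ U E : Subgroup G, SP G Ω a b U ∧ NS a E ∧ E ≤ U ∧
      Nat.card E = p ∧ Nat.card U = p ^ 2 ∧ ∀ x ∈ U, ∀ y ∈ U, x * y = y * x := by
  have := h.finite
  have := Fact.mk h.prime
  obtain ⟨M, hM, hM0, hMi⟩ := h.exists_intrans hnp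
  obtain ⟨E, hEM, hE⟩ := hM.exists_min hM0
  obtain ⟨ho, hEc, hEp⟩ := h.min_card hnp hE
    fun e => hMi fun c d hc hd => Orb_mono hEM c (e c d hc hd)
  obtain ⟨σ, hσ, hσo, hgen⟩ := exists_gen_of_card_prime h.prime hEp
  have hσp : σ ^ p = 1 := hσo ▸ pow_orderOf_eq_one σ
  obtain ⟨P, hEP, hP, hp, ⟨m, hm, hPm⟩, htr⟩ := h.exists_syl (a := a) (E := E) hE.fix
    (IsPGroup.of_card (n := 1) (by rw [hEp, pow_one]))
  let C : Subgroup G := stabilizer G a ⊓ Subgroup.centralizer (E : Set G)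
  have hC : NS a C := (NS.stab a).inf_cent' hE.toNS
  have hPC : P ≤ C := fun x hx => ⟨hP hx, fun e he => by
    obtain ⟨n, hn⟩ := hp ⟨x, hx⟩
    obtain ⟨k, hk⟩ := hgen _ (hE.conj x (hP hx) σ hσ)
    obtain ⟨j, rfl⟩ := hgen e he
    exact (Commute.pow_right (comm_of_pow_conj h.prime hσp (congrArg Subtype.val hn) hk) j).eq.symm⟩
  obtain ⟨-, hb2⟩ := h.blk hb hE.toNS (ho b hb) hP hp htr
  let Z : Subgroup G := C ⊓ ⨅ c : {c // c ≠ a}, hE.toNS.bst c
  have hZm : ∀ {g}, g ∈ Z ↔ g ∈ C ∧ ∀ c, c ≠ a → g • c ∈ Orb E c := fun {g} =>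
    ⟨fun hg => ⟨hg.1, fun c hc => (Subgroup.mem_iInf.1 hg.2 ⟨c, hc⟩).2⟩,
      fun hg => ⟨hg.1, Subgroup.mem_iInf.2 fun c => ⟨hg.1.1, hg.2 c c.2⟩⟩⟩
  have hZ : NS a Z := ⟨fun g hg => hg.1.1, fun g hg z hz => hZm.2 ⟨hC.conj g hg z hz.1, fun c hc => by
    have := hE.toNS.smul_mem_Orb hg ((hZm.1 hz).2 (g⁻¹ • c)
      (smul_ne_of_fix (inv_smul_eq_iff.2 hg.symm) hc))
    rwa [smul_inv_smul, ← mul_smul, ← mul_smul] at this⟩⟩
  have hZc : ∀ x ∈ Z, ∀ y ∈ Z, x * y = y * x := fun x hx y hy => by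
    refine (inv_mul_eq_one.1 (h.faith _ fun c => ?_)).symm
    rw [mul_smul, inv_smul_eq_iff, mul_smul, mul_smul]
    by_cases hc : c = a
    · rw [hc, hZ.fix x hx, hZ.fix y hy, hZ.fix x hx]
    obtain ⟨e, he, e1⟩ := (hZm.1 hx).2 c hc
    obtain ⟨f, hf, e2⟩ := (hZm.1 hy).2 c hc
    rw [← e1, ← e2, ← mul_smul, ← hx.1.2 f hf, ← mul_smul y, ← hy.1.2 e he, mul_smul, mul_smul, ← e1,
      ← e2, ← mul_smul, ← mul_smul, hEc e he f hf]
  have hPb : P ⊓ stabilizer G b = ⊥ := eq_bot_iff.2 fun x hx =>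
    h.semireg hZ hZc (hZm.2 ⟨hPC hx.1, fun c hc => (hb2 x hx.1 ⟨hP hx.1, by
      rw [hx.2]; exact self_mem_Orb _ _⟩ c hc).2⟩) hb hx.2
  have hPo : ∀ U : Subgroup G, U ≤ stabilizer G a → (∀ c, c ≠ a → c ∈ Orb U b) →
      (Orb U b).ncard = p ^ 2 := fun U h1 h2 => by
    rw [← h.ncard_ne a]
    congr 1
    refine Set.ext fun c => ⟨?_, h2 c⟩
    rintro ⟨g, hg, rfl⟩
    exact smul_ne_of_fix (h1 hg) hb
  have hPc : Nat.card P = p ^ 2 := by
    rw [← card_Orb_mul P b, hPb, Subgroup.card_bot, mul_one, hPo P hP fun c => htr b c hb]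
  have hH : ¬ p ∣ Nat.card (Hs G a b) := by
    rw [h.card_stab hb, hPc] at hPm
    rwa [Nat.eq_of_mul_eq_mul_left (pow_pos h.prime.pos 2) hPm]
  refine ⟨hH, ?_⟩
  have fin : ∀ U : Subgroup G, NS a U → E ≤ U → (∀ x ∈ U, ∀ y ∈ U, x * y = y * x) →
      (∀ c, c ≠ a → c ∈ Orb U b) → ∃ U E : Subgroup G, SP G Ω a b U ∧ NS a E ∧ E ≤ U ∧
      Nat.card E = p ∧ Nat.card U = p ^ 2 ∧ ∀ x ∈ U, ∀ y ∈ U, x * y = y * x :=
    fun U h1 h2 h3 h4 => ⟨U, E, ⟨hb, h.trans a, h1.fix, h1.conj, h4,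
      fun u hu => h.semireg h1 h3 hu hb, h.faith⟩, hE.toNS, h2, hEp,
      by rw [h.card_semireg h1 h3 hb, hPo U h1.fix h4], h3⟩
  have hEC : E ≤ C := hEP.trans hPC
  -- transfer
  have hCd : Nat.card C ∣ p ^ 2 * Nat.card (Hs G a b) :=
    h.card_stab hb ▸ Subgroup.card_dvd_of_le inf_le_left
  have htrans : ∀ e ∈ E, e ∈ ⁅C, C⁆ → e = 1 := by
    intro e he hec
    have h1 : IsPGroup p (P.subgroupOf C) := hp.comap_subtype
    have h3 : Nat.card (P.subgroupOf C) = p ^ 2 := by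
      rw [Nat.card_congr (Subgroup.subgroupOfEquivOfLe hPC).toEquiv, hPc]
    have h2 : ¬ p ∣ (P.subgroupOf C).index := fun hd => hH (by
      rw [← (P.subgroupOf C).card_mul_index, h3] at hCd
      exact hd.trans (Nat.dvd_of_mul_dvd_mul_left (pow_pos h.prime.pos 2) hCd))
    have : IsMulCommutative (h1.toSylow h2) := IsPGroup.isMulCommutative_of_card_eq_prime_sq h3
    rw [← Subgroup.map_subtype_commutator] at hec
    obtain ⟨e', he', rfl⟩ := hec
    exact congrArg Subtype.val (H4.eq_one_of_mem_commutator_of_abelian_sylow (h1.toSylow h2)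
      (z := e') (hEP he) (fun r _ => Subtype.ext (r.2.2 _ he).symm) he')
  by_cases hC' : ⁅C, C⁆ = ⊥
  · exact fin C hC hEC (fun x hx y hy => Subgroup.commutator_eq_bot_iff_le_centralizer.1 hC' hy x hx)
      fun c hc => Orb_mono hPC b (htr b c hb hc)
  obtain ⟨E₂, hE₂C, hE₂⟩ := hC.commutator.exists_min hC'
  have hσ1 : σ ≠ 1 := by
    rintro rfl
    exact h.prime.one_lt.ne (by simpa using hσo)
  have hCC : ⁅C, C⁆ ≤ C := Subgroup.commutator_le.2 fun x hx y hy =>
    mul_mem (mul_mem (mul_mem hx hy) (inv_mem hx)) (inv_mem hy)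
  obtain ⟨-, hE₂c, hE₂p⟩ := h.min_card hnp hE₂ fun htr₂ => by
    have h1 := card_Orb_mul E₂ b
    rw [hPo E₂ hE₂.fix fun c => htr₂ b c hb] at h1
    have h2 : p ^ 2 ∣ Nat.card (commutator C) := by
      rw [← Subgroup.card_map_of_injective C.subtype_injective, Subgroup.map_subtype_commutator]
      exact (Dvd.intro _ h1).trans (Subgroup.card_dvd_of_le hE₂C)
    have h3 : p ∣ (commutator C).index := by
      rw [← hσo, orderOf_dvd_iff_pow_eq_one]
      refine htrans _ (pow_mem hσ _) ?_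
      rw [← Subgroup.map_subtype_commutator]
      exact ⟨_, (commutator C).pow_index_mem ⟨σ, hEC hσ⟩, rfl⟩
    rw [← (commutator C).card_mul_index] at hCd
    exact hH (Nat.dvd_of_mul_dvd_mul_left (pow_pos h.prime.pos 2) ((Nat.mul_dvd_mul h2 h3).trans hCd))
  let A : Subgroup G := C ⊓ Subgroup.centralizer (E₂ : Set G)
  have hA : NS a A := hC.inf_cent' hE₂.toNS
  let U : Subgroup G := A ⊓ Subgroup.centralizer (A : Set G)
  have hU : NS a U := hA.inf_cent' hA
  have hUc : ∀ x ∈ U, ∀ y ∈ U, x * y = y * x := fun x hx y hy => hy.2 x hx.1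
  have hEU : E ≤ U := fun e he => ⟨⟨hEC he, fun f hf => ((hCC (hE₂C hf)).2 e he).symm⟩,
    fun g hg => (hg.1.2 e he).symm⟩
  have hE₂U : E₂ ≤ U := fun e he => ⟨⟨hCC (hE₂C he), fun f hf => hE₂c f hf e he⟩,
    fun g hg => (hg.2 e he).symm⟩
  refine fin U hU hEU hUc fun c hc => ?_
  rcases h.orb_cases hU (fun e => hE.ne (eq_bot_iff.2 (e ▸ hEU))) with h1 | h1
  · have h2 := h.card_semireg hU hUc hb
    rw [h1 b hb] at h2
    have h3 : E₂ = U := Subgroup.eq_of_le_of_card_ge hE₂U (by rw [h2, hE₂p])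
    exact absurd (htrans σ hσ (hE₂C (h3.ge (hEU hσ)))) hσ1
  · exact h1 b c hb hc

theorem main {a : Ω}
    (hnp : ¬ IsPreprimitive (stabilizer G a) (SubMulAction.ofStabilizer G a)) :
    p = 2 ∧ Nat.card G = 20 := by
  have := h.finite
  have := Fact.mk h.prime
  have hp2 := h.prime.two_le
  obtain ⟨b, hb⟩ := h.exists_ne a
  obtain ⟨hH, U, E, sp, hE, hEU, hEp, hUp, hUc⟩ := h.exists_sp hb hnp
  obtain ⟨σ, hσ, hσo, hgen⟩ := exists_gen_of_card_prime h.prime hEp
  obtain ⟨x, hx, hxE⟩ : ∃ x ∈ U, x ∉ E := by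
    by_contra! hcon
    have := Subgroup.card_le_of_le (hcon : U ≤ E)
    rw [hEp, hUp] at this
    nlinarith
  have hdec : ∀ u ∈ U, ∃ j : ℕ, ∃ e ∈ E, u = x ^ j * e := by
    let V : Subgroup G := (Subgroup.zpowers x ⊔ E)
    have hVU : V ≤ U := sup_le ((Subgroup.zpowers_le).2 hx) hEU
    have hV : V = U := by
      refine Subgroup.eq_of_le_of_card_ge hVU ?_
      have h1 := Subgroup.card_dvd_of_le hVU
      rw [hUp] at h1 ⊢
      obtain ⟨i, hi, e⟩ := (Nat.dvd_prime_pow h.prime).1 h1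
      have h2 := Subgroup.card_le_of_le (le_sup_right : E ≤ V)
      interval_cases i
      · rw [e, hEp, pow_zero] at h2
        omega
      · have h3 : E = V := Subgroup.eq_of_le_of_card_ge le_sup_right (by rw [e, hEp, pow_one])
        exact absurd (h3.ge ((le_sup_left : _ ≤ V) (Subgroup.mem_zpowers x))) hxE
      · exact e.ge
    let W : Subgroup G :=
      { carrier := {u | ∃ z ∈ Subgroup.zpowers x, ∃ e ∈ E, u = z * e}
        one_mem' := ⟨1, one_mem _, 1, one_mem _, by simp⟩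
        mul_mem' := by
          rintro _ _ ⟨z, hz, e, he, rfl⟩ ⟨z', hz', e', he', rfl⟩
          exact ⟨z * z', mul_mem hz hz', e * e', mul_mem he he', by
            rw [mul_assoc, ← mul_assoc e, hUc e (hEU he) z' ((Subgroup.zpowers_le).2 hx hz')]; group⟩
        inv_mem' := by
          rintro _ ⟨z, hz, e, he, rfl⟩
          exact ⟨z⁻¹, inv_mem hz, e⁻¹, inv_mem he, by
            rw [mul_inv_rev, hUc _ (hEU (inv_mem he)) _ ((Subgroup.zpowers_le).2 hx (inv_mem hz))]⟩ }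
    have hVW : V ≤ W := sup_le (fun z hz => ⟨z, hz, 1, one_mem _, by simp⟩)
      fun e he => ⟨1, one_mem _, e, he, by simp⟩
    intro u hu
    obtain ⟨z, hz, e, he, rfl⟩ := hVW (hV.ge hu)
    obtain ⟨n, rfl⟩ := (mem_powers_iff_mem_zpowers.2 hz : z ∈ Submonoid.powers x)
    exact ⟨n, e, he, rfl⟩
  have cop : ∀ k ∈ Hs G a b, k * σ = σ * k → ∀ e ∈ E, k * x * k⁻¹ = x * e → k = 1 := by
    intro k hk h1 e he h2
    have h3 : Commute k e := by
      obtain ⟨n, rfl⟩ := hgen e he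
      exact Commute.pow_right h1 n
    have h4 : ∀ n : ℕ, k ^ n * x * (k ^ n)⁻¹ = x * e ^ n := by
      intro n
      induction n with
      | zero => simp
      | succ n ih =>
        calc k ^ (n + 1) * x * (k ^ (n + 1))⁻¹ = k * (k ^ n * x * (k ^ n)⁻¹) * k⁻¹ := by group
          _ = k * x * k⁻¹ * (k * e ^ n) * k⁻¹ := by rw [ih]; group
          _ = _ := by rw [h2, (h3.pow_right n).eq]; group
    have h5 := h4 (Nat.card (Hs G a b))
    rw [show k ^ Nat.card (Hs G a b) = 1 from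
      congrArg Subtype.val (pow_card_eq_one' (x := (⟨k, hk⟩ : Hs G a b)))] at h5
    have h6 : e ^ Nat.card (Hs G a b) = 1 := by simpa using h5
    have h7 : e ^ p = 1 := hEp ▸ congrArg Subtype.val (pow_card_eq_one' (x := (⟨e, he⟩ : E)))
    have h8 : e = 1 := by
      have := pow_gcd_eq_one.2 ⟨h7, h6⟩
      rwa [(Nat.Prime.coprime_iff_not_dvd h.prime).2 hH, pow_one] at this
    rw [h8, mul_one, mul_inv_eq_iff_eq_mul] at h2
    refine sp.eq_one_of_cent hk fun u hu => ?_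
    obtain ⟨j, f, hf, rfl⟩ := hdec u hu
    obtain ⟨n, rfl⟩ := hgen f hf
    exact ((Commute.pow_right h2 j).mul_right (Commute.pow_right h1 n)).eq
  by_cases h2 : p = 2
  · subst h2
    refine ⟨rfl, ?_⟩
    have h1 : Hs G a b = ⊥ := eq_bot_iff.2 fun k hk => by
      obtain ⟨j, e, he, h3⟩ := hdec _ (sp.conjH hk hx)
      have hx2 : x ^ 2 ∈ E := by
        have : (E.subgroupOf U).index = 2 := by
          have := (E.subgroupOf U).card_mul_index
          rw [Nat.card_congr (Subgroup.subgroupOfEquivOfLe hEU).toEquiv, hEp, hUp] at this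
          omega
        exact Subgroup.sq_mem_of_index_two this ⟨x, hx⟩
      refine cop k hk ?_ (x ^ (j - 1) * e) ?_ ?_
      · obtain ⟨n, hn⟩ := hgen _ (hE.conj k hk.1 σ hσ)
        rw [← pow_mod_orderOf, hσo] at hn
        rcases Nat.mod_two_eq_zero_or_one n with e | e
        · rw [e, pow_zero, conj_eq_one_iff] at hn
          rw [hn, mul_one, one_mul]
        · rw [e, pow_one] at hn
          exact mul_inv_eq_iff_eq_mul.1 hn
      · rcases Nat.even_or_odd' j with ⟨i, rfl | rfl⟩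
        · refine absurd ?_ hxE
          have := hE.conj' hk.1 (h3 ▸ mul_mem (pow_mul x 2 i ▸ pow_mem hx2 i) he)
          simpa [mul_assoc] using this
        · rw [Nat.add_sub_cancel, pow_mul]
          exact mul_mem (pow_mem hx2 i) he
      · rcases j with _ | j
        · refine absurd ?_ hxE
          have := hE.conj' hk.1 (h3 ▸ mul_mem (pow_zero x ▸ E.one_mem) he)
          simpa [mul_assoc] using this
        · rw [h3, Nat.add_sub_cancel, pow_succ', mul_assoc]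
    rw [h.card_G hb, h1, Subgroup.card_bot]
    norm_num
  exfalso
  have hHc : ∀ k ∈ Hs G a b, ∀ l ∈ Hs G a b, k * l = l * k := by
    intro k hk l hl
    obtain ⟨i, hi⟩ := hgen _ (hE.conj k hk.1 σ hσ)
    obtain ⟨j, hj⟩ := hgen _ (hE.conj l hl.1 σ hσ)
    have key : ∀ k ∈ Hs G a b, ∀ l ∈ Hs G a b, ∀ i j : ℕ, ∀ e ∈ E, ∀ f ∈ E,
        k * x * k⁻¹ = x ^ i * e → l * x * l⁻¹ = x ^ j * f →
        ∃ g ∈ E, k * l * x * (k * l)⁻¹ = x ^ (i * j) * g := by
      intro k hk l hl i j e he f hf h1 h2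
      refine ⟨e ^ j * (k * f * k⁻¹), mul_mem (pow_mem he j) (hE.conj k hk.1 f hf), ?_⟩
      calc _ = k * (l * x * l⁻¹) * k⁻¹ := by group
        _ = (k * x * k⁻¹) ^ j * (k * f * k⁻¹) := by rw [h2, conj_pow]; group
        _ = _ := by
          rw [h1, Commute.mul_pow (hUc _ (pow_mem hx i) e (hEU he)), ← pow_mul, mul_assoc]
    obtain ⟨i', e, he, h1⟩ := hdec _ (sp.conjH hk hx)
    obtain ⟨j', f, hf, h2⟩ := hdec _ (sp.conjH hl hx)
    obtain ⟨g, hg, h3⟩ := key k hk l hl i' j' e he f hf h1 h2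
    obtain ⟨g', hg', h4⟩ := key l hl k hk j' i' f hf e he h2 h1
    have hlk := mul_mem hl hk
    refine (inv_mul_eq_one.1 (cop _ (mul_mem (inv_mem hlk) (mul_mem hk hl)) ?_
      ((l * k)⁻¹ * (g'⁻¹ * g) * (l * k)) (hE.conj' hlk.1 (mul_mem (inv_mem hg') hg)) ?_)).symm
    · have h5 : k * l * σ * (k * l)⁻¹ = l * k * σ * (l * k)⁻¹ := by
        calc _ = k * (l * σ * l⁻¹) * k⁻¹ := by group
          _ = σ ^ (i * j) := by rw [hj, ← conj_pow, hi, ← pow_mul]
          _ = l * (k * σ * k⁻¹) * l⁻¹ := by rw [hi, ← conj_pow, hj, ← pow_mul, mul_comm]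
          _ = _ := by group
      calc _ = (l * k)⁻¹ * (k * l * σ * (k * l)⁻¹) * (k * l) := by group
        _ = _ := by rw [h5]; group
    · calc _ = (l * k)⁻¹ * (k * l * x * (k * l)⁻¹) * (l * k) := by group
        _ = (l * k)⁻¹ * (l * k * x * (l * k)⁻¹ * (g'⁻¹ * g)) * (l * k) := by
          rw [h3, h4, mul_comm i']; group
        _ = _ := by group
  have h3 : ∀ k ∈ Hs G a b, ∀ c, c ≠ a → c ≠ b → k • c = c → k = 1 := by
    intro k hk c hca hcb hc
    by_contra hk1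
    obtain ⟨u, hu, rfl⟩ := sp.trans c hca
    have hku := (sp.fix_iff hk hu).1 hc
    have hu1 : u ≠ 1 := by
      rintro rfl
      exact hcb (one_smul _ _)
    let V : Subgroup G := U ⊓ Subgroup.centralizer {k}
    have hV := sp.card_set {c | k • c = c} V inf_le_left hk.1 fun v hv =>
      (sp.fix_iff hk hv).trans ⟨fun e => ⟨hv, Subgroup.mem_centralizer_singleton_iff.2 e.symm⟩,
        fun e => (Subgroup.mem_centralizer_singleton_iff.1 e.2).symm⟩
    have hVp : Nat.card V = p := by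
      have h1 : Nat.card V ∣ _ := Subgroup.card_dvd_of_le (inf_le_left : V ≤ U)
      rw [hUp] at h1
      obtain ⟨i, hi, e⟩ := (Nat.dvd_prime_pow h.prime).1 h1
      interval_cases i
      · have : u ∈ V := ⟨hu, Subgroup.mem_centralizer_singleton_iff.2 hku.symm⟩
        rw [Subgroup.card_eq_one.1 e] at this
        exact absurd this hu1
      · rw [e, pow_one]
      · have h4 : V = U := Subgroup.eq_of_le_of_card_ge inf_le_left (by rw [e, hUp])
        exact absurd (sp.eq_one_of_cent hk fun v hv =>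
          (Subgroup.mem_centralizer_singleton_iff.1 (h4.ge hv).2).symm) hk1
    obtain ⟨g, hg, hga, -⟩ := sp.cent_swap (X := {k}) (fun _ e => e ▸ hk) hu hu1
      (fun _ e => e ▸ hku)
    refine h.no_line hb (K := Subgroup.centralizer {k})
      (fun l hl => Subgroup.mem_centralizer_singleton_iff.2 (hHc l hl k hk)) ?_
    rw [← hVp, ← hV, Nat.card_coe_set_eq]
    congr 1
    refine Set.Subset.antisymm ?_ fun c hc => ?_
    · rintro _ ⟨l, hl, rfl⟩
      change k • l • a = _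
      rw [← mul_smul, ← Subgroup.mem_centralizer_singleton_iff.1 hl, mul_smul, hk.1]
    · rcases sp.cases c with rfl | ⟨v, hv, rfl⟩
      · exact self_mem_Orb _ _
      · exact ⟨v * g, mul_mem (Subgroup.mem_centralizer_singleton_iff.2 ((sp.fix_iff hk hv).1 hc).symm)
          (Subgroup.mem_centralizer_singleton_iff.2 (hg k rfl).symm), by rw [mul_smul, hga]⟩
  have hn : ¬ RegN G Ω := by
    rintro ⟨R, hR, hR1, hR2⟩
    obtain ⟨-, q, hq, hRq⟩ := comm_of_conj_trans (R := R) fun x hx y hy hx1 hy1 => by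
      obtain ⟨g, -, -, e⟩ := conj_of_regular_normal (M := ⊤) (R := R)
        (fun h1 h2 => (h.two h1 h2).imp fun _ e => ⟨trivial, e⟩)
        (fun g _ r hr => hR.conj_mem r hr g) a (hR2 a) hx hy hx1 hy1
      exact ⟨g, fun r hr => hR.conj_mem' r hr g, e⟩
    have := Fact.mk hq
    obtain ⟨n, hn⟩ := IsPGroup.iff_card.1 (show IsPGroup q R from fun r =>
      ⟨1, Subtype.ext (by simpa using hRq r r.2)⟩)
    have h1 := card_Orb_mul R a
    rw [show R ⊓ stabilizer G a = ⊥ from eq_bot_iff.2 fun r hr => hR2 a r hr.1 hr.2,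
      Subgroup.card_bot, mul_one, show Orb R a = Set.univ from Set.eq_univ_of_forall (hR1 a),
      Set.ncard_univ, h.card, hn] at h1
    obtain ⟨m, hm⟩ := h.prime.odd_of_ne_two h2
    have h4 : q ^ n = 4 * (m * m + m) + 2 := by rw [← h1, hm]; ring
    have h5 : q = 2 := ((Nat.prime_dvd_prime_iff_eq Nat.prime_two hq).1
      (Nat.prime_two.dvd_of_dvd_pow (n := n) (by rw [h4]; omega))).symm
    subst h5
    rcases n with _ | _ | n
    · omega
    · omega
    · rw [pow_add, pow_add] at h4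
      omega
  have hZ := h.toT2.zass hn a fun g a' b' c' h1 h2 h4 e1 e2 e3 => by
    obtain ⟨l, rfl, rfl⟩ := h.two hb.symm h1
    have := h3 (l⁻¹ * g * l) ⟨by
      change _ • _ = _
      rw [mul_smul, mul_smul, e1, inv_smul_smul], by
      change _ • _ = _
      rw [mul_smul, mul_smul, e2, inv_smul_smul]⟩ (l⁻¹ • c')
      (fun e => h4 (by rw [← e, smul_inv_smul])) (fun e => h2 (by rw [← e, smul_inv_smul]))
      (by rw [mul_smul, mul_smul, smul_inv_smul, e3])
    calc g = l * (l⁻¹ * g * l) * l⁻¹ := by group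
      _ = 1 := by rw [this]; group
  have hT := ZT.of_zass hZ
  have hk := hT.card_ker hb
  rw [h.card, Nat.add_right_cancel_iff] at hk
  have hUk : U = zker G a := Subgroup.eq_of_le_of_card_ge (fun u hu => hT.mem_ker.2
    ⟨sp.fix u hu, or_iff_not_imp_left.2 fun hu1 c hc => by
      by_contra hca
      exact hu1 (sp.free' hu hca hc)⟩) (by rw [hk, hUp])
  rcases feit_bound hZ hb.symm with h1 | ⟨-, u, hu, v, hv, h1⟩
  · rcases irreducible_of_large hT hb.symm le_rfl h1 E (hUk ▸ hEU)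
      (fun k hk e he => hE.conj k hk.1 e he) with e | e
    · rw [e, Subgroup.card_bot] at hEp
      omega
    · rw [e, hk] at hEp
      nlinarith
  · exact h1 (hUc u (hUk.ge hu) v (hUk.ge hv))

end SQ

end Cfsg.Agent.H12
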