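/-
A TI-subgroup inverted by an involution, many involutions: involutions with at least three
fixed points.
-/
import Cfsg.Agent.H12.TIInv2
import Cfsg.Agent.H2.FpfCyclic
import Cfsg.Agent.H11.Plane
import Cfsg.Agent.S1230
import Cfsg.Agent.S2503

set_option autoImplicit false

namespace Cfsg.Agent.H12

open Cfsg MulAction

theorem conj_mul_self {G : Type*} [Group G] {z : G} (h : z * z = 1) (k : G) :
    k⁻¹ * z * k * (k⁻¹ * z * k) = 1 := by
  calc _ = k⁻¹ * (z * z) * k := by group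
    _ = 1 := by rw [h]; group

structure TI3 (G Ω : Type*) [Group G] [MulAction G Ω] (a b c : Ω) (M : Subgroup G) (z : G) : Prop
    extends TI1 G Ω a M z where
  ba : b ≠ a
  ca : c ≠ a
  cb : c ≠ b
  zb : z • b = b
  zc : z • c = c

namespace TI3

variable {G Ω : Type*} [Group G] [Finite G] [MulAction G Ω] {a b c : Ω} {M : Subgroup G} {z : G}
  (h : TI3 G Ω a b c M z)
include h

theorem swap_comm {d e : Ω} (hde : d ≠ e) (hd : z • d = d) (he : z • e = e) {u : G}
    (h1 : u • d = e) (h2 : u • e = d) : u * z = z * u := by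
  have := h.swap_inv hde h1 h2 hd he
  rwa [inv_eq_of_mul_eq_one_right h.zz] at this

omit [Finite G] h in
theorem cent_F {y : G} (hy : y * z = z * y) {d : Ω} (hd : z • d = d) : z • y • d = y • d := by
  rw [← mul_smul, ← hy, mul_smul, hd]

theorem cent_swap {y : G} (hy : y * z = z * y) (hya : y • a ≠ a) : y • y • a = a := by
  obtain ⟨u, -, ua, ud, -⟩ := h.swap_inv0 hya
  have hu := h.swap_comm hya (cent_F hy h.za) h.za ud ua
  have := h.cent_fix (k := u * y) (by rw [mul_smul, ud])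
    ((show Commute u z from hu).mul_left hy) (cent_F hy h.za)
  rw [mul_smul] at this
  exact smul_left_cancel u (this.trans ua.symm)

theorem cent_sq {y : G} (hy : y * z = z * y) : y * y = 1 := by
  by_cases hya : y • a = a
  · obtain ⟨u1, -, a1, b1, -⟩ := h.swap_inv0 h.ba
    obtain ⟨u2, -, a2, c2, -⟩ := h.swap_inv0 h.ca
    have hw : u1 * u2 * z = z * (u1 * u2) :=
      (show Commute u1 z from h.swap_comm h.ba h.zb h.za b1 a1).mul_left
        (h.swap_comm h.ca h.zc h.za c2 a2)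
    have hne : (u1 * u2) • a ≠ a := by
      rw [mul_smul, a2, ← b1]
      exact fun e => h.cb (smul_left_cancel u1 e)
    have i1' := h.swap_inv h.ba b1 a1 (x := y⁻¹)
      (inv_smul_eq_iff.2 (h.cent_fix hya hy h.zb).symm) (inv_smul_eq_iff.2 hya.symm)
    have i2 := h.swap_inv h.ca c2 a2 (h.cent_fix hya hy h.zc) hya
    have i3 := h.swap_inv hne (h.cent_swap hw hne) rfl (h.cent_fix hya hy (cent_F hw h.za)) hya
    rw [mul_assoc, i2, ← mul_assoc, i1', inv_inv, mul_assoc, mul_left_inj] at i3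
    exact mul_eq_one_iff_eq_inv.2 i3
  · exact h.swap_sq hya (h.cent_swap hy hya) rfl

theorem pair {d e : Ω} (hde : d ≠ e) : ∃ w : G, (∃ k : G, k⁻¹ * z * k = w) ∧ w • d = d ∧
    w • e = e ∧ ∀ k : G, k • d = d → k • e = e → k = 1 ∨ k = w := by
  obtain ⟨w, ⟨g, rfl⟩, wd, we⟩ := h.exists_invol hde
  refine ⟨_, ⟨g, rfl⟩, wd, we, fun k kd ke => ?_⟩
  by_cases k1 : k = 1
  · exact Or.inl k1
  have h1 := h.H_comm hde kd ke wd we
  have h2 := h.cent_sq (y := g * k * g⁻¹) (by
    calc g * k * g⁻¹ * z = g * (k * (g⁻¹ * z * g)) * g⁻¹ := by group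
      _ = _ := by rw [h1]; group)
  refine Or.inr (h.invol_unique hde k1 ?_ (conj_ne_one h.z1 g) (conj_mul_self h.zz g) kd ke wd we)
  calc k * k = g⁻¹ * (g * k * g⁻¹ * (g * k * g⁻¹)) * g := by group
    _ = 1 := by rw [h2]; group

theorem K_eq {k : G} (ka : k • a = a) (kb : k • b = b) : k = 1 ∨ k = z := by
  obtain ⟨w, -, -, -, hw⟩ := h.pair h.ba
  rw [(hw z h.zb h.za).resolve_left h.z1]
  exact hw k kb ka

theorem stab_eq {n : G} (hn : n • a = a) : n ∈ M ∨ ∃ x ∈ M, n = x * z := by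
  obtain ⟨x, hx, k, ka, kb, rfl⟩ := h.dec h.ba hn
  rcases h.K_eq ka kb with rfl | rfl
  · exact Or.inl (by simpa using hx)
  · exact Or.inr ⟨x, hx, rfl⟩

theorem mul_z_sq {x : G} (hx : x ∈ M) : x * z * (x * z) = 1 := by
  rw [mul_assoc, ← mul_assoc z, h.inverts h.z1 h.zz h.za hx, mul_inv_cancel]

theorem mem_of_odd {n : G} (hn : n • a = a) (ho : Odd (orderOf n)) : n ∈ M := by
  rcases h.stab_eq hn with h1 | ⟨x, hx, rfl⟩
  · exact h1
  · rw [eq_one_of_sq_odd ho (h.mul_z_sq hx)]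
    exact M.one_mem

theorem mem_of_comm {x g : G} (hx : x ∈ M) (hx1 : x ≠ 1) (e : g * x = x * g) : g ∈ M := by
  refine h.mem_of_odd ?_ (h.odd x hx hx1 g e)
  by_contra hne
  exact hx1 (h.free hne hx (by rw [← mul_smul, ← e, mul_smul, h.fix x hx]))

theorem card_G : Nat.card G = Nat.card Ω * (Nat.card M * 2) := by
  rw [card_eq_mul_stab h.tr, h.card_stab h.ba]
  congr 2
  rw [Nat.card_eq_two_iff]
  refine ⟨1, ⟨z, h.za, h.zb⟩, fun e => h.z1 (congrArg Subtype.val e).symm, ?_⟩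
  exact Set.eq_univ_of_forall fun k => (h.K_eq k.2.1 k.2.2).imp Subtype.ext Subtype.ext

theorem card_C : Nat.card (Subgroup.centralizer ({z} : Set G)) =
    Nat.card {d : Ω // z • d = d} * 2 := by
  have h1 := card_pre_fiber (fun y : Subgroup.centralizer ({z} : Set G) => (y : G) • a) 2
    (fun l => by
      rw [Nat.card_eq_two_iff]
      refine ⟨⟨l, rfl⟩, ⟨l * ⟨z, Subgroup.mem_centralizer_singleton_iff.2 rfl⟩, by
        simp [mul_smul, h.za]⟩, fun e => h.z1 (by simpa [Subtype.ext_iff] using e), ?_⟩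
      refine Set.eq_univ_of_forall fun ⟨y, hy⟩ => ?_
      have hc := Subgroup.mem_centralizer_singleton_iff.1 (mul_mem (inv_mem l.2) y.2)
      have ha : ((l : G)⁻¹ * y) • a = a := by rw [mul_smul, hy, inv_smul_smul]
      exact (h.K_eq ha (h.cent_fix ha hc h.zb)).imp
        (fun e => Subtype.ext (Subtype.ext (inv_mul_eq_one.1 e).symm))
        (fun e => Subtype.ext (Subtype.ext (inv_mul_eq_iff_eq_mul.1 e)))) (fun _ => True)
  rw [Nat.card_congr (Equiv.subtypeUnivEquiv fun _ => trivial)] at h1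
  rw [h1]
  congr 1
  refine Nat.card_congr (Equiv.subtypeEquivRight fun d => ⟨?_, fun hd => ⟨?_, trivial⟩⟩)
  · rintro ⟨⟨y, rfl⟩, -⟩
    exact cent_F (Subgroup.mem_centralizer_singleton_iff.1 y.2) h.za
  · by_cases e : d = a
    · exact ⟨1, by simp [e]⟩
    · obtain ⟨u, -, ua, ud, -⟩ := h.swap_inv0 e
      exact ⟨⟨u, Subgroup.mem_centralizer_singleton_iff.2 (h.swap_comm e hd h.za ud ua)⟩, ua⟩

theorem card_inv_a : Nat.card {g : G // orderOf g = 2 ∧ g • a = a} = Nat.card M := by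
  refine (Nat.card_eq_of_bijective (fun x : M => (⟨x * z, orderOf_eq_prime
    (by rw [sq, h.mul_z_sq x.2]) (fun e => h.z1 (h.sq_one
      (by rw [eq_inv_of_mul_eq_one_right e]; exact inv_mem x.2) h.zz)),
      by rw [mul_smul, h.za, h.fix x x.2]⟩ : {g : G // orderOf g = 2 ∧ g • a = a})) ⟨?_, ?_⟩).symm
  · intro x y e
    exact Subtype.ext (mul_right_cancel (congrArg Subtype.val e :))
  · rintro ⟨u, hu, ua⟩
    refine ⟨⟨u * z, h.mul_z_mem (by rintro rfl; simp at hu)
      (by rw [← sq, ← hu, pow_orderOf_eq_one]) ua⟩, Subtype.ext ?_⟩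
    simp [mul_assoc, h.zz]

theorem card_inv : Nat.card {g : G // orderOf g = 2} = Nat.card M + (Nat.card Ω - 1) * 2 := by
  classical
  have := h.finite
  have hsq : ∀ {u : G}, orderOf u = 2 → u * u = 1 := fun hu => by
    rw [← sq, ← hu, pow_orderOf_eq_one]
  have h1 := card_pre_fiber (fun u : {g : G // orderOf g = 2 ∧ g • a ≠ a} => u.1 • a) 2
    (fun l => by
      obtain ⟨u, hu, ua⟩ := l
      obtain ⟨w, ⟨k, hk⟩, wd, wa, hw⟩ := h.pair ua
      have uu : u • u • a = a := by rw [← mul_smul, hsq hu, one_smul]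
      have e1 : (u * w) • a = u • a := by rw [mul_smul, wa]
      rw [Nat.card_eq_two_iff]
      refine ⟨⟨⟨u, hu, ua⟩, rfl⟩, ⟨⟨u * w, orderOf_eq_prime (by
        rw [sq]; exact h.swap_sq ua (by rw [mul_smul, wd, uu]) e1)
        (fun e => ua (by rw [← e1, e, one_smul])), e1 ▸ ua⟩, e1⟩,
        fun e => conj_ne_one h.z1 k (by simpa [Subtype.ext_iff, hk] using e), ?_⟩
      ext ⟨⟨v, hv, va⟩, e⟩
      have e' : v • a = u • a := e
      have := hw (u⁻¹ * v) (by
        rw [mul_smul, inv_smul_eq_iff, uu, ← e', ← mul_smul, hsq hv, one_smul])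
        (by rw [mul_smul, e', inv_smul_smul])
      simpa [Subtype.ext_iff, inv_mul_eq_iff_eq_mul] using this) (fun _ => True)
  rw [Nat.card_congr (Equiv.subtypeUnivEquiv fun _ => trivial)] at h1
  have h2 : Nat.card {x // x ∈ Set.range (fun u : {g : G // orderOf g = 2 ∧ g • a ≠ a} =>
      u.1 • a) ∧ True} = Nat.card Ω - 1 := by
    rw [← card_ne_point a, Nat.add_sub_cancel]
    refine Nat.card_congr (Equiv.subtypeEquivRight fun d => ⟨?_, fun hd => ⟨?_, trivial⟩⟩)
    · rintro ⟨⟨y, rfl⟩, -⟩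
      exact y.2.2
    · obtain ⟨u, uu, ua, -, -⟩ := h.swap_inv0 hd
      exact ⟨⟨u, orderOf_eq_prime (by rw [sq, uu]) (by
        rintro rfl; exact hd (by simpa using ua.symm)), ua ▸ hd⟩, ua⟩
  rw [← h2, ← h1, ← h.card_inv_a, ← Nat.card_sum]
  exact Nat.card_congr
    { toFun := fun g => if e : g.1 • a = a then Sum.inl ⟨g.1, g.2, e⟩ else Sum.inr ⟨g.1, g.2, e⟩
      invFun := fun s => s.elim (fun g => ⟨g.1, g.2.1⟩) (fun g => ⟨g.1, g.2.1⟩)
      left_inv := fun g => by by_cases e : g.1 • a = a <;> simp [e]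
      right_inv := by
        rintro (g | g)
        · simp [g.2.2]
        · simp [g.2.2] }

theorem three_le : 3 ≤ Nat.card {d : Ω // z • d = d} := by
  have := h.finite
  have := Nat.card_le_card_of_injective (fun j : Fin 3 => (![⟨a, h.za⟩, ⟨b, h.zb⟩, ⟨c, h.zc⟩] j :
    {x : Ω // z • x = x})) (by
      have := h.ba; have := h.ca; have := h.cb
      intro j k e
      fin_cases j <;> fin_cases k <;> simp_all [eq_comm])
  simpa using this

theorem isPGroup_C : IsPGroup 2 (Subgroup.centralizer ({z} : Set G)) := fun x =>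
  ⟨1, Subtype.ext (by
    simpa [sq] using h.cent_sq (Subgroup.mem_centralizer_singleton_iff.1 x.2))⟩

theorem case_conj (hall : ∀ s : G, orderOf s = 2 → ∃ k : G, k⁻¹ * z * k = s) :
    ∃ (F : Type) (_ : Field F) (_ : Fintype F) (e : ℕ), 1 < e ∧ Fintype.card F = 2 ^ e ∧
      IsCyclic M ∧ Nat.card M = 2 ^ e + 1 ∧
      Nonempty (G ≃* Matrix.ProjectiveSpecialLinearGroup (Fin 2) F) := by
  have := h.finite
  have hz2 : orderOf z = 2 := orderOf_eq_prime (by rw [sq, h.zz]) h.z1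
  have hel : ∀ t : G, orderOf t = 2 → ∀ y ∈ Subgroup.centralizer ({t} : Set G), y * y = 1 :=
    fun t ht y hy => by
      obtain ⟨k, rfl⟩ := hall t ht
      have h1 := Subgroup.mem_centralizer_singleton_iff.1 hy
      have h2 := h.cent_sq (y := k * y * k⁻¹) (by
        calc k * y * k⁻¹ * z = k * (y * (k⁻¹ * z * k)) * k⁻¹ := by group
          _ = _ := by rw [h1]; group)
      calc y * y = k⁻¹ * (k * y * k⁻¹ * (k * y * k⁻¹)) * k := by group
        _ = 1 := by rw [h2]; group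
  have hcm : ∀ t : G, orderOf t = 2 → ∀ x ∈ Subgroup.centralizer ({t} : Set G),
      ∀ y ∈ Subgroup.centralizer ({t} : Set G), x * y = y * x := fun t ht x hx y hy => by
    rw [← inv_eq_of_mul_eq_one_right (hel t ht _ (mul_mem hx hy)), mul_inv_rev,
      inv_eq_of_mul_eq_one_right (hel t ht x hx), inv_eq_of_mul_eq_one_right (hel t ht y hy)]
  obtain ⟨T, hT⟩ := h.isPGroup_C.exists_le_sylow
  have hzT : z ∈ (T : Subgroup G) := hT (Subgroup.mem_centralizer_singleton_iff.2 rfl)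
  have hTC : (T : Subgroup G) = Subgroup.centralizer ({z} : Set G) := by
    refine le_antisymm (fun y hy => ?_) hT
    have : Nontrivial T := ⟨⟨z, hzT⟩, 1, fun e => h.z1 (congrArg Subtype.val e)⟩
    have := T.isPGroup'.center_nontrivial
    obtain ⟨⟨w, hw⟩, hw1⟩ := exists_ne (1 : Subgroup.center T)
    have hw' : ∀ x ∈ (T : Subgroup G), x ∈ Subgroup.centralizer ({(w : G)} : Set G) := fun x hx =>
      Subgroup.mem_centralizer_singleton_iff.2
        (congrArg Subtype.val (Subgroup.mem_center_iff.1 hw ⟨x, hx⟩))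
    have h2 : orderOf (w : G) = 2 := orderOf_eq_prime (by
      rw [sq]; exact h.cent_sq (Subgroup.mem_centralizer_singleton_iff.1 (hw' z hzT)).symm)
      (fun e => hw1 (Subtype.ext (Subtype.ext e)))
    exact Subgroup.mem_centralizer_singleton_iff.2 (hcm _ h2 y (hw' y hy) z (hw' z hzT))
  have h3 := h.three_le
  have hcC := h.card_C
  obtain ⟨F, _, _, hF, ⟨e⟩⟩ := S1230.result T (fun hc => by
      obtain ⟨g, hg⟩ := hc.exists_ofOrder_eq_natCard
      have h1 : orderOf g ∣ 2 := orderOf_dvd_of_pow_eq_one (Subtype.ext (by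
        simpa [sq] using hel z hz2 g (hTC ▸ g.2)))
      have := Nat.le_of_dvd two_pos h1
      rw [hg, hTC] at this
      omega) (fun hn => by
      obtain ⟨x, hx, hx1⟩ := h.ne
      have h1 : x * z * x⁻¹ * z ∈ (T : Subgroup G) := mul_mem (hn.conj_mem z hzT x) hzT
      rw [mul_assoc x, mul_assoc x, h.inverts h.z1 h.zz h.za (inv_mem hx), inv_inv] at h1
      exact hx1 (h.sq_one hx (h.sq_one (mul_mem hx hx) (hel z hz2 _ (hTC ▸ h1)))))
    (fun t ht => ⟨H2.isMulCommutative_of_forall (hcm t ht), fun y hy => by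
      rw [sq]; exact hel t ht y hy⟩)
  obtain ⟨k, hk⟩ := IsPGroup.iff_card.1 h.isPGroup_C
  rw [hTC] at hF
  have h4 := card_conj_mul z
  have h5 : Nat.card {s // ∃ k : G, k⁻¹ * z * k = s} = Nat.card {g : G // orderOf g = 2} :=
    Nat.card_congr (Equiv.subtypeEquivRight fun s => ⟨by
      rintro ⟨k, rfl⟩
      exact orderOf_eq_prime (by rw [sq, conj_mul_self h.zz]) (conj_ne_one h.z1 k), hall s⟩)
  have hn := h.card_Ω
  rw [h5, h.card_inv, hcC, h.card_G, hn] at h4
  have hm : Nat.card M = 2 ^ k + 1 := by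
    rw [← hk, hcC]
    have h0 : 0 < Nat.card M := Nat.card_pos
    obtain ⟨r, hr⟩ : ∃ r, Nat.card {d : Ω // z • d = d} = r + 1 := ⟨_, (Nat.sub_add_cancel (by omega)).symm⟩
    rw [hr] at h4 h3 ⊢
    simp only [Nat.add_sub_cancel] at h4
    generalize Nat.card M = m at h0 h4
    have h6 : r * (2 * r + 3) = r * m := by
      apply Nat.eq_of_mul_eq_mul_left (show 0 < 2 * m by omega)
      nlinarith
    have := Nat.eq_of_mul_eq_mul_left (show 0 < r by omega) h6
    omega
  have hk2 : 1 < k := by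
    by_contra hk2
    have : k ≤ 1 := by omega
    interval_cases k <;> omega
  refine ⟨F, inferInstance, inferInstance, k, hk2, hF.trans hk, ?_, hm, ⟨e⟩⟩
  obtain ⟨A, -, hA, hA', -⟩ := S2503.result (F := F) (by rw [hF, hcC]; omega) (by omega)
  obtain ⟨y0, hy0⟩ := hA.exists_ofOrder_eq_natCard
  obtain ⟨y, hy⟩ : ∃ y : G, orderOf y = Nat.card M :=
    ⟨e.symm y0, by rw [MulEquiv.orderOf_eq, Subgroup.orderOf_coe, hy0, hA', hF, hk, hm]⟩
  obtain ⟨p, hp, hpd⟩ := Nat.exists_prime_and_dvd (show Nat.card M ≠ 1 by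
    have := Nat.two_pow_pos k; omega)
  have hx := orderOf_pow_orderOf_div (orderOf_pos y).ne' (hy ▸ hpd : p ∣ orderOf y)
  have hcomm := (Commute.refl y).pow_right (orderOf y / p)
  generalize y ^ (orderOf y / p) = x at hx hcomm
  have h7 := card_modEq_card_fixed (Ω := Ω) hp (t := x) (by rw [← hx, pow_orderOf_eq_one])
  have : Nonempty {d : Ω // x • d = d} := by
    by_contra h0
    rw [not_nonempty_iff] at h0
    rw [Nat.card_of_isEmpty (α := {d : Ω // x • d = d}), Nat.modEq_zero_iff_dvd, hn] at h7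
    exact hp.one_lt.ne' (Nat.dvd_one.1 ((Nat.dvd_add_right (hpd.mul_right _)).1 h7))
  obtain ⟨⟨d, hd⟩⟩ := this
  obtain ⟨g, rfl⟩ := h.tr d
  have hog : ∀ v : G, orderOf (g⁻¹ * v * g) = orderOf v := fun v => by
    simpa using (MulAut.conj g⁻¹).orderOf_eq v
  have h8 : g⁻¹ * x * g ∈ M := h.mem_of_odd (by rw [mul_smul, mul_smul, hd, inv_smul_smul]) (by
    rw [hog, hx]
    refine Odd.of_dvd_nat ?_ hpd
    rw [hm]
    exact (Nat.even_pow.2 ⟨even_two, by omega⟩).add_one)
  have h9 : g⁻¹ * y * g ∈ M := h.mem_of_comm h8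
    (conj_ne_one (fun e => hp.one_lt.ne' (by rw [← hx, e, orderOf_one])) g) (by
      calc _ = g⁻¹ * (y * x) * g := by group
        _ = _ := by rw [hcomm.eq]; group)
  exact isCyclic_of_orderOf_eq_card (⟨_, h9⟩ : M) (by rw [Subgroup.orderOf_mk, hog, hy])

end TI3

end Cfsg.Agent.H12
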