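/-
A TI-subgroup inverted by an involution, many involutions: the affine plane case.
-/
import Cfsg.Agent.H12.TIInv3

set_option autoImplicit false

namespace Cfsg.Agent.H12

open Cfsg MulAction

namespace TI3

variable {G Ω : Type*} [Group G] [Finite G] [MulAction G Ω] {a b c : Ω} {M : Subgroup G} {z : G}
  (h : TI3 G Ω a b c M z)
include h

omit [Finite G] in
theorem conj_order {w : G} (hw : ∃ k : G, k⁻¹ * z * k = w) : orderOf w = 2 := by
  obtain ⟨k, rfl⟩ := hw
  exact orderOf_eq_prime (by rw [sq, conj_mul_self h.zz]) (conj_ne_one h.z1 k)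

theorem conj_unique {d e : Ω} (hde : d ≠ e) {v w : G} (hv : ∃ k : G, k⁻¹ * z * k = v)
    (hw : ∃ k : G, k⁻¹ * z * k = w) (vd : v • d = d) (ve : v • e = e) (wd : w • d = d)
    (we : w • e = e) : v = w := by
  obtain ⟨k, rfl⟩ := hv
  obtain ⟨l, rfl⟩ := hw
  exact h.invol_unique hde (conj_ne_one h.z1 k) (conj_mul_self h.zz k) (conj_ne_one h.z1 l)
    (conj_mul_self h.zz l) vd ve wd we

theorem odd_M : Odd (Nat.card M) := by
  by_contra ho
  obtain ⟨t, ht, t1, tt⟩ := H26.exists_invol_mem (Nat.not_odd_iff_even.1 ho)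
  exact t1 (h.sq_one ht tt)

theorem nums {y : G} (hy : orderOf y = 2) (hy' : ¬ ∃ k : G, k⁻¹ * z * k = y) :
    Nat.card M = Nat.card {d : Ω // z • d = d} + 1 ∧
    Nat.card {s : G // orderOf s = 2 ∧ ¬ ∃ k : G, k⁻¹ * z * k = s} + 1 = Nat.card Ω := by
  classical
  have h1 : Nat.card {g : G // orderOf g = 2} = Nat.card {s // ∃ k : G, k⁻¹ * z * k = s} +
      Nat.card {s : G // orderOf s = 2 ∧ ¬ ∃ k : G, k⁻¹ * z * k = s} := by
    rw [← Nat.card_sum]
    exact Nat.card_congr
      { toFun := fun g => if e : ∃ k : G, k⁻¹ * z * k = g.1 then Sum.inl ⟨g.1, e⟩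
          else Sum.inr ⟨g.1, g.2, e⟩
        invFun := fun s => s.elim (fun g => ⟨g.1, h.conj_order g.2⟩) (fun g => ⟨g.1, g.2.1⟩)
        left_inv := fun g => by by_cases e : ∃ k : G, k⁻¹ * z * k = g.1 <;> simp [e]
        right_inv := by
          rintro (g | g)
          · simp [g.2]
          · simp [g.2.2] }
  have h2 : 0 < Nat.card {s : G // orderOf s = 2 ∧ ¬ ∃ k : G, k⁻¹ * z * k = s} := by
    have : Nonempty {s : G // orderOf s = 2 ∧ ¬ ∃ k : G, k⁻¹ * z * k = s} := ⟨⟨y, hy, hy'⟩⟩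
    exact Nat.card_pos
  have h3 := h.three_le
  have h4 := card_conj_mul z
  have hn := h.card_Ω
  obtain ⟨k, hk⟩ := IsPGroup.iff_card.1 h.isPGroup_C
  rw [h.card_C] at hk
  rw [h.card_C, h.card_G] at h4
  rw [h.card_inv] at h1
  have hcop : (Nat.card {d : Ω // z • d = d}).Coprime (Nat.card M) :=
    Nat.Coprime.coprime_dvd_left (Dvd.intro _ hk)
      (Nat.Coprime.pow_left k (Nat.coprime_two_left.2 h.odd_M))
  have h5 : Nat.card {d : Ω // z • d = d} ∣ Nat.card Ω := hcop.dvd_of_dvd_mul_right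
    ⟨Nat.card {s // ∃ k : G, k⁻¹ * z * k = s}, by linarith⟩
  have hm : 1 < Nat.card M := by
    obtain ⟨x, hx, hx1⟩ := h.ne
    exact Finite.one_lt_card_iff_nontrivial.2 ⟨⟨x, hx⟩, 1, fun e => hx1 (congrArg Subtype.val e)⟩
  clear hk hcop
  revert h1 h2 h3 h4 h5 hm hn
  generalize Nat.card {s // ∃ k : G, k⁻¹ * z * k = s} = i1
  generalize Nat.card {s : G // orderOf s = 2 ∧ ¬ ∃ k : G, k⁻¹ * z * k = s} = i0
  generalize Nat.card {d : Ω // z • d = d} = f
  generalize Nat.card M = m'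
  generalize Nat.card Ω = n
  intro h1 h2 h3 h4 hn h5 hm
  obtain ⟨r, rfl⟩ : ∃ r, f = r + 1 := ⟨_, (Nat.sub_add_cancel (by omega)).symm⟩
  obtain ⟨m, rfl⟩ : ∃ m, m' = m + 1 := ⟨_, (Nat.sub_add_cancel hm.le).symm⟩
  subst hn
  simp only [Nat.add_sub_cancel] at h1 h4 h5 ⊢
  have h6 : r + 1 ∣ m := by
    have : (m + 1) * r + 1 + m = (r + 1) * (m + 1) := by ring
    exact (Nat.dvd_add_right h5).1 (this ▸ Dvd.intro _ rfl)
  obtain ⟨l, rfl⟩ := h6
  have h7 : i0 + ((r + 1) * l + 1) * r * l = ((r + 1) * l + 1) * r * 2 := by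
    apply Nat.eq_of_mul_eq_mul_left (show 0 < (r + 1) * 2 by omega)
    nlinarith
  have h8 : l < 2 := by
    by_contra h8
    have := Nat.mul_le_mul_left (((r + 1) * l + 1) * r) (not_lt.1 h8)
    omega
  have h9 : l ≠ 0 := by rintro rfl; simp at hm
  obtain rfl : l = 1 := by omega
  omega

theorem card_inv_pt (p : Ω) : Nat.card {g : G // orderOf g = 2 ∧ g • p = p} = Nat.card M := by
  obtain ⟨k, rfl⟩ := h.tr p
  rw [← h.card_inv_a]
  exact Nat.card_congr
    { toFun := fun g => ⟨k⁻¹ * g.1 * k, by simpa using ((MulAut.conj k⁻¹).orderOf_eq g.1).trans g.2.1,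
        by rw [mul_smul, mul_smul, g.2.2, inv_smul_smul]⟩
      invFun := fun g => ⟨k * g.1 * k⁻¹, ((MulAut.conj k).orderOf_eq g.1).trans g.2.1,
        by rw [mul_smul, mul_smul, inv_smul_smul, g.2.2]⟩
      left_inv := fun g => Subtype.ext (by simp [mul_assoc])
      right_inv := fun g => Subtype.ext (by simp [mul_assoc]) }

theorem playfair (hm : Nat.card M = Nat.card {d : Ω // z • d = d} + 1) {w w1 w2 : G}
    (hw : ∃ k : G, k⁻¹ * z * k = w) (hw1 : ∃ k : G, k⁻¹ * z * k = w1)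
    (hw2 : ∃ k : G, k⁻¹ * z * k = w2) {p : Ω} (p1 : w1 • p = p) (p2 : w2 • p = p)
    (h1 : ∀ d : Ω, w1 • d = d → w • d ≠ d) (h2 : ∀ d : Ω, w2 • d = d → w • d ≠ d) : w1 = w2 := by
  by_contra hne
  have := h.finite
  have hp : ∀ e : {d : Ω // w • d = d}, p ≠ e.1 := fun e e' => h1 p p1 (e' ▸ e.2)
  choose v hv vp ve using fun e : {d : Ω // w • d = d} => h.exists_invol (hp e)
  have := Nat.card_le_card_of_injective (fun o : Option (Option {d : Ω // w • d = d}) =>
    (match o with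
      | none => ⟨w1, h.conj_order hw1, p1⟩
      | some none => ⟨w2, h.conj_order hw2, p2⟩
      | some (some e) => ⟨v e, h.conj_order (hv e), vp e⟩ :
        {g : G // orderOf g = 2 ∧ g • p = p})) (by
    rintro (_ | _ | e) (_ | _ | e') q <;> have q' := congrArg Subtype.val q
    · rfl
    · exact absurd q' hne
    · exact absurd e'.2 (h1 _ (by rw [show w1 = v e' from q']; exact ve e'))
    · exact absurd q'.symm hne
    · rfl
    · exact absurd e'.2 (h2 _ (by rw [show w2 = v e' from q']; exact ve e'))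
    · exact absurd e.2 (h1 _ (by rw [← show v e = w1 from q']; exact ve e))
    · exact absurd e.2 (h2 _ (by rw [← show v e = w2 from q']; exact ve e))
    · by_contra hne'
      have hee : e.1 ≠ e'.1 := fun q => hne' (by rw [Subtype.ext q])
      refine h1 p p1 ?_
      rw [h.conj_unique hee hw (hv e) e.2 e'.2 (ve e) (by rw [show v e = v e' from q']; exact ve e')]
      exact vp e)
  obtain ⟨k, rfl⟩ := hw
  rw [Finite.card_option, Finite.card_option, card_fix_conj, h.card_inv_pt] at this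
  omega

theorem case_plane {y : G} (hy : orderOf y = 2) (hy' : ¬ ∃ k : G, k⁻¹ * z * k = y) :
    ∃ (d : ℕ) (E : Subgroup G), 1 ≤ d ∧ E.Normal ∧ Cfsg.IsElementaryAbelian 2 E ∧
      Nat.card E = 2 ^ (2 * d) ∧ E ⊓ stabilizer G a = ⊥ ∧ E ⊔ stabilizer G a = ⊤ ∧
      Nonempty (stabilizer G a ≃* DihedralGroup (2 ^ d + 1)) := by
  have := h.finite
  obtain ⟨hm, hI⟩ := h.nums hy hy'
  have hcj : ∀ {w : G} (g : G), (∃ k : G, k⁻¹ * z * k = w) → ∃ k : G, k⁻¹ * z * k = g * w * g⁻¹ := by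
    rintro _ g ⟨k, rfl⟩
    exact ⟨k * g⁻¹, by group⟩
  let E : Subgroup G :=
    { carrier := {g | ∀ w : G, (∃ k : G, k⁻¹ * z * k = w) →
        g * w * g⁻¹ = w ∨ ∀ d : Ω, (g * w * g⁻¹) • d = d → w • d ≠ d}
      one_mem' := fun w _ => Or.inl (by simp)
      mul_mem' := fun {g k} hg hk w hw => by
        rw [show g * k * w * (g * k)⁻¹ = g * (k * w * k⁻¹) * g⁻¹ by group]
        rcases hg _ (hcj k hw) with e | e
        · rw [e]; exact hk w hw
        rcases hk w hw with e' | e'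
        · rw [e'] at e ⊢; exact Or.inr e
        by_contra! hc
        obtain ⟨hne, d, d1, d2⟩ := hc
        exact hne (h.playfair hm (hcj k hw) (hcj g (hcj k hw)) hw d1 d2 e fun d q q' => e' d q' q)
      inv_mem' := fun {g} hg w hw => by
        rcases hg _ (hcj g⁻¹ hw) with e | e
        · left; rw [← e]; group
        · right
          intro d q q'
          refine e d ?_ q
          rwa [show g * (g⁻¹ * w * g⁻¹⁻¹) * g⁻¹ = w by group] }
  have hN : E.Normal := ⟨fun n hn g w hw => by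
    rcases hn _ (hcj g⁻¹ hw) with e | e
    · left
      calc _ = g * (n * (g⁻¹ * w * g⁻¹⁻¹) * n⁻¹) * g⁻¹ := by group
        _ = w := by rw [e]; group
    · right
      intro d q q'
      refine e (g⁻¹ • d) ?_ ?_
      · rw [eq_inv_smul_iff, ← mul_smul, ← mul_smul, ← q]
        conv_lhs => rw [q]
        congr 1; group
      · rw [inv_inv, mul_smul, mul_smul, smul_inv_smul, q']⟩
  have hreg : ∀ g ∈ E, g • a = a → g = 1 := fun g hg ga => by
    have h1 : ∀ w : G, (∃ k : G, k⁻¹ * z * k = w) → w • a = a → g * w = w * g := fun w hw wa => by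
      rcases hg w hw with e | e
      · exact mul_inv_eq_iff_eq_mul.1 e
      · exact absurd wa (e a (by rw [mul_smul, mul_smul, inv_smul_eq_iff.2 ga.symm, wa, ga]))
    rcases h.K_eq ga (h.cent_fix ga (h1 z ⟨1, by simp⟩ h.za) h.zb) with e | e
    · exact e
    · obtain ⟨x, hx, hx1⟩ := h.ne
      have h2 := h1 _ ⟨x, rfl⟩ (by rw [mul_smul, mul_smul, h.fix x hx, h.za, h.fix _ (inv_mem hx)])
      have h3 := h.inverts h.z1 h.zz h.za hx
      have h4 := h.inverts h.z1 h.zz h.za (inv_mem hx)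
      rw [e, mul_assoc _ z, mul_assoc _ (z * x), mul_assoc z x, ← mul_assoc z x, h3, ← mul_assoc,
        ← mul_assoc, h4, inv_inv, ← mul_inv_rev, ← mul_eq_one_iff_eq_inv] at h2
      exact absurd (h.sq_one hx (h.sq_one (mul_mem hx hx) h2)) hx1
  have hI0 : ∀ s : G, orderOf s = 2 → (¬ ∃ k : G, k⁻¹ * z * k = s) → s ∈ E := fun s hs hs' w hw => by
    have ss : s * s = 1 := by rw [← sq, ← hs, pow_orderOf_eq_one]
    by_contra! hc
    obtain ⟨hne, d, d1, d2⟩ := hc
    have hd : s • d ≠ d := fun e => by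
      obtain ⟨g, rfl⟩ := h.tr d
      obtain ⟨x, -, e'⟩ := h.exists_conj (conj_ne_one (v := s) (by rintro rfl; simp at hs) g)
        (conj_mul_self ss g) (by rw [mul_smul, mul_smul, e, inv_smul_smul])
      exact hs' ⟨(g * x)⁻¹, by
        calc _ = g * (x * z * x⁻¹) * g⁻¹ := by group
          _ = s := by rw [e']; group⟩
    have hi := inv_eq_of_mul_eq_one_right ss
    refine hne (h.conj_unique hd (hcj s hw) hw ?_ d1 ?_ d2)
    · rw [mul_smul, mul_smul, inv_smul_smul, d2]
    · rw [mul_smul, mul_smul, ← eq_inv_smul_iff, hi] at d1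
      exact d1
  let f : E → Ω := fun g => (g : G) • a
  have hf : Function.Injective f := fun g k e => Subtype.ext (inv_mul_eq_one.1 (hreg _
    (mul_mem (inv_mem k.2) g.2) (by rw [mul_smul, inv_smul_eq_iff]; exact e))).symm
  let φ : Option {s : G // orderOf s = 2 ∧ ¬ ∃ k : G, k⁻¹ * z * k = s} → E := fun o =>
    o.elim 1 fun s => ⟨s.1, hI0 s.1 s.2.1 s.2.2⟩
  have hφ : Function.Injective φ := by
    rintro (_ | s) (_ | t) e <;> have e' := congrArg Subtype.val e
    · rfl
    · have := t.2.1; rw [← show 1 = t.1 from e'] at this; simp at this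
    · have := s.2.1; rw [show s.1 = 1 from e'] at this; simp at this
    · rw [Subtype.ext (show s.1 = t.1 from e')]
  have c1 := Nat.card_le_card_of_injective f hf
  have c2 := Nat.card_le_card_of_injective φ hφ
  have c3 := (hφ.bijective_of_nat_card_le (by rw [Finite.card_option]; omega)).2
  rw [Finite.card_option] at c2
  have c4 := (hf.bijective_of_nat_card_le (by omega)).2
  have hsq : ∀ g ∈ E, g * g = 1 := fun g hg => by
    obtain ⟨_ | s, e⟩ := c3 ⟨g, hg⟩ <;> rw [← show _ = g from congrArg Subtype.val e]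
    · simp [φ]
    · have := pow_orderOf_eq_one s.1
      rwa [s.2.1, sq] at this
  obtain ⟨k, hk⟩ := IsPGroup.iff_card.1 h.isPGroup_C
  have h3 := h.three_le
  rw [h.card_C] at hk
  obtain ⟨d, rfl⟩ : ∃ d, k = d + 1 := ⟨k - 1, by
    rcases k with _ | k
    · omega
    · rfl⟩
  have hd : Nat.card {d : Ω // z • d = d} = 2 ^ d := by rw [pow_succ] at hk; omega
  have hE : Nat.card E = 2 ^ (2 * d) := by
    rw [show Nat.card E = Nat.card Ω by omega, h.card_Ω, hm, hd, two_mul, pow_add]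
    obtain ⟨r, hr⟩ : ∃ r, 2 ^ d = r + 1 := ⟨_, (Nat.sub_add_cancel (Nat.two_pow_pos d)).symm⟩
    rw [hr, Nat.add_sub_cancel]; ring
  have hcyc : IsCyclic M := H2.isCyclic_of_fpf_of_comm (K := E)
    (H2.isMulCommutative_of_forall fun x hx y hy => h.comm hx hy) (fun e => by
      have := hI0 y hy hy'
      rw [e, Subgroup.mem_bot] at this
      rw [this] at hy; simp at hy) Subgroup.le_normalizer_of_normal fun x hx hx1 =>
      eq_bot_iff.2 fun g hg => eq_one_of_sq_odd (h.odd x hx hx1 g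
        (Subgroup.mem_centralizer_singleton_iff.1 hg.2)) (hsq g hg.1)
  refine ⟨d, E, ?_, hN, ⟨H2.isMulCommutative_of_forall fun x hx y hy => ?_, fun g hg => ?_⟩, hE,
    eq_bot_iff.2 fun g hg => hreg g hg.1 hg.2, eq_top_iff.2 fun g _ => ?_, ?_⟩
  · rcases d with _ | d
    · omega
    · omega
  · rw [← inv_eq_of_mul_eq_one_right (hsq _ (mul_mem hx hy)), mul_inv_rev,
      inv_eq_of_mul_eq_one_right (hsq x hx), inv_eq_of_mul_eq_one_right (hsq y hy)]
  · rw [sq, hsq g hg]
  · obtain ⟨e, he⟩ := c4 (g • a)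
    rw [← mul_inv_cancel_left (e : G) g]
    exact Subgroup.mul_mem_sup e.2 (by
      rw [mem_stabilizer_iff, mul_smul, inv_smul_eq_iff]; exact he.symm)
  · refine H11.nonempty_equiv_dihedral (C := M) (by rw [hm, hd])
      (Subgroup.inclusion (show M ≤ stabilizer G a from h.fix)) (Subgroup.inclusion_injective _)
      ⟨z, h.za⟩ (Subtype.ext h.zz) (fun x => Subtype.ext ?_) (fun x e => ?_) fun g => ?_
    · change (x : G) * z = z * (x : G)⁻¹
      rw [← h.inverts h.z1 h.zz h.za x.2, ← mul_assoc, ← mul_assoc, h.zz, one_mul]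
    · exact h.z1 (h.sq_one ((show (x : G) = z from congrArg Subtype.val e) ▸ x.2) h.zz)
    · rcases h.stab_eq g.2 with e | ⟨x, hx, e⟩
      · exact ⟨⟨g, e⟩, Or.inl rfl⟩
      · refine ⟨⟨x⁻¹, inv_mem hx⟩, Or.inr (Subtype.ext ?_)⟩
        change (g : G) = z * x⁻¹
        rw [e, ← h.inverts h.z1 h.zz h.za hx, ← mul_assoc, ← mul_assoc, h.zz, one_mul]

end TI3

end Cfsg.Agent.H12
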